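/-
The field with p^2 elements, the standard group of type 3^(1+4) on F^9 and elements normalising it.
Coordinates: the point p : Fin 9 is (p / 3, p % 3) in the plane over ZMod 3.
Main results: `W9`, `dg`, `pm`, `gF`, `R9`, `dg_norm`, `pm_norm`, `gF_norm`, `mon_mem`.
-/
import Cfsg.Agent.Lib.Unitary.MonoNine

set_option autoImplicit false
set_option linter.unusedSectionVars false

namespace Cfsg.Agent.C6NineU

open Matrix Cfsg.Agent.Unitary
open scoped Matrix

variable {F : Type*} [Field F] [Fintype F]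

/-- The field with p^2 elements, p prime and 2 mod 3, with a primitive cube root of one. -/
structure W9 (F : Type*) [Field F] [Fintype F] (p : ℕ) where
  /-- the cube root -/
  ω : F
  rel : ω ^ 2 + ω + 1 = 0
  prime : p.Prime
  mod3 : p % 3 = 2
  card : Fintype.card F = p ^ 2

variable {p : ℕ}

theorem cast_ne_three (hF : Fintype.card F = p ^ 2) (hp : p.Prime) (h3 : p % 3 = 2) : (3 : F) ≠ 0 := by
  intro h
  obtain ⟨r, hr⟩ := CharP.exists F
  haveI := hr
  obtain ⟨k, hr1, hk⟩ := FiniteField.card F r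
  rw [hF] at hk
  have hpr : p = r := (Nat.prime_dvd_prime_iff_eq hp hr1).1
    (hp.dvd_of_dvd_pow (hk ▸ dvd_pow_self p two_ne_zero))
  have := Nat.le_of_dvd (by norm_num) ((CharP.cast_eq_zero_iff F r 3).1 (by exact_mod_cast h))
  have h2 := hp.two_le
  have : p = 3 ∨ p = 2 := by omega
  rcases this with e | e
  · omega
  · have h' := (CharP.cast_eq_zero_iff F r 3).1 (by exact_mod_cast h)
    rw [← hpr, e] at h'
    omega

theorem exists_W9 (hF : Fintype.card F = p ^ 2) (hp : p.Prime) (h3 : p % 3 = 2) :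
    Nonempty (W9 F p) := by
  obtain ⟨ζ, hζ, hord, -⟩ := exists_gen_ne_one (q := p) hF
  obtain ⟨k, hk⟩ : 3 ∣ p + 1 := by omega
  refine ⟨⟨ζ ^ k, ?_, hp, h3, hF⟩⟩
  have h : (ζ ^ k - 1) * ((ζ ^ k) ^ 2 + ζ ^ k + 1) = 0 := by
    have h3 : (ζ ^ k) ^ 3 = 1 := by rw [← pow_mul, mul_comm, ← hk, hζ]
    linear_combination h3
  refine (mul_eq_zero.1 h).resolve_left (sub_ne_zero.2 fun e => ?_)
  have := Nat.le_of_dvd (by omega) (hord ▸ orderOf_dvd_of_pow_eq_one e)
  omega

variable (κ : W9 F p)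
include κ

theorem W9.three : (3 : F) ≠ 0 := cast_ne_three κ.card κ.prime κ.mod3

theorem W9.ne : κ.ω ≠ 0 := fun h => by simpa [h] using κ.rel

theorem W9.ne_one : κ.ω ≠ 1 := fun h => κ.three (by
  have := κ.rel; rw [h] at this; linear_combination this)

theorem W9.cube : κ.ω ^ 3 = 1 := by linear_combination (κ.ω - 1) * κ.rel

theorem W9.conj : κ.ω ^ p = κ.ω ^ 2 := by
  obtain ⟨m, hm⟩ : ∃ m, p = 2 + 3 * m := ⟨p / 3, by have := κ.mod3; omega⟩
  rw [show κ.ω ^ p = κ.ω ^ (2 + 3 * m) from congrArg (κ.ω ^ ·) hm, pow_add, pow_mul, κ.cube, one_pow,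
    mul_one]

theorem W9.norm_pow (e : ℕ) : (κ.ω ^ e) ^ (p + 1) = 1 := by
  rw [pow_succ, ← pow_mul, Nat.mul_comm e p, pow_mul, κ.conj, ← pow_mul, ← pow_add,
    show 2 * e + e = 3 * e by ring, pow_mul, κ.cube, one_pow]

/-- The Fourier factor. -/
def W9.c : F := κ.ω - κ.ω ^ 2

theorem W9.c_ne : κ.c ≠ 0 := fun h => κ.three (by
  have h2 : κ.c * κ.c = 0 := by rw [h, mul_zero]
  rw [W9.c] at h2
  linear_combination -h2 + (κ.ω ^ 2 - 3 * κ.ω + 3) * κ.rel)

theorem pow_add_fin (a b : Fin 3) : κ.ω ^ ((a + b : Fin 3) : ℕ) = κ.ω ^ (a : ℕ) * κ.ω ^ (b : ℕ) := by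
  rw [Fin.val_add, ← pow_add]
  conv_rhs => rw [← Nat.mod_add_div ((a : ℕ) + b) 3, pow_add, pow_mul, κ.cube, one_pow, mul_one]

/-- The diagonal matrix with exponents E. -/
def dg (E : Fin 9 → Fin 3) : GL (Fin 9) F where
  val := Matrix.diagonal fun p => κ.ω ^ (E p : ℕ)
  inv := Matrix.diagonal fun p => κ.ω ^ ((-E p : Fin 3) : ℕ)
  val_inv := by
    rw [Matrix.diagonal_mul_diagonal, ← Matrix.diagonal_one]
    congr 1
    funext p
    rw [← pow_add_fin]
    simp
  inv_val := by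
    rw [Matrix.diagonal_mul_diagonal, ← Matrix.diagonal_one]
    congr 1
    funext p
    rw [← pow_add_fin]
    simp

omit κ in
/-- The permutation matrix e_p ↦ e_(σ p). -/
def pm (σ : Equiv.Perm (Fin 9)) : GL (Fin 9) F where
  val := Matrix.of fun p q => if σ q = p then 1 else 0
  inv := Matrix.of fun p q => if σ p = q then 1 else 0
  val_inv := by
    ext p q
    rw [Matrix.mul_apply, Finset.sum_eq_single (σ.symm p)]
    · simp [Matrix.one_apply]
    · intro b _ hb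
      have : σ b ≠ p := fun e => hb (by rw [← e, Equiv.symm_apply_apply])
      simp [this]
    · simp
  inv_val := by
    ext p q
    rw [Matrix.mul_apply, Finset.sum_eq_single (σ p)]
    · simp [Matrix.one_apply, eq_comm, σ.injective.eq_iff]
    · intro b _ hb
      simp [hb.symm]
    · simp

theorem dg_val (E : Fin 9 → Fin 3) :
    (dg κ E : Matrix (Fin 9) (Fin 9) F) = Matrix.diagonal fun p => κ.ω ^ (E p : ℕ) := rfl

omit κ in
theorem pm_val (σ : Equiv.Perm (Fin 9)) (p q : Fin 9) :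
    ((pm σ : GL (Fin 9) F) : Matrix (Fin 9) (Fin 9) F) p q = if σ q = p then 1 else 0 := rfl

theorem dg_mul (E E' : Fin 9 → Fin 3) : dg κ E * dg κ E' = dg κ (E + E') :=
  Units.ext (by
    rw [Units.val_mul, dg_val, dg_val, dg_val, Matrix.diagonal_mul_diagonal]
    congr 1; funext p; rw [Pi.add_apply, pow_add_fin])

theorem dg_zero : dg κ 0 = 1 := Units.ext (by simp [dg_val])

omit κ in
theorem pm_mul (σ τ : Equiv.Perm (Fin 9)) : (pm σ * pm τ : GL (Fin 9) F) = pm (σ * τ) := by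
  apply Units.ext
  ext p q
  rw [Units.val_mul, Matrix.mul_apply, Finset.sum_eq_single (τ q)]
  · by_cases h : σ (τ q) = p <;> simp [pm_val, h]
  · intro b _ hb; simp [pm_val, hb.symm]
  · simp

omit κ in
theorem pm_one : (pm (1 : Equiv.Perm (Fin 9)) : GL (Fin 9) F) = 1 := by
  apply Units.ext
  ext p q
  simp [pm_val, Matrix.one_apply, eq_comm]

omit κ in
theorem pm_inv (σ : Equiv.Perm (Fin 9)) : (pm σ : GL (Fin 9) F)⁻¹ = pm σ⁻¹ :=
  inv_eq_of_mul_eq_one_right (by rw [pm_mul, mul_inv_cancel, pm_one])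

theorem pm_dg (σ : Equiv.Perm (Fin 9)) (E : Fin 9 → Fin 3) :
    pm σ * dg κ E = dg κ (E ∘ σ.symm) * pm σ := by
  apply Units.ext
  ext p q
  rw [Units.val_mul, Units.val_mul, dg_val, dg_val, Matrix.mul_diagonal, Matrix.diagonal_mul, pm_val]
  by_cases h : σ q = p
  · subst h; simp
  · simp [h]

theorem pm_conj_dg (σ : Equiv.Perm (Fin 9)) (E : Fin 9 → Fin 3) :
    pm σ * dg κ E * (pm σ)⁻¹ = dg κ (E ∘ σ.symm) := by
  rw [pm_dg, mul_inv_cancel_right]

theorem dg_conj_pm (σ : Equiv.Perm (Fin 9)) (E : Fin 9 → Fin 3) :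
    dg κ E * pm σ * (dg κ E)⁻¹ = dg κ (E - E ∘ σ.symm) * pm σ := by
  rw [mul_inv_eq_iff_eq_mul, mul_assoc, pm_dg, ← mul_assoc, dg_mul, sub_add_cancel]

/-- The first coordinate. -/
def pI (p : Fin 9) : Fin 3 := ⟨p.val / 3, by omega⟩

/-- The second coordinate. -/
def pK (p : Fin 9) : Fin 3 := ⟨p.val % 3, by omega⟩

/-- The point with given coordinates. -/
def mk (i k : Fin 3) : Fin 9 := ⟨3 * i.val + k.val, by omega⟩

/-- The affine map with given images of the basis and shift. -/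
def aff (u v b : Fin 3 × Fin 3) (p : Fin 9) : Fin 9 :=
  mk (pI p * u.1 + pK p * v.1 + b.1) (pI p * u.2 + pK p * v.2 + b.2)

omit κ in
theorem aff_bij (u v b : Fin 3 × Fin 3) (h : Function.Injective (aff u v b)) :
    Function.Bijective (aff u v b) := Finite.injective_iff_bijective.1 h

omit κ in
/-- The two translations. -/
def tX : Equiv.Perm (Fin 9) where
  toFun := aff (1, 0) (0, 1) (1, 0)
  invFun := aff (1, 0) (0, 1) (2, 0)
  left_inv := by decide
  right_inv := by decide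

omit κ in
/-- The second translation. -/
def tY : Equiv.Perm (Fin 9) where
  toFun := aff (1, 0) (0, 1) (0, 1)
  invFun := aff (1, 0) (0, 1) (0, 2)
  left_inv := by decide
  right_inv := by decide

omit κ in
/-- Negation. -/
def tN : Equiv.Perm (Fin 9) where
  toFun := aff (2, 0) (0, 2) (0, 0)
  invFun := aff (2, 0) (0, 2) (0, 0)
  left_inv := by decide
  right_inv := by decide

omit κ in
/-- Three linear maps generating all permutations of the four lines. -/
def gS (a : Fin 3) : Equiv.Perm (Fin 9) where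
  toFun := ![aff (0, 1) (1, 0) (0, 0), aff (2, 0) (0, 1) (0, 0), aff (1, 0) (1, 1) (0, 0)] a
  invFun := ![aff (0, 1) (1, 0) (0, 0), aff (2, 0) (0, 1) (0, 0), aff (1, 0) (2, 1) (0, 0)] a
  left_inv := by fin_cases a <;> decide
  right_inv := by fin_cases a <;> decide

/-- The group of type 3^(1+4). -/
def R9 : Subgroup (GL (Fin 9) F) :=
  Subgroup.closure {pm tX, pm tY, dg κ pI, dg κ pK}

theorem gens_mem : pm tX ∈ R9 κ ∧ pm tY ∈ R9 κ ∧ dg κ pI ∈ R9 κ ∧ dg κ pK ∈ R9 κ :=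
  ⟨Subgroup.subset_closure (by simp), Subgroup.subset_closure (by simp),
    Subgroup.subset_closure (by simp), Subgroup.subset_closure (by simp)⟩

omit κ in
/-- An affine exponent. -/
def IsAffE (E : Fin 9 → Fin 3) : Prop := ∃ a b c : Fin 3, ∀ p, E p = a * pI p + b * pK p + c

omit κ in
instance (E : Fin 9 → Fin 3) : Decidable (IsAffE E) := by unfold IsAffE; infer_instance

theorem affE_mem {E : Fin 9 → Fin 3} (h : IsAffE E) : dg κ E ∈ R9 κ := by
  obtain ⟨hX, -, hI, hK⟩ := gens_mem κ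
  obtain ⟨a, b, c, h⟩ := h
  have hc : dg κ (fun _ => 2) ∈ R9 κ := by
    have := mul_mem (mul_mem (mul_mem hX hI) (inv_mem hX)) (inv_mem hI)
    rw [pm_conj_dg, mul_inv_eq_iff_eq_mul.2] at this
    · exact this
    · rw [dg_mul]; congr 1; decide
  have hn : ∀ (G : Fin 9 → Fin 3), dg κ G ∈ R9 κ → ∀ t : Fin 3, dg κ (fun p => t * G p) ∈ R9 κ := by
    intro G hG t
    fin_cases t
    · convert one_mem (R9 κ); rw [← dg_zero κ]; congr 1; funext p; simp
    · simpa using hG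
    · convert mul_mem hG hG using 1
      rw [dg_mul]; congr 1; funext p
      show (2 : Fin 3) * G p = G p + G p
      generalize G p = e
      revert e; decide
  have := mul_mem (mul_mem (hn _ hI a) (hn _ hK b)) (hn _ hc (2 * c))
  rw [dg_mul, dg_mul] at this
  convert this using 2
  funext p
  rw [h]
  show _ = _ + _ + 2 * c * 2
  congr 1
  exact (by decide : ∀ c : Fin 3, c = 2 * c * 2) c

theorem mem_norm_of_gens {g : GL (Fin 9) F} (h1 : g * pm tX * g⁻¹ ∈ R9 κ)
    (h2 : g * pm tY * g⁻¹ ∈ R9 κ) (h3 : g * dg κ pI * g⁻¹ ∈ R9 κ) (h4 : g * dg κ pK * g⁻¹ ∈ R9 κ) :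
    g ∈ Cfsg.Geo.subgroupNormalizer (R9 κ) := by
  have hle : (R9 κ).map (MulAut.conj g).toMonoidHom ≤ R9 κ := by
    rw [Subgroup.map_le_iff_le_comap, R9, Subgroup.closure_le]
    simp only [Set.insert_subset_iff, Set.singleton_subset_iff]
    exact ⟨h1, h2, h3, h4⟩
  have heq : (R9 κ).map (MulAut.conj g).toMonoidHom = R9 κ :=
    Subgroup.eq_of_le_of_card_ge hle
      (Nat.card_congr ((R9 κ).equivMapOfInjective _ (MulAut.conj g).injective).toEquiv).le
  rw [Cfsg.Geo.subgroupNormalizer, Subgroup.mem_normalizer_iff]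
  intro x
  constructor
  · intro hx
    exact hle ⟨x, hx, rfl⟩
  · intro hx
    have hx' : g * x * g⁻¹ ∈ (R9 κ).map (MulAut.conj g).toMonoidHom := by rw [heq]; exact hx
    obtain ⟨y, hy, he⟩ := hx'
    simp only [MulEquiv.coe_toMonoidHom, MulAut.conj_apply, mul_left_inj, mul_right_inj] at he
    exact he ▸ hy

/-- A quadratic diagonal element normalises. -/
theorem dg_norm {E : Fin 9 → Fin 3} (hX : IsAffE (E - E ∘ tX.symm)) (hY : IsAffE (E - E ∘ tY.symm)) :
    dg κ E ∈ Cfsg.Geo.subgroupNormalizer (R9 κ) := by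
  obtain ⟨gX, gY, gI, gK⟩ := gens_mem κ
  have hc : ∀ G : Fin 9 → Fin 3, dg κ E * dg κ G * (dg κ E)⁻¹ = dg κ G := fun G => by
    rw [mul_inv_eq_iff_eq_mul, dg_mul, dg_mul, add_comm]
  refine mem_norm_of_gens κ ?_ ?_ (by rw [hc]; exact gI) (by rw [hc]; exact gK)
  · rw [dg_conj_pm]; exact mul_mem (affE_mem κ hX) gX
  · rw [dg_conj_pm]; exact mul_mem (affE_mem κ hY) gY

/-- An affine permutation normalises. -/
theorem pm_norm {σ : Equiv.Perm (Fin 9)}
    (hX : ∃ a b : Fin 3, ∀ p, σ (tX p) = mk (pI (σ p) + a) (pK (σ p) + b))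
    (hY : ∃ a b : Fin 3, ∀ p, σ (tY p) = mk (pI (σ p) + a) (pK (σ p) + b))
    (hI : IsAffE (pI ∘ σ.symm)) (hK : IsAffE (pK ∘ σ.symm)) :
    (pm σ : GL (Fin 9) F) ∈ Cfsg.Geo.subgroupNormalizer (R9 κ) := by
  obtain ⟨gX, gY, -, -⟩ := gens_mem κ
  have key : ∀ τ : Equiv.Perm (Fin 9), (∃ a b : Fin 3, ∀ p, σ (τ p) = mk (pI (σ p) + a) (pK (σ p) + b)) →
      (pm σ * pm τ * (pm σ)⁻¹ : GL (Fin 9) F) ∈ R9 κ := by
    intro τ ⟨a, b, h⟩
    have e : σ * τ * σ⁻¹ = tX ^ (a : ℕ) * tY ^ (b : ℕ) := by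
      refine Equiv.ext fun p => ?_
      obtain ⟨r, rfl⟩ := σ.surjective p
      rw [Equiv.Perm.mul_apply, Equiv.Perm.mul_apply, show σ⁻¹ (σ r) = r from σ.symm_apply_apply r, h]
      exact (by decide : ∀ (a b : Fin 3) (s : Fin 9),
        mk (pI s + a) (pK s + b) = (tX ^ (a : ℕ) * tY ^ (b : ℕ)) s) a b (σ r)
    have hp : ∀ (n : ℕ) (τ : Equiv.Perm (Fin 9)), (pm (τ ^ n) : GL (Fin 9) F) = pm τ ^ n := by
      intro n τ
      induction n with
      | zero => simp [pm_one]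
      | succ n ih => rw [pow_succ, pow_succ, ← pm_mul, ih]
    rw [pm_inv, pm_mul, pm_mul, e, ← pm_mul, hp, hp]
    exact mul_mem (pow_mem gX _) (pow_mem gY _)
  exact mem_norm_of_gens κ (key tX hX) (key tY hY) (by rw [pm_conj_dg]; exact affE_mem κ hI)
    (by rw [pm_conj_dg]; exact affE_mem κ hK)

theorem dg_GU (E : Fin 9 → Fin 3) : dg κ E ∈ Cfsg.GU 9 F p := by
  show IsUnitary p (dg κ E : Matrix (Fin 9) (Fin 9) F)
  rw [dg_val]
  exact isUnitary_diagonal κ.card fun i => κ.norm_pow _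

theorem pm_GU (σ : Equiv.Perm (Fin 9)) : (pm σ : GL (Fin 9) F) ∈ Cfsg.GU 9 F p := by
  show IsUnitary p ((pm σ : GL (Fin 9) F) : Matrix (Fin 9) (Fin 9) F)
  have e : ((pm σ : GL (Fin 9) F) : Matrix (Fin 9) (Fin 9) F) = σ⁻¹.permMatrix F := by
    ext a b
    rw [pm_val, Equiv.Perm.permMatrix, PEquiv.toMatrix_apply]
    by_cases h : σ b = a
    · subst h; simp
    · have h' : σ.symm a ≠ b := fun e => h (by rw [← e, Equiv.apply_symm_apply])
      simp [h, h']
  rw [e]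
  exact isUnitary_permMatrix _

end Cfsg.Agent.C6NineU
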