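/-
The unitary Fourier element of the normaliser.
Main results: `gF`, `gF_norm`, `gF_GU`.
-/
import Cfsg.Agent.Lib.C6NineU.Model

set_option autoImplicit false
set_option linter.unusedSectionVars false

namespace Cfsg.Agent.C6NineU

open Matrix Cfsg.Agent.Unitary
open scoped Matrix

variable {F : Type*} [Field F] [Fintype F] {p : ℕ} (κ : W9 F p)
include κ

omit κ in
/-- Summation over the plane by coordinates. -/
theorem sum_mk (f : Fin 9 → F) : ∑ r, f r = ∑ i : Fin 3, ∑ k : Fin 3, f (mk i k) := by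
  simp [Fin.sum_univ_succ, mk]
  ring

omit κ in
theorem coords : (∀ i k, pI (mk i k) = i) ∧ (∀ i k, pK (mk i k) = k) ∧ (∀ q, pI (tX q) = pI q + 1) ∧
    (∀ q, pK (tX q) = pK q) ∧ (∀ q, pI (tY q) = pI q) ∧ (∀ q, pK (tY q) = pK q + 1) ∧
    (∀ q, pI (tY.symm q) = pI q) ∧ (∀ q, pK (tY.symm q) = pK q - 1) ∧
    ∀ a b : Fin 9, pI a = pI b → pK a = pK b → a = b := by decide

theorem key (a b : Fin 3) : ∑ i : Fin 3, κ.ω ^ ((a * i : Fin 3) : ℕ) * κ.ω ^ ((2 * (i * b) : Fin 3) : ℕ) =
    if a = b then 3 else 0 := by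
  have rel := κ.rel
  have hω := κ.cube
  fin_cases a <;> fin_cases b <;> simp [Fin.sum_univ_three] <;> grind

/-- The unitary Fourier matrix in the first coordinate. -/
def gF : GL (Fin 9) F where
  val := Matrix.of fun p q => if pK p = pK q then κ.c⁻¹ * κ.ω ^ ((pI p * pI q : Fin 3) : ℕ) else 0
  inv := Matrix.of fun p q => if pK p = pK q then κ.c / 3 * κ.ω ^ ((2 * (pI p * pI q) : Fin 3) : ℕ) else 0
  val_inv := by
    obtain ⟨cI, cK, -, -, -, -, -, -, ext9⟩ := coords
    ext a b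
    simp only [Matrix.mul_apply, Matrix.of_apply]
    rw [sum_mk, Finset.sum_comm, Finset.sum_eq_single (pK a) (fun k _ hk => by simp [cK, Ne.symm hk])
      (fun h => absurd (Finset.mem_univ _) h)]
    simp only [cI, cK, if_true]
    by_cases h : pK a = pK b
    · rw [Matrix.one_apply]
      simp only [if_pos h]
      rw [Finset.sum_congr rfl fun i _ => show _ = (3 : F)⁻¹ * (κ.ω ^ ((pI a * i : Fin 3) : ℕ) *
        κ.ω ^ ((2 * (i * pI b) : Fin 3) : ℕ)) by field_simp [κ.c_ne, κ.three], ← Finset.mul_sum, key κ]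
      by_cases h' : pI a = pI b
      · rw [if_pos h', if_pos (ext9 a b h' h), inv_mul_cancel₀ κ.three]
      · rw [if_neg h', if_neg (fun e => h' (by rw [e])), mul_zero]
    · rw [Matrix.one_apply, if_neg (fun e => h (by rw [e]))]
      simp [h]
  inv_val := by
    obtain ⟨cI, cK, -, -, -, -, -, -, ext9⟩ := coords
    ext a b
    simp only [Matrix.mul_apply, Matrix.of_apply]
    rw [sum_mk, Finset.sum_comm, Finset.sum_eq_single (pK a) (fun k _ hk => by simp [cK, Ne.symm hk])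
      (fun h => absurd (Finset.mem_univ _) h)]
    simp only [cI, cK, if_true]
    by_cases h : pK a = pK b
    · rw [Matrix.one_apply]
      simp only [if_pos h]
      rw [Finset.sum_congr rfl fun i _ => show _ = (3 : F)⁻¹ * (κ.ω ^ ((pI b * i : Fin 3) : ℕ) *
        κ.ω ^ ((2 * (i * pI a) : Fin 3) : ℕ)) by
          rw [mul_comm i (pI b), mul_comm i (pI a)]; field_simp [κ.c_ne, κ.three], ← Finset.mul_sum, key κ]
      by_cases h' : pI a = pI b
      · rw [if_pos h'.symm, if_pos (ext9 a b h' h), inv_mul_cancel₀ κ.three]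
      · rw [if_neg (Ne.symm h'), if_neg (fun e => h' (by rw [e])), mul_zero]
    · rw [Matrix.one_apply, if_neg (fun e => h (by rw [e]))]
      simp [h]

theorem gF_val (p q : Fin 9) : (gF κ : Matrix (Fin 9) (Fin 9) F) p q =
    if pK p = pK q then κ.c⁻¹ * κ.ω ^ ((pI p * pI q : Fin 3) : ℕ) else 0 := rfl

omit κ in
theorem mul_pm (g : GL (Fin 9) F) (σ : Equiv.Perm (Fin 9)) (a b : Fin 9) :
    ((g * pm σ : GL (Fin 9) F) : Matrix (Fin 9) (Fin 9) F) a b = (g : Matrix (Fin 9) (Fin 9) F) a (σ b) := by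
  rw [Units.val_mul, Matrix.mul_apply, Finset.sum_eq_single (σ b)]
  · simp [pm_val]
  · intro c _ hc; simp [pm_val, hc.symm]
  · simp

omit κ in
theorem pm_mul' (g : GL (Fin 9) F) (σ : Equiv.Perm (Fin 9)) (a b : Fin 9) :
    ((pm σ * g : GL (Fin 9) F) : Matrix (Fin 9) (Fin 9) F) a b =
      (g : Matrix (Fin 9) (Fin 9) F) (σ.symm a) b := by
  rw [Units.val_mul, Matrix.mul_apply, Finset.sum_eq_single (σ.symm a)]
  · simp [pm_val]
  · intro c _ hc
    have : σ c ≠ a := fun e => hc (by rw [← e, Equiv.symm_apply_apply])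
    simp [pm_val, this]
  · simp

theorem gF_norm : gF κ ∈ Cfsg.Geo.subgroupNormalizer (R9 κ) := by
  obtain ⟨gX, gY, gI, gK⟩ := gens_mem κ
  obtain ⟨-, -, xI, xK, yI, yK, sI, sK, -⟩ := coords
  have conv : ∀ x y : GL (Fin 9) F, y ∈ R9 κ → gF κ * x = y * gF κ → gF κ * x * (gF κ)⁻¹ ∈ R9 κ :=
    fun x y hy h => by rw [h, mul_inv_cancel_right]; exact hy
  refine mem_norm_of_gens κ (conv _ _ gI ?_) (conv _ _ gY ?_) (conv _ (pm tX)⁻¹ (inv_mem gX) ?_)
    (conv _ _ gK ?_)
  · apply Units.ext; ext a b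
    rw [mul_pm, Units.val_mul, dg_val, Matrix.diagonal_mul, gF_val, gF_val, xK, xI]
    split_ifs
    · rw [mul_add, mul_one, pow_add_fin]; ring
    · rw [mul_zero]
  · apply Units.ext; ext a b
    rw [mul_pm, pm_mul', gF_val, gF_val, yK, yI, sI, sK]
    simp only [sub_eq_iff_eq_add]
  · rw [pm_inv]
    apply Units.ext; ext a b
    rw [pm_mul', Units.val_mul, dg_val, Matrix.mul_diagonal, gF_val, gF_val,
      show (tX⁻¹).symm a = tX a from rfl, xK, xI]
    split_ifs
    · rw [add_mul, one_mul, pow_add_fin]; ring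
    · rw [zero_mul]
  · apply Units.ext; ext a b
    rw [Units.val_mul, Units.val_mul, dg_val, Matrix.mul_diagonal, Matrix.diagonal_mul, gF_val]
    split_ifs with h
    · rw [h]; ring
    · rw [zero_mul, mul_zero]

theorem gF_GU : gF κ ∈ Cfsg.GU 9 F p := by
  show IsUnitary p (gF κ : Matrix (Fin 9) (Fin 9) F)
  obtain ⟨cI, cK, -, -, -, -, -, -, ext9⟩ := coords
  have hcc : κ.c ^ p = -κ.c := by
    rw [W9.c, sub_pow_q κ.card, pow_right_comm κ.ω 2 p, κ.conj]
    linear_combination -κ.ω * κ.cube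
  have h3 := κ.three
  have hc2 : κ.c * κ.c = -3 := by
    rw [W9.c]; linear_combination (κ.ω ^ 2 - 3 * κ.ω + 3) * κ.rel
  have hw : ∀ i j : Fin 3, (κ.ω ^ ((i * j : Fin 3) : ℕ)) ^ p = κ.ω ^ ((2 * (i * j) : Fin 3) : ℕ) := by
    intro i j
    generalize i * j = e
    rw [pow_right_comm, κ.conj, ← pow_mul, Fin.val_mul]
    exact pow_eq_pow_mod _ κ.cube
  have main : ∀ a b : Fin 9, ∑ r, (gF κ : Matrix (Fin 9) (Fin 9) F) r a *
      (gF κ : Matrix (Fin 9) (Fin 9) F) r b ^ p = if a = b then 1 else 0 := by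
    intro a b
    rw [sum_mk, Finset.sum_comm, Finset.sum_eq_single (pK a) (fun k _ hk => by simp [gF_val, cK, hk])
      (fun h => absurd (Finset.mem_univ _) h)]
    simp only [gF_val, cI, cK, if_true]
    by_cases h : pK a = pK b
    · simp only [if_pos h]
      rw [Finset.sum_congr rfl fun i _ => show _ = (3 : F)⁻¹ * (κ.ω ^ ((pI a * i : Fin 3) : ℕ) *
        κ.ω ^ ((2 * (i * pI b) : Fin 3) : ℕ)) by
          rw [mul_pow, inv_pow, hcc, hw, mul_comm i (pI a)]
          field_simp [κ.c_ne, κ.three]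
          linear_combination -(κ.ω ^ ((pI a * i : Fin 3) : ℕ) * κ.ω ^ ((2 * (i * pI b) : Fin 3) : ℕ)) * hc2,
        ← Finset.mul_sum, key κ]
      by_cases h' : pI a = pI b
      · rw [if_pos h', if_pos (ext9 a b h' h), inv_mul_cancel₀ h3]
      · rw [if_neg h', if_neg (fun e => h' (by rw [e])), mul_zero]
    · rw [if_neg (fun e => h (by rw [e]))]
      simp [h, zero_pow κ.prime.ne_zero]
  refine (isUnitary_iff_orthonormal κ.card _).2 ⟨fun i => ?_, fun i j hij => ?_⟩
  · exact (main i i).trans (if_pos rfl)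
  · exact (main i j).trans (if_neg hij)

omit κ in
/-- Negation of the first coordinate. -/
def tI : Equiv.Perm (Fin 9) where
  toFun := aff (2, 0) (0, 1) (0, 0)
  invFun := aff (2, 0) (0, 1) (0, 0)
  left_inv := by decide
  right_inv := by decide

omit κ in
theorem tI_sign : Equiv.Perm.sign tI⁻¹ = -1 := by decide +kernel

omit κ in
theorem tI_spec : ∀ a b : Fin 9, tI b = a ↔ pK a = pK b ∧ pI a = 2 * pI b := by decide

omit κ in
theorem four_fin : ∀ i b : Fin 3, 2 * (i * (2 * b)) = i * b := by decide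

theorem gF_det_sq : (gF κ : Matrix (Fin 9) (Fin 9) F).det * (gF κ : Matrix (Fin 9) (Fin 9) F).det = 1 := by
  obtain ⟨cI, cK, -, -, -, -, -, -, ext9⟩ := coords
  have hc2 : κ.c * κ.c = -3 := by
    rw [W9.c]; linear_combination (κ.ω ^ 2 - 3 * κ.ω + 3) * κ.rel
  have e : (gF κ : Matrix (Fin 9) (Fin 9) F) * (gF κ : Matrix (Fin 9) (Fin 9) F) =
      -(tI⁻¹.permMatrix F) := by
    ext a b
    have hp : (tI⁻¹.permMatrix F) a b = if tI b = a then 1 else 0 := by
      rw [Equiv.Perm.permMatrix, PEquiv.toMatrix_apply]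
      by_cases h : tI b = a
      · subst h; simp
      · have h' : tI.symm a ≠ b := fun e => h (by rw [← e, Equiv.apply_symm_apply])
        simp [h, h']
    rw [Matrix.neg_apply, hp, Matrix.mul_apply, sum_mk, Finset.sum_comm,
      Finset.sum_eq_single (pK a) (fun k _ hk => by simp [gF_val, cK, Ne.symm hk])
      (fun h => absurd (Finset.mem_univ _) h)]
    simp only [gF_val, cI, cK, if_true]
    by_cases h : pK a = pK b
    · simp only [if_pos h]
      rw [Finset.sum_congr rfl fun i _ => show _ = (-(3 : F)⁻¹) * (κ.ω ^ ((pI a * i : Fin 3) : ℕ) *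
        κ.ω ^ ((2 * (i * (2 * pI b)) : Fin 3) : ℕ)) by
          rw [four_fin]
          field_simp [κ.c_ne, κ.three]
          linear_combination (κ.ω ^ ((pI a * i : Fin 3) : ℕ) * κ.ω ^ ((i * pI b : Fin 3) : ℕ)) * hc2,
        ← Finset.mul_sum, key κ]
      by_cases h' : pI a = 2 * pI b
      · rw [if_pos h', if_pos ((tI_spec a b).2 ⟨h, h'⟩), neg_mul, inv_mul_cancel₀ κ.three]
      · rw [if_neg h', if_neg (fun e => h' ((tI_spec a b).1 e).2), mul_zero, neg_zero]
    · rw [if_neg (fun e => h ((tI_spec a b).1 e).1)]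
      simp [h]
  have h2 := congrArg Matrix.det e
  rw [Matrix.det_mul, Matrix.det_neg, Matrix.det_permutation, tI_sign] at h2
  rw [h2]
  norm_num

end Cfsg.Agent.C6NineU
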