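/-
Elements of SU_9 normalising the standard group, and the plane over the field with three elements.
Main results: `ln`, `lineE`, `W9.Over`, `Over.line_mem`, `Over.perm_mem`, `Over.gF_mem`, `mv`, `mv_mem`.
-/
import Cfsg.Agent.Lib.C6NineU.Fourier
import Cfsg.Agent.Lib.C6Three.Hom

set_option autoImplicit false
set_option linter.unusedSectionVars false

namespace Cfsg.Agent.C6NineU

open Matrix Cfsg.Agent.Unitary
open scoped Matrix

variable {F : Type*} [Field F] [Fintype F] {p : ℕ}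

/-- The four parallel classes: index of the line through a point. -/
def ln (m : Fin 4) (j : Fin 9) : Fin 3 := ![pI j, pK j, pI j + pK j, pI j - pK j] m

/-- The indicator of a line. -/
def lineE (m : Fin 4) (k : Fin 3) (j : Fin 9) : Fin 3 := if ln m j = k then 1 else 0

theorem lineE_good : ∀ m k, IsAffE (lineE m k - lineE m k ∘ tX.symm) ∧
    IsAffE (lineE m k - lineE m k ∘ tY.symm) ∧ ∑ j, lineE m k j = 0 := by
  decide +kernel

theorem through : ∀ i j : Fin 9,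
    (Finset.univ.filter fun m : Fin 4 => ln m i = ln m j).card = if i = j then 4 else 1 := by
  decide +kernel

theorem ln_bij : ∀ m m' : Fin 4, m ≠ m' →
    Function.Bijective fun j : Fin 9 => (ln m j, ln m' j) := by
  decide +kernel

/-- An overgroup in SU of the part of the normaliser. -/
structure Over (κ : W9 F p) (M : Subgroup (GL (Fin 9) F)) : Prop where
  le : M ≤ suGL 9 F p
  base : Cfsg.Geo.subgroupNormalizer (R9 κ) ⊓ suGL 9 F p ≤ M

variable (κ : W9 F p)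
include κ

omit κ in
theorem mem_su {g : GL (Fin 9) F} (hg : g ∈ Cfsg.GU 9 F p)
    (hd : (g : Matrix (Fin 9) (Fin 9) F).det = 1) : g ∈ suGL 9 F p :=
  Subgroup.mem_inf.2 ⟨hg, Transvect.mem_sl_iff.2 hd⟩

theorem dg_mem_su {E : Fin 9 → Fin 3} (h : ∑ j, E j = 0) : dg κ E ∈ suGL 9 F p := by
  refine mem_su (dg_GU κ E) ?_
  rw [dg_val, Matrix.det_diagonal]
  have : ∀ s : Finset (Fin 9), ∏ j ∈ s, κ.ω ^ (E j : ℕ) = κ.ω ^ ((∑ j ∈ s, E j : Fin 3) : ℕ) := by
    intro s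
    classical
    induction s using Finset.induction with
    | empty => simp
    | @insert a s ha ih => rw [Finset.prod_insert ha, Finset.sum_insert ha, pow_add_fin, ih]
  rw [this, h]
  simp

theorem dg_mulVec (E : Fin 9 → Fin 3) (v : Fin 9 → F) (j : Fin 9) :
    ((dg κ E : Matrix (Fin 9) (Fin 9) F) *ᵥ v) j = κ.ω ^ (E j : ℕ) * v j := by
  rw [dg_val, Matrix.mulVec_diagonal]

theorem neg_one_norm {g : GL (Fin 9) F} (hg : g ∈ Cfsg.Geo.subgroupNormalizer (R9 κ)) :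
    -g ∈ Cfsg.Geo.subgroupNormalizer (R9 κ) := by
  rw [Cfsg.Geo.subgroupNormalizer, Subgroup.mem_normalizer_iff] at hg ⊢
  intro x
  rw [inv_neg, neg_mul, neg_mul_neg]
  exact hg x

theorem neg_GU {g : GL (Fin 9) F} (hg : g ∈ Cfsg.GU 9 F p) : -g ∈ Cfsg.GU 9 F p := by
  have hU : IsUnitary p (-(g : Matrix (Fin 9) (Fin 9) F)) := fun u v => by
    have H := hermForm_isHerm κ.card 9
    rw [Matrix.neg_mulVec, Matrix.neg_mulVec, H.neg_left, H.neg_right κ.card, neg_neg]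
    exact hg u v
  exact hU

variable {M : Subgroup (GL (Fin 9) F)} (O : Over κ M)
include O

theorem Over.sign_mem {g : GL (Fin 9) F} (hn : g ∈ Cfsg.Geo.subgroupNormalizer (R9 κ))
    (hu : g ∈ Cfsg.GU 9 F p) (hd : (g : Matrix (Fin 9) (Fin 9) F).det * (g : Matrix (Fin 9) (Fin 9) F).det = 1) :
    g ∈ M ∨ -g ∈ M := by
  rcases mul_self_eq_one_iff.1 hd with h | h
  · exact Or.inl (O.base ⟨hn, mem_su hu h⟩)
  · refine Or.inr (O.base ⟨neg_one_norm κ hn, mem_su (neg_GU κ hu) ?_⟩)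
    rw [Units.val_neg, Matrix.det_neg, h]
    norm_num

theorem Over.line_mem (m : Fin 4) (k : Fin 3) : dg κ (lineE m k) ∈ M := by
  obtain ⟨hX, hY, hs⟩ := lineE_good m k
  exact O.base ⟨dg_norm κ hX hY, dg_mem_su κ hs⟩

theorem Over.perm_mem {σ : Equiv.Perm (Fin 9)}
    (hn : (pm σ : GL (Fin 9) F) ∈ Cfsg.Geo.subgroupNormalizer (R9 κ)) :
    ∃ g ∈ M, ∃ s : F, s ≠ 0 ∧ ∀ (x : Fin 9 → F) (j : Fin 9),
      ((g : Matrix (Fin 9) (Fin 9) F) *ᵥ x) j = s * x (σ.symm j) := by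
  have e : ((pm σ : GL (Fin 9) F) : Matrix (Fin 9) (Fin 9) F) = σ⁻¹.permMatrix F := by
    ext a b
    rw [pm_val, Equiv.Perm.permMatrix, PEquiv.toMatrix_apply]
    by_cases h : σ b = a
    · subst h; simp
    · have h' : σ.symm a ≠ b := fun e => h (by rw [← e, Equiv.apply_symm_apply])
      simp [h, h']
  have hv : ∀ (x : Fin 9 → F) (j : Fin 9),
      (((pm σ : GL (Fin 9) F) : Matrix (Fin 9) (Fin 9) F) *ᵥ x) j = x (σ.symm j) := fun x j => by
    rw [e, Matrix.permMatrix_mulVec]; rfl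
  rcases O.sign_mem κ hn (pm_GU κ σ) (by
    rw [e, Matrix.det_permutation]
    rcases Int.units_eq_one_or (Equiv.Perm.sign σ⁻¹) with h | h <;> simp [h]) with h | h
  · exact ⟨_, h, 1, one_ne_zero, fun x j => by rw [hv, one_mul]⟩
  · refine ⟨_, h, -1, neg_ne_zero.2 one_ne_zero, fun x j => ?_⟩
    rw [Units.val_neg, Matrix.neg_mulVec, Pi.neg_apply, hv, neg_one_mul]

theorem Over.gF_mem : ∃ g ∈ M, ∃ s : F, s ≠ 0 ∧ ∀ a b : Fin 9,
    (g : Matrix (Fin 9) (Fin 9) F) a b = s * (gF κ : Matrix (Fin 9) (Fin 9) F) a b := by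
  rcases O.sign_mem κ (gF_norm κ) (gF_GU κ) (gF_det_sq κ) with h | h
  · exact ⟨_, h, 1, one_ne_zero, fun a b => (one_mul _).symm⟩
  · exact ⟨_, h, -1, neg_ne_zero.2 one_ne_zero, fun a b => by rw [Units.val_neg]; simp⟩

omit κ O in
/-- An affine map taking the base pair to a given one. -/
def mv (i j : Fin 9) : Fin 9 → Fin 9 :=
  aff (if pI j = pI i then (1, 0) else (0, 1)) (pI j - pI i, pK j - pK i) (pI i, pK i)

omit κ O in
theorem mv_good : ∀ i j : Fin 9, i ≠ j → Function.Injective (mv i j) ∧ mv i j 0 = i ∧ mv i j 1 = j ∧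
    (∃ a b : Fin 3, ∀ r, mv i j (tX r) = mk (pI (mv i j r) + a) (pK (mv i j r) + b)) ∧
    (∃ a b : Fin 3, ∀ r, mv i j (tY r) = mk (pI (mv i j r) + a) (pK (mv i j r) + b)) ∧
    (∃ a b c : Fin 3, ∀ r, pI r = a * pI (mv i j r) + b * pK (mv i j r) + c) ∧
    (∃ a b c : Fin 3, ∀ r, pK r = a * pI (mv i j r) + b * pK (mv i j r) + c) := by
  decide +kernel

omit O in
theorem exists_perm {i j : Fin 9} (hij : i ≠ j) : ∃ σ : Equiv.Perm (Fin 9), σ 0 = i ∧ σ 1 = j ∧
    (pm σ : GL (Fin 9) F) ∈ Cfsg.Geo.subgroupNormalizer (R9 κ) := by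
  obtain ⟨hi, h0, h1, hX, hY, ⟨a, b, c, hI⟩, ⟨a', b', c', hK⟩⟩ := mv_good i j hij
  set σ := Equiv.ofBijective _ (Finite.injective_iff_bijective.1 hi) with hσ
  refine ⟨σ, h0, h1, pm_norm κ hX hY ⟨a, b, c, fun r => ?_⟩ ⟨a', b', c', fun r => ?_⟩⟩
  · obtain ⟨s, rfl⟩ := σ.surjective r
    rw [Function.comp_apply, Equiv.symm_apply_apply]
    exact hI s
  · obtain ⟨s, rfl⟩ := σ.surjective r
    rw [Function.comp_apply, Equiv.symm_apply_apply]
    exact hK s

end Cfsg.Agent.C6NineU
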