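/-
Small facts on lines of the plane over the field with three elements.
Main results: `box_split`, `exists_line`.
-/
import Cfsg.Agent.Lib.C6NineU.Elements

set_option autoImplicit false

namespace Cfsg.Agent.C6NineU

theorem exists_line : ∀ i j : Fin 9, i ≠ j → ∃ m : Fin 4, ∃ k : Fin 3, ln m j = k ∧ ln m i ≠ k := by
  decide +kernel

/-- Classes in coordinates. -/
def lc (m : Fin 4) (x y : Fin 3) : Fin 3 := ![x, y, x + y, x - y] m

/-- The four points of a standard box. -/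
def bp (s : Fin 2) : Fin 3 := ![1, 2] s

theorem box_std : ∀ e : Fin 2 → Fin 2 → Bool,
    (∃ s t s' t', (s ≠ s' ∨ t ≠ t') ∧ e s t = true ∧ e s' t' = true) →
    ∃ m : Fin 4, ∃ s t s' t', e s t = true ∧ e s' t' = true ∧
      lc m (bp s) (bp t) ≠ lc m (bp s') (bp t') ∧
      ∀ s'' t'', e s'' t'' = true →
        (lc m (bp s'') (bp t'') = lc m (bp s) (bp t) → s'' = s ∧ t'' = t) ∧
        (lc m (bp s'') (bp t'') = lc m (bp s') (bp t') → s'' = s' ∧ t'' = t') := by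
  decide +kernel

theorem class_map : ∀ m₀ m : Fin 4, m₀ ≠ m → ∀ m' : Fin 4, ∃ m'' : Fin 4, ∀ i j : Fin 9,
    lc m' (ln m₀ i) (ln m i) = lc m' (ln m₀ j) (ln m j) ↔ ln m'' i = ln m'' j := by
  decide +kernel

theorem box_split (m₀ m : Fin 4) (hm : m₀ ≠ m) (a b : Fin 3) (S : Fin 9 → Prop)
    (hS : ∀ j, S j → ln m₀ j ≠ a ∧ ln m j ≠ b) {i₀ j₀ : Fin 9} (hi : S i₀) (hj : S j₀)
    (hij : i₀ ≠ j₀) :
    ∃ m' : Fin 4, ∃ i j : Fin 9, S i ∧ S j ∧ ln m' i ≠ ln m' j ∧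
      ∀ r, S r → (ln m' r = ln m' i → r = i) ∧ (ln m' r = ln m' j → r = j) := by
  classical
  set co := fun j => (ln m₀ j, ln m j) with hco
  have hb := ln_bij m₀ m hm
  choose pt hpt using fun s t : Fin 2 => hb.2 (bp s + a, bp t + b)
  have off : ∀ c d : Fin 3, c ≠ d → ∃ s : Fin 2, c = bp s + d := by decide
  have cover : ∀ j, S j → ∃ s t, pt s t = j := fun j h => by
    obtain ⟨s, hs⟩ := off _ _ (hS j h).1
    obtain ⟨t, ht⟩ := off _ _ (hS j h).2
    exact ⟨s, t, hb.1 (by rw [hpt]; exact (Prod.ext hs ht).symm)⟩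
  obtain ⟨s₁, t₁, rfl⟩ := cover _ hi
  obtain ⟨s₂, t₂, rfl⟩ := cover _ hj
  obtain ⟨n, s, t, s', t', h1, h2, h3, h4⟩ := box_std (fun s t => decide (S (pt s t)))
    ⟨s₁, t₁, s₂, t₂, by
      by_contra hc
      push Not at hc
      exact hij (by rw [hc.1, hc.2]), by simpa using hi, by simpa using hj⟩
  obtain ⟨m', hm'⟩ := class_map m₀ m hm n
  have shift : ∀ (n : Fin 4) (x y x' y' a b : Fin 3),
      lc n (x + a) (y + b) = lc n (x' + a) (y' + b) ↔ lc n x y = lc n x' y' := by decide +kernel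
  have key : ∀ s t s' t', (ln m' (pt s t) = ln m' (pt s' t') ↔
      lc n (bp s) (bp t) = lc n (bp s') (bp t')) := fun s t s' t' => by
    have e1 := Prod.ext_iff.1 (hpt s t)
    have e2 := Prod.ext_iff.1 (hpt s' t')
    simp only at e1 e2
    rw [← hm', e1.1, e1.2, e2.1, e2.2, shift]
  refine ⟨m', pt s t, pt s' t', by simpa using h1, by simpa using h2, fun e => h3 ((key _ _ _ _).1 e),
    fun r hr => ?_⟩
  obtain ⟨u, v, rfl⟩ := cover r hr
  obtain ⟨k1, k2⟩ := h4 u v (by simpa using hr)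
  exact ⟨fun e => by obtain ⟨rfl, rfl⟩ := k1 ((key _ _ _ _).1 e); rfl,
    fun e => by obtain ⟨rfl, rfl⟩ := k2 ((key _ _ _ _).1 e); rfl⟩
end Cfsg.Agent.C6NineU
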