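/-
One transvection centre in an overgroup gives centres supported on every pair of coordinates.
Main results: `cadd`, `Over.phase`, `Over.drop`, `Over.pairs`.
-/
import Cfsg.Agent.Lib.C6NineU.Boxes

set_option autoImplicit false
set_option linter.unusedSectionVars false

namespace Cfsg.Agent.C6NineU

open Matrix Cfsg.Agent.Unitary
open scoped Matrix

variable {F : Type*} [Field F] [Fintype F] {p : ℕ}

/-- Two non-orthogonal centres with isotropic sum give a third. -/
theorem cadd {n : ℕ} (hF : Fintype.card F = p ^ 2) {M : Subgroup (GL (Fin n) F)} {v w : Fin n → F}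
    (hv : v ∈ centres p M) (hw : w ∈ centres p M) (hne : Cfsg.hermForm n F p w v ≠ 0)
    (hs : Cfsg.hermForm n F p (v + w) (v + w) = 0) : v + w ∈ centres p M := by
  have H := hermForm_isHerm hF n
  have hh : Cfsg.hermForm n F p w v + Cfsg.hermForm n F p w v ^ p = 0 := by
    rw [H.add_left, H.add_right hF, H.add_right hF, hv.1, hw.1, H.conj_symm w v] at hs
    linear_combination hs
  have hc : (Cfsg.hermForm n F p w v)⁻¹ + ((Cfsg.hermForm n F p w v)⁻¹) ^ p = 0 := by
    have h2 : Cfsg.hermForm n F p w v ^ p ≠ 0 := pow_ne_zero _ hne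
    rw [inv_pow]
    field_simp
    linear_combination hh
  have := centres_step hF hv hw hc
  rwa [inv_mul_cancel₀ hne, one_smul, add_comm] at this

theorem sum_classes {m m' : Fin 4} (h : m ≠ m') (g : Fin 3 → Fin 3 → F) :
    ∑ j, g (ln m j) (ln m' j) = ∑ a, ∑ b, g a b := by
  rw [← Fintype.sum_prod_type']
  exact (Equiv.ofBijective _ (ln_bij m m' h)).sum_comp fun x => g x.1 x.2

variable (κ : W9 F p)

/-- The norm of an element. -/
def nm (p : ℕ) (x : F) : F := x * x ^ p

/-- The total norm on a line. -/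
def lsum (p : ℕ) (v : Fin 9 → F) (m : Fin 4) (k : Fin 3) : F :=
  ∑ j, if ln m j = k then nm p (v j) else 0

theorem nm_ne {x : F} (h : x ≠ 0) : nm p x ≠ 0 := mul_ne_zero h (pow_ne_zero _ h)

include κ

theorem nm_fix (x : F) : nm p x ^ p = nm p x := by
  rw [nm, mul_pow, pow_q_pow_q κ.card, mul_comm]

theorem nm_zero : nm p (0 : F) = 0 := zero_mul _

theorem nm_one : nm p (1 : F) = 1 := by rw [nm, one_pow, mul_one]

theorem nm_mul (x y : F) : nm p (x * y) = nm p x * nm p y := by
  rw [nm, nm, nm, mul_pow]; ring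

theorem nm_ω : nm p κ.ω = 1 := by
  have := κ.norm_pow 1
  rwa [pow_one, pow_succ'] at this

theorem one_sub_conj (x : F) : (1 - x) ^ p = 1 - x ^ p := by
  rw [sub_pow_q κ.card, one_pow]

theorem herm_self_nm (v : Fin 9 → F) : Cfsg.hermForm 9 F p v v = ∑ j, nm p (v j) := rfl

theorem lsum_total (v : Fin 9 → F) (m : Fin 4) : ∑ k, lsum p v m k = ∑ j, nm p (v j) := by
  simp only [lsum]
  rw [Finset.sum_comm]
  simp

theorem lsum_through (v : Fin 9 → F) (j : Fin 9) :
    ∑ m, lsum p v m (ln m j) = 3 * nm p (v j) + ∑ i, nm p (v i) := by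
  simp only [lsum]
  rw [Finset.sum_comm]
  simp only [← Finset.sum_filter, Finset.sum_const, through, nsmul_eq_mul]
  rw [← Finset.sum_erase_add _ _ (Finset.mem_univ j), ← Finset.sum_erase_add _ _ (Finset.mem_univ j),
    Finset.sum_congr rfl fun i hi => show _ = nm p (v i) by
      rw [if_neg (Finset.ne_of_mem_erase hi), Nat.cast_one, one_mul]]
  simp only [if_pos rfl]
  push_cast
  ring

variable {M : Subgroup (GL (Fin 9) F)} (O : Over κ M)
include O

theorem Over.conjC {g : GL (Fin 9) F} (hg : g ∈ M) {v : Fin 9 → F} (hv : v ∈ centres p M) :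
    (g : Matrix (Fin 9) (Fin 9) F) *ᵥ v ∈ centres p M :=
  centres_conj hg (O.le hg) hv

/-- The phases on a line with non-zero norm are free. -/
theorem Over.phase {v : Fin 9 → F} (hv : v ∈ centres p M) {m : Fin 4} {k : Fin 3}
    (hA : lsum p v m k ≠ 0) {t : F} (ht : nm p t = 1) :
    (fun j => if ln m j = k then t * v j else v j) ∈ centres p M := by
  have hF := κ.card
  have H := hermForm_isHerm hF 9
  have hu := O.conjC κ (O.line_mem κ m k) hv
  set u := (dg κ (lineE m k) : Matrix (Fin 9) (Fin 9) F) *ᵥ v with hudef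
  have uj : ∀ j, u j = (if ln m j = k then κ.ω else 1) * v j := fun j => by
    rw [hudef, dg_mulVec, lineE]
    split_ifs <;> simp
  by_cases h1 : t = 1
  · convert hv using 1
    funext j; simp [h1]
  by_cases h2 : t = κ.ω
  · convert hu using 1
    funext j; rw [uj]; split_ifs with h <;> simp [h2]
  have hd : κ.ω - 1 ≠ 0 := sub_ne_zero.2 κ.ne_one
  set α := (κ.ω - t) / (κ.ω - 1) with hα
  set β := (t - 1) / (κ.ω - 1) with hβ
  have e : (fun j => if ln m j = k then t * v j else v j) = α • v + β • u := by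
    funext j
    rw [Pi.add_apply, Pi.smul_apply, Pi.smul_apply, uj, smul_eq_mul, smul_eq_mul, hα, hβ]
    split_ifs <;> field_simp <;> ring
  rw [e]
  refine cadd hF (centres_smul hF hv α) (centres_smul hF hu β) ?_ ?_
  · have huv : Cfsg.hermForm 9 F p u v = (κ.ω - 1) * lsum p v m k := by
      have h0 : ∑ j, nm p (v j) = 0 := hv.1
      simp only [Cfsg.hermForm, lsum, Finset.mul_sum]
      rw [show ∑ j, u j * v j ^ p = ∑ j, u j * v j ^ p - ∑ j, nm p (v j) by rw [h0, sub_zero],
        ← Finset.sum_sub_distrib]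
      refine Finset.sum_congr rfl fun j _ => ?_
      rw [uj, nm]; split_ifs <;> ring
    rw [H.smul_left, H.smul_right, huv]
    refine mul_ne_zero ?_ (mul_ne_zero (pow_ne_zero _ ?_) (mul_ne_zero hd hA))
    · exact div_ne_zero (sub_ne_zero.2 h1) hd
    · exact div_ne_zero (sub_ne_zero.2 (Ne.symm h2)) hd
  · rw [← e, herm_self_nm κ]
    refine (Finset.sum_congr rfl fun j _ => ?_).trans hv.1
    split_ifs
    · rw [nm_mul κ, ht, one_mul]; rfl
    · rfl

omit O in
theorem exists_st {A B : F} (hA : A ≠ 0) (hB : B ≠ 0) (fA : A ^ p = A) (fB : B ^ p = B) :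
    ∃ s t : F, nm p s = 1 ∧ nm p t = 1 ∧ s ≠ 1 ∧ t ≠ 1 ∧
      nm p (1 - s) * A + nm p (1 - t) * B = 0 ∧ (s - 1) * A + (t - 1) * B ≠ 0 := by
  classical
  have h3 := κ.three
  have hω := κ.cube
  by_cases hAB : A + B = 0
  · have hs := nm_ω κ
    refine ⟨κ.ω, κ.ω ^ 2, hs, by rw [pow_two, nm_mul κ, hs, one_mul], κ.ne_one,
      fun h => κ.ne_one (by linear_combination κ.cube - κ.ω * h), ?_, ?_⟩
    · rw [nm, nm, one_sub_conj κ, one_sub_conj κ, κ.conj, ← pow_mul, Nat.mul_comm 2 p, pow_mul, κ.conj]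
      linear_combination (3 : F) * hAB + (A + B * (κ.ω ^ 3 + 1 - κ.ω)) * κ.cube - (A + B) * κ.rel
    · intro h
      have h' : κ.c * A = 0 := by
        rw [W9.c]
        linear_combination h - (κ.ω ^ 2 - 1) * hAB
      exact (mul_ne_zero κ.c_ne hA) h'
  set U := Finset.univ.filter (fun x : F => x ^ (p + 1) = 1) with hU
  set U' := U.erase 1 with hU'
  set f : F → F := fun s => nm p (1 - s) with hf
  have hUc : U'.card = p := by
    have h := card_norm_one κ.card
    rw [Nat.card_eq_fintype_card, Fintype.card_subtype] at h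
    rw [hU', Finset.card_erase_of_mem (by simp [hU]), hU, h]
    omega
  have hN : ∀ s ∈ U', nm p s = 1 ∧ s ≠ 1 := fun s hs => by
    rw [hU', Finset.mem_erase, hU, Finset.mem_filter] at hs
    exact ⟨(pow_succ' s p).symm.trans hs.2.2, hs.1⟩
  have two : U'.card ≤ 2 * (U'.image f).card := by
    refine Finset.card_le_mul_card_image U' 2 fun a ha => ?_
    obtain ⟨s₀, hs₀, rfl⟩ := Finset.mem_image.1 ha
    refine (Finset.card_le_card (t := {s₀, s₀⁻¹}) fun s hs => ?_).trans Finset.card_le_two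
    obtain ⟨hsU, hfs⟩ := Finset.mem_filter.1 hs
    obtain ⟨n0, -⟩ := hN _ hs₀
    obtain ⟨n1, -⟩ := hN _ hsU
    simp only [hf, nm, one_sub_conj κ] at hfs
    rw [nm] at n0 n1
    have : (s - s₀) * (s * s₀ - 1) = 0 := by
      linear_combination (-(s * s₀)) * hfs + (s * s₀ - s₀) * n1 + (s - s * s₀) * n0
    rw [Finset.mem_insert, Finset.mem_singleton]
    rcases mul_eq_zero.1 this with h | h
    · exact Or.inl (sub_eq_zero.1 h)
    · exact Or.inr (eq_inv_of_mul_eq_one_left (sub_eq_zero.1 h))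
  set r := -B / A with hr
  have hr0 : r ≠ 0 := div_ne_zero (neg_ne_zero.2 hB) hA
  have hrf : r ^ p = r := by rw [hr, div_pow, neg_pow_q κ.card, fA, fB]
  set K := Finset.univ.filter (fun x : F => x ^ p = x ∧ x ≠ 0) with hK
  have hKc : K.card ≤ p - 1 := by
    have h2 := κ.prime.two_le
    have : K ⊆ (Polynomial.nthRoots (p - 1) (1 : F)).toFinset := fun x hx => by
      obtain ⟨-, h1, h0⟩ := Finset.mem_filter.1 hx
      rw [Multiset.mem_toFinset, Polynomial.mem_nthRoots (by omega)]
      refine mul_left_cancel₀ h0 ?_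
      rw [← pow_succ', show p - 1 + 1 = p by omega, h1, mul_one]
    exact (Finset.card_le_card this).trans ((Multiset.toFinset_card_le _).trans
      (Polynomial.card_nthRoots _ _))
  obtain ⟨d, hd⟩ : ((U'.image f) ∩ (U'.image f).image (r * ·)).Nonempty := by
    rw [Finset.nonempty_iff_ne_empty]
    intro he
    have hle : (U'.image f) ∪ (U'.image f).image (r * ·) ⊆ K := by
      intro x hx
      rw [hK, Finset.mem_filter]
      refine ⟨Finset.mem_univ _, ?_⟩
      rcases Finset.mem_union.1 hx with hx | hx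
      · obtain ⟨s, hs, rfl⟩ := Finset.mem_image.1 hx
        exact ⟨nm_fix κ _, nm_ne (sub_ne_zero.2 (hN s hs).2.symm)⟩
      · obtain ⟨y, hy, rfl⟩ := Finset.mem_image.1 hx
        obtain ⟨s, hs, rfl⟩ := Finset.mem_image.1 hy
        exact ⟨by rw [mul_pow, hrf, nm_fix κ],
          mul_ne_zero hr0 (nm_ne (sub_ne_zero.2 (hN s hs).2.symm))⟩
    have := Finset.card_le_card hle
    rw [Finset.card_union_of_disjoint (Finset.disjoint_iff_inter_eq_empty.2 he),
      Finset.card_image_of_injective _ (mul_right_injective₀ hr0)] at this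
    have := κ.prime.two_le
    omega
  obtain ⟨hd1, hd2⟩ := Finset.mem_inter.1 hd
  obtain ⟨s, hs, hsd⟩ := Finset.mem_image.1 hd1
  obtain ⟨y, hy, hyd⟩ := Finset.mem_image.1 hd2
  obtain ⟨t, ht, rfl⟩ := Finset.mem_image.1 hy
  have e : nm p (1 - s) * A + nm p (1 - t) * B = 0 := by
    have : nm p (1 - s) = r * nm p (1 - t) := hsd.trans hyd.symm
    rw [this, hr]
    field_simp
    ring
  refine ⟨s, t, (hN s hs).1, (hN t ht).1, (hN s hs).2, (hN t ht).2, e, fun h => ?_⟩
  have h' : (s - 1) * A = -((t - 1) * B) := eq_neg_of_add_eq_zero_left h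
  have hn : nm p (1 - s) * A ^ 2 = nm p (1 - t) * B ^ 2 := by
    have hp := congrArg (· ^ p) h'
    simp only [mul_pow, neg_pow_q κ.card, sub_pow_q κ.card, one_pow, fA, fB] at hp
    simp only [nm, one_sub_conj κ]
    linear_combination (A * (s ^ p - 1)) * h' - ((t - 1) * B) * hp
  refine mul_ne_zero (mul_ne_zero (nm_ne (p := p) (sub_ne_zero.2 (hN t ht).2.symm)) hB) hAB ?_
  linear_combination A * e - hn

/-- Keep two lines with non-zero norms. -/
theorem Over.drop {v : Fin 9 → F} (hv : v ∈ centres p M) {m : Fin 4} {k l : Fin 3} (hkl : k ≠ l)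
    (hA : lsum p v m k ≠ 0) (hB : lsum p v m l ≠ 0) :
    ∃ w ∈ centres p M, ∀ j, w j ≠ 0 ↔ (v j ≠ 0 ∧ (ln m j = k ∨ ln m j = l)) := by
  have hF := κ.card
  have H := hermForm_isHerm hF 9
  have fix_ : ∀ m k, lsum p v m k ^ p = lsum p v m k := fun m k => by
    rw [lsum, sum_pow_q hF]
    exact Finset.sum_congr rfl fun j _ => by
      rw [ite_pow, zero_pow κ.prime.ne_zero, nm_fix κ]
  obtain ⟨s, t, hs, ht, hs1, ht1, he, hne⟩ := exists_st κ hA hB (fix_ m k) (fix_ m l)
  have h1 := O.phase κ hv hA hs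
  have h2 := O.phase κ h1 (m := m) (k := l) (t := t) (by
    convert hB using 1
    refine Finset.sum_congr rfl fun j _ => ?_
    by_cases hj : ln m j = l
    · simp [hj, hkl.symm]
    · simp [hj]) ht
  set v' := fun j => if ln m j = l then t * (if ln m j = k then s * v j else v j) else
    (if ln m j = k then s * v j else v j) with hv'
  set w := v + (-1 : F) • v' with hw
  have wj : ∀ j, w j = if ln m j = k then (1 - s) * v j else if ln m j = l then (1 - t) * v j else 0 := by
    intro j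
    by_cases hk : ln m j = k
    · have : ln m j ≠ l := fun e => hkl (hk.symm.trans e)
      simp [hw, hv', hk, this, hkl]; ring
    · by_cases hl : ln m j = l
      · simp [hw, hv', hl, hkl.symm]; ring
      · simp [hw, hv', hk, hl]
  refine ⟨w, cadd hF hv (centres_smul hF h2 (-1)) ?_ ?_, fun j => ?_⟩
  · rw [H.smul_left]
    refine mul_ne_zero (neg_ne_zero.2 one_ne_zero) fun e0 => hne ?_
    have : Cfsg.hermForm 9 F p v' v - ∑ j, nm p (v j) =
        (s - 1) * lsum p v m k + (t - 1) * lsum p v m l := by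
      simp only [Cfsg.hermForm, lsum, Finset.mul_sum, ← Finset.sum_add_distrib, ← Finset.sum_sub_distrib]
      refine Finset.sum_congr rfl fun j _ => ?_
      by_cases hk : ln m j = k
      · have : ln m j ≠ l := fun e => hkl (hk.symm.trans e)
        simp [hv', hk, this, hkl, nm]; ring
      · by_cases hl : ln m j = l <;> simp [hv', hk, hl, hkl.symm, nm] <;> ring
    rw [← this, e0, ← herm_self_nm κ, hv.1, sub_zero]
  · rw [← hw, herm_self_nm κ]
    refine Eq.trans ?_ he
    simp only [lsum, Finset.mul_sum, ← Finset.sum_add_distrib]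
    refine Finset.sum_congr rfl fun j _ => ?_
    rw [wj]
    by_cases hk : ln m j = k
    · have : ln m j ≠ l := fun e => hkl (hk.symm.trans e)
      simp [hk, hkl, this, nm_mul κ]
    · by_cases hl : ln m j = l <;> simp [hk, hl, hkl.symm, nm_mul κ, nm_zero κ]
  · rw [wj]
    by_cases hk : ln m j = k
    · simp [hk, sub_ne_zero.2 hs1.symm]
    · by_cases hl : ln m j = l
      · simp [hl, hkl.symm, sub_ne_zero.2 ht1.symm]
      · simp [hk, hl]

/-- A centre in a box gives a centre on two points. -/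
theorem Over.from_box {w : Fin 9 → F} (hw : w ∈ centres p M) (hw0 : w ≠ 0) {m₀ m : Fin 4}
    (hm : m₀ ≠ m) {a b : Fin 3} (hs : ∀ j, w j ≠ 0 → ln m₀ j ≠ a ∧ ln m j ≠ b) :
    ∃ x ∈ centres p M, ∃ i j : Fin 9, i ≠ j ∧ x i ≠ 0 ∧ x j ≠ 0 ∧ ∀ r, r ≠ i → r ≠ j → x r = 0 := by
  classical
  obtain ⟨i₀, hi₀⟩ := Function.ne_iff.1 hw0
  obtain ⟨j₀, hj₀, hij₀⟩ : ∃ j₀, w j₀ ≠ 0 ∧ i₀ ≠ j₀ := by
    by_contra hc
    push Not at hc
    have h0 : ∑ j, nm p (w j) = 0 := hw.1
    rw [Finset.sum_eq_single i₀ (fun r _ hr => ?_) (fun h => absurd (Finset.mem_univ i₀) h)] at h0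
    · exact nm_ne hi₀ h0
    · by_cases h : w r = 0
      · rw [h, nm_zero κ]
      · exact absurd (hc r h).symm hr
  obtain ⟨m', i, j, hi, hj, hne, hu⟩ :=
    box_split m₀ m hm a b (fun r => w r ≠ 0) hs hi₀ hj₀ hij₀
  have single : ∀ i, w i ≠ 0 → (∀ r, w r ≠ 0 → ln m' r = ln m' i → r = i) →
      lsum p w m' (ln m' i) = nm p (w i) := fun i _ hu => by
    rw [lsum, Finset.sum_eq_single i (fun r _ hr => ?_) (fun h => absurd (Finset.mem_univ i) h),
      if_pos rfl]
    split_ifs with hk
    · by_cases h : w r = 0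
      · rw [h, nm_zero κ]
      · exact absurd (hu r h hk) hr
    · rfl
  obtain ⟨x, hx, hxs⟩ := O.drop κ hw hne (single i hi (fun r hr => (hu r hr).1) ▸ nm_ne hi)
    (single j hj (fun r hr => (hu r hr).2) ▸ nm_ne hj)
  refine ⟨x, hx, i, j, fun e => hne (by rw [e]), (hxs i).2 ⟨hi, Or.inl rfl⟩,
    (hxs j).2 ⟨hj, Or.inr rfl⟩, fun r ri rj => ?_⟩
  by_contra hr
  obtain ⟨hr0, hk | hl⟩ := (hxs r).1 hr
  · exact ri ((hu r hr0).1 hk)
  · exact rj ((hu r hr0).2 hl)

/-- A non-zero centre gives one on two points. -/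
theorem Over.two {v : Fin 9 → F} (hv : v ∈ centres p M) (hv0 : v ≠ 0) :
    ∃ x ∈ centres p M, ∃ i j : Fin 9, i ≠ j ∧ x i ≠ 0 ∧ x j ≠ 0 ∧ ∀ r, r ≠ i → r ≠ j → x r = 0 := by
  classical
  have three : ∀ k l : Fin 3, k ≠ l → ∃ a, a ≠ k ∧ a ≠ l ∧ ∀ c, c = k ∨ c = l ∨ c = a := by decide
  have pick : ∀ u : Fin 9 → F, u ∈ centres p M → ∀ m k, lsum p u m k ≠ 0 →
      ∃ l, l ≠ k ∧ lsum p u m l ≠ 0 := by
    intro u hu m k hk
    by_contra hc
    push Not at hc
    refine hk ?_
    have := lsum_total κ u m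
    rw [show ∑ j, nm p (u j) = 0 from hu.1, Finset.sum_eq_single k (fun l _ hl => hc l hl)
      (fun h => absurd (Finset.mem_univ k) h)] at this
    exact this
  obtain ⟨m₀, k, hk⟩ : ∃ m k, lsum p v m k ≠ 0 := by
    by_contra hc
    push Not at hc
    refine hv0 (funext fun j => ?_)
    have := lsum_through κ v j
    simp only [hc, Finset.sum_const_zero] at this
    rw [show ∑ i, nm p (v i) = 0 from hv.1, add_zero] at this
    by_contra hj
    exact mul_ne_zero κ.three (nm_ne hj) this.symm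
  obtain ⟨l, hlk, hl⟩ := pick v hv m₀ k hk
  obtain ⟨w, hw, hws⟩ := O.drop κ hv hlk.symm hk hl
  obtain ⟨a, hak, hal, hall⟩ := three k l hlk.symm
  have woff : ∀ j, ln m₀ j = a → w j = 0 := fun j hj => by
    by_contra h
    obtain ⟨-, e | e⟩ := (hws j).1 h
    · exact hak (hj.symm.trans e)
    · exact hal (hj.symm.trans e)
  have hw0 : w ≠ 0 := by
    intro e
    refine hk (Finset.sum_eq_zero fun j _ => ?_)
    split_ifs with hj
    · by_contra h
      have hvj : v j ≠ 0 := fun e0 => h (by rw [e0, nm_zero κ])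
      exact (hws j).2 ⟨hvj, Or.inl hj⟩ (by rw [e]; rfl)
    · rfl
  by_cases hcase : ∃ m, m₀ ≠ m ∧ ∃ k', lsum p w m k' ≠ 0
  · obtain ⟨m, hm, k', hk'⟩ := hcase
    obtain ⟨l', hlk', hl'⟩ := pick w hw m k' hk'
    obtain ⟨u, hu, hus⟩ := O.drop κ hw hlk'.symm hk' hl'
    obtain ⟨b, hbk, hbl, -⟩ := three k' l' hlk'.symm
    refine O.from_box κ hu (fun e => hk' (Finset.sum_eq_zero fun j _ => ?_)) hm (a := a) (b := b)
      fun j hj => ?_
    · split_ifs with hj
      · by_contra h
        have hwj : w j ≠ 0 := fun e0 => h (by rw [e0, nm_zero κ])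
        exact (hus j).2 ⟨hwj, Or.inl hj⟩ (by rw [e]; rfl)
      · rfl
    · obtain ⟨hwj, hjk⟩ := (hus j).1 hj
      refine ⟨fun e => hwj (woff j e), fun e => ?_⟩
      rcases hjk with h | h
      · exact hbk (e.symm.trans h)
      · exact hbl (e.symm.trans h)
  push Not at hcase
  set A := lsum p w m₀ k with hAdef
  have la : lsum p w m₀ a = 0 := Finset.sum_eq_zero fun j _ => by
    split_ifs with hj
    · rw [woff j hj, nm_zero κ]
    · rfl
  have lB : lsum p w m₀ l = -A := by
    have := lsum_total κ w m₀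
    rw [show ∑ j, nm p (w j) = 0 from hw.1,
      show (Finset.univ : Finset (Fin 3)) = {k, l, a} from (Finset.eq_univ_of_forall fun c => by
        simp; exact hall c).symm,
      Finset.sum_insert (by simp [hlk.symm, hak.symm]), Finset.sum_pair hal.symm, la, add_zero] at this
    exact eq_neg_of_add_eq_zero_right this
  have pt : ∀ j, 3 * nm p (w j) = lsum p w m₀ (ln m₀ j) := fun j => by
    have := lsum_through κ w j
    rw [show ∑ i, nm p (w i) = 0 from hw.1, add_zero,
      Finset.sum_eq_single m₀ (fun m _ hm => hcase m hm.symm _)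
        (fun h => absurd (Finset.mem_univ m₀) h)] at this
    exact this.symm
  have hA0 : A ≠ 0 := by
    intro e0
    refine hw0 (funext fun j => ?_)
    by_contra hj
    refine mul_ne_zero κ.three (nm_ne hj) ((pt j).trans ?_)
    rcases hall (ln m₀ j) with e | e | e <;> rw [e]
    exacts [e0, by rw [lB, e0, neg_zero], la]
  obtain ⟨m, hm⟩ : ∃ m, m₀ ≠ m := ⟨m₀ + 1, by simp⟩
  have hu := O.conjC κ (O.line_mem κ m 0) hw
  set u := (dg κ (lineE m 0) : Matrix (Fin 9) (Fin 9) F) *ᵥ w with hudef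
  have hω2 : nm p (-κ.ω ^ 2) = 1 := by
    have := κ.norm_pow 2
    rw [pow_succ'] at this
    rw [nm, neg_pow_q κ.card, neg_mul_neg, this]
  have h1 := O.phase κ hw (m := m₀) (k := k) hA0 hω2
  set v' := fun j => if ln m₀ j = k then -κ.ω ^ 2 * w j else w j with hv'
  set x := v' + (-1 : F) • u with hx
  let cx : Fin 3 → Fin 3 → F := fun α β =>
    (if α = k then -κ.ω ^ 2 else 1) - (if β = 0 then κ.ω else 1)
  let τ : Fin 3 → F := fun α => if α = k then A / 3 else if α = l then -A / 3 else 0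
  have tj : ∀ j, nm p (w j) = τ (ln m₀ j) := fun j => by
    refine mul_left_cancel₀ κ.three ((pt j).trans ?_)
    rcases hall (ln m₀ j) with e | e | e <;> rw [e] <;>
      simp [τ, la, lB, hlk, hak, hal, ← hAdef, mul_div_cancel₀ _ κ.three]
  have xj : ∀ j, x j = cx (ln m₀ j) (ln m j) * w j := fun j => by
    simp only [hx, hv', cx, hudef, Pi.add_apply, Pi.smul_apply, dg_mulVec, lineE, smul_eq_mul]
    split_ifs <;> simp <;> ring
  have hcub := κ.cube
  have hrel := κ.rel
  have hfix : (κ.ω ^ 2) ^ p = κ.ω := by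
    rw [← pow_mul, Nat.mul_comm 2 p, pow_mul, κ.conj]
    linear_combination κ.ω * κ.cube
  have h2ω : κ.ω + 2 ≠ 0 := fun e => κ.three (by linear_combination -(κ.ω - 1) * e + κ.rel)
  have sum3 : ∀ g : Fin 3 → F, ∑ α, g α = g k + g l + g a := fun g => by
    rw [← Finset.sum_subset (Finset.subset_univ ({k, l, a} : Finset (Fin 3))) (fun c _ hc => ?_),
      Finset.sum_insert (by simp [hlk.symm, hak.symm]), Finset.sum_pair hal.symm, add_assoc]
    exact absurd (by rcases hall c with rfl | rfl | rfl <;> simp) hc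
  have hxC : x ∈ centres p M := by
    refine cadd κ.card h1 (centres_smul κ.card hu (-1)) ?_ ?_
    · have H := hermForm_isHerm κ.card 9
      rw [H.smul_left]
      refine mul_ne_zero (neg_ne_zero.2 one_ne_zero) ?_
      have e : Cfsg.hermForm 9 F p u v' = ∑ α : Fin 3, ∑ β : Fin 3, τ α *
          ((if β = 0 then κ.ω else 1) * (if α = k then -κ.ω else 1)) := by
        rw [← sum_classes hm (fun α β => τ α * ((if β = 0 then κ.ω else 1) * (if α = k then -κ.ω else 1)))]
        refine Finset.sum_congr rfl fun j _ => ?_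
        rw [← tj]
        simp only [hv', hudef, dg_mulVec, lineE, nm]
        split_ifs <;> simp [mul_pow, neg_pow_q κ.card, hfix] <;> ring
      rw [e, sum3]
      simp [τ, hlk, hak, hal, Fin.sum_univ_three]
      intro h0
      refine mul_ne_zero (mul_ne_zero hA0 h2ω) (pow_ne_zero 2 κ.ne) ?_
      have h3 := κ.three
      field_simp at h0
      linear_combination h0 + A * (κ.ω + 2) * hrel
    · rw [← hx, herm_self_nm κ, Finset.sum_congr rfl fun j _ => show nm p (x j) =
        τ (ln m₀ j) * nm p (cx (ln m₀ j) (ln m j)) by rw [xj, nm_mul κ, tj, mul_comm],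
        sum_classes hm (fun α β => τ α * nm p (cx α β)), sum3]
      simp [τ, cx, hlk, hak, hal, Fin.sum_univ_three, nm, sub_pow_q κ.card, neg_pow_q κ.card, hfix,
        κ.conj]
      grind
  have sing : ∀ b : Fin 3, b ≠ 0 → lsum p x m b ≠ 0 := by
    intro b hb
    rw [lsum, Finset.sum_congr rfl fun j _ => show (if ln m j = b then nm p (x j) else 0) =
      (fun α β => if β = b then τ α * nm p (cx α β) else 0) (ln m₀ j) (ln m j) by
        dsimp only; rw [xj, nm_mul κ, tj, mul_comm],
      sum_classes hm (fun α β => if β = b then τ α * nm p (cx α β) else 0)]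
    rw [Finset.sum_eq_single k (fun α _ hα => ?_) (fun h => absurd (Finset.mem_univ k) h)]
    · simp only [Finset.sum_ite_eq', Finset.mem_univ, if_true]
      refine mul_ne_zero (by simp [τ, div_ne_zero hA0 κ.three]) (nm_ne ?_)
      simp [cx, hb]
      intro e0
      exact κ.ne (by linear_combination e0 + hrel)
    · simp [cx, hb, hα, nm]
  obtain ⟨b₁, b₂, hb₁, hb₂, hb⟩ : ∃ b₁ b₂ : Fin 3, b₁ ≠ 0 ∧ b₂ ≠ 0 ∧ b₁ ≠ b₂ :=
    ⟨1, 2, by decide, by decide, by decide⟩
  obtain ⟨y, hy, hys⟩ := O.drop κ hxC hb (sing b₁ hb₁) (sing b₂ hb₂)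
  refine O.from_box κ hy ?_ hm (a := a) (b := 0) fun j hj => ?_
  · intro e
    refine sing b₁ hb₁ (Finset.sum_eq_zero fun j _ => ?_)
    split_ifs with hj
    · by_contra h
      have hxj : x j ≠ 0 := fun e0 => h (by rw [e0, nm_zero κ])
      exact (hys j).2 ⟨hxj, Or.inl hj⟩ (by rw [e]; rfl)
    · rfl
  · obtain ⟨hxj, hjb⟩ := (hys j).1 hj
    refine ⟨fun e => hxj (by rw [xj, woff j e, mul_zero]), fun e => ?_⟩
    rcases hjb with h | h
    · exact hb₁ (h.symm.trans e)
    · exact hb₂ (h.symm.trans e)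

omit O in
theorem pair_form (i j : Fin 9) (hij : i ≠ j) (a b : F) :
    Cfsg.hermForm 9 F p (pairVec i j a b) (pairVec i j a b) = nm p a + nm p b := by
  rw [herm_self_nm κ, Finset.sum_eq_add i j hij]
  · rw [pairVec_left hij, pairVec_right hij]
  · intro r _ hr
    rw [pairVec_other hr.1 hr.2, nm_zero κ]
  · simp
  · simp

/-- One centre on two points gives every isotropic vector on these points. -/
theorem Over.full_pair {x : Fin 9 → F} (hx : x ∈ centres p M) {i j : Fin 9} (hij : i ≠ j)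
    (hxi : x i ≠ 0) (hxj : x j ≠ 0) (hoff : ∀ r, r ≠ i → r ≠ j → x r = 0) {a b : F}
    (hab : nm p a + nm p b = 0) : pairVec i j a b ∈ centres p M := by
  have hxe : x = pairVec i j (x i) (x j) := by
    funext r
    by_cases hr : r = i
    · rw [hr, pairVec_left hij]
    by_cases hr' : r = j
    · rw [hr', pairVec_right hij]
    · rw [hoff r hr hr', pairVec_other hr hr']
  by_cases ha : a = 0
  · rw [ha, nm_zero κ, zero_add] at hab
    have hb : b = 0 := by by_contra hb; exact nm_ne hb hab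
    have e : pairVec i j a b = (0 : F) • x := by simp [pairVec, ha, hb]
    rw [e]; exact centres_smul κ.card hx 0
  obtain ⟨m, k, hjk, hik⟩ := exists_line i j hij
  have hA : lsum p x m k ≠ 0 := by
    rw [lsum, Finset.sum_eq_single j (fun r _ hr => ?_) (fun h => absurd (Finset.mem_univ j) h),
      if_pos hjk]
    · exact nm_ne hxj
    · split_ifs with h
      · rw [hoff r (fun e => hik (e ▸ h)) hr, nm_zero κ]
      · rfl
  set t := b / x j * (x i / a) with ht
  have hn : nm p t = 1 := by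
    have h0 : nm p (x i) + nm p (x j) = 0 := by
      have := hx.1
      rwa [hxe, pair_form κ i j hij] at this
    rw [ht, nm_mul κ]
    simp only [nm, div_pow] at h0 hab ⊢
    have := pow_ne_zero p ha
    have := pow_ne_zero p hxj
    field_simp
    linear_combination (x i * x i ^ p) * hab - (a * a ^ p) * h0
  have h1 := centres_smul κ.card (O.phase κ hx (m := m) (k := k) hA hn) (a / x i)
  convert h1 using 1
  funext r
  rw [Pi.smul_apply, smul_eq_mul]
  by_cases hr : r = i
  · subst hr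
    rw [pairVec_left hij, if_neg hik]
    field_simp
  by_cases hr' : r = j
  · subst hr'
    rw [pairVec_right hij, if_pos hjk, ht]
    field_simp
  · rw [pairVec_other hr hr', hoff r hr hr']
    simp

/-- One transvection centre gives all centres on pairs. -/
theorem Over.pairs {v : Fin 9 → F} (hv : v ∈ centres p M) (hv0 : v ≠ 0) {i j : Fin 9} (hij : i ≠ j)
    {a b : F} (hab : nm p a + nm p b = 0) : pairVec i j a b ∈ centres p M := by
  obtain ⟨x, hx, i₀, j₀, hij₀, hxi, hxj, hoff⟩ := O.two κ hv hv0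
  obtain ⟨σ, s0, s1, hσ⟩ := exists_perm κ hij₀
  obtain ⟨τ, t0, t1, hτ⟩ := exists_perm κ hij
  have hρ : (pm (τ * σ⁻¹) : GL (Fin 9) F) ∈ Cfsg.Geo.subgroupNormalizer (R9 κ) := by
    rw [← pm_mul, ← pm_inv]
    exact mul_mem hτ (inv_mem hσ)
  obtain ⟨g, hg, s, hs, hgx⟩ := O.perm_mem κ hρ
  have hρi : ∀ r, (τ * σ⁻¹).symm r = σ (τ.symm r) := fun r => rfl
  have e0 : τ.symm i = 0 := by rw [← t0, Equiv.symm_apply_apply]
  have e1 : τ.symm j = 1 := by rw [← t1, Equiv.symm_apply_apply]
  refine O.full_pair κ (O.conjC κ hg hx) hij ?_ ?_ (fun r ri rj => ?_) hab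
  · rw [hgx, hρi, e0, s0]; exact mul_ne_zero hs hxi
  · rw [hgx, hρi, e1, s1]; exact mul_ne_zero hs hxj
  · rw [hgx, hρi, hoff _ (fun e => ?_) (fun e => ?_), mul_zero]
    · exact ri (by rw [← t0, ← σ.injective (e.trans s0.symm), Equiv.apply_symm_apply])
    · exact rj (by rw [← t1, ← σ.injective (e.trans s1.symm), Equiv.apply_symm_apply])

end Cfsg.Agent.C6NineU
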