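/-
One transvection centre in an overgroup gives the whole special unitary group.
Main results: `pair_su_mem`, `mono_mem`, `Over.full`.
-/
import Cfsg.Agent.Lib.C6NineU.Spread
import Cfsg.Agent.Lib.Unitary.MonoNine

set_option autoImplicit false
set_option linter.unusedSectionVars false

namespace Cfsg.Agent.C6NineU

open Matrix Cfsg.Agent.Unitary
open scoped Matrix

variable {F : Type*} [Field F] [Fintype F] {p : ℕ}

/-- The coordinate vectors of a pair. -/
def pb (i j : Fin 9) : Fin 2 → (Fin 9 → F) := ![Pi.single i 1, Pi.single j 1]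

/-- The coordinate functions of a pair. -/
def pc (i j : Fin 9) : Fin 2 → ((Fin 9 → F) →ₗ[F] F) := ![LinearMap.proj i, LinearMap.proj j]

theorem pair_dual {i j : Fin 9} (h : i ≠ j) (a b : Fin 2) :
    (pc i j a : (Fin 9 → F) →ₗ[F] F) (pb i j b) = if a = b then 1 else 0 := by
  fin_cases a <;> fin_cases b <;> simp [pc, pb, h, h.symm]

/-- GL_2 on a pair of coordinates. -/
def pemb {i j : Fin 9} (h : i ≠ j) : GL (Fin 2) F →* GL (Fin 9) F :=
  C6Three.emb (pb i j) (pc i j) (pair_dual h)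

theorem pemb_mulVec {i j : Fin 9} (h : i ≠ j) (A : GL (Fin 2) F) (x : Fin 9 → F) :
    (pemb h A : Matrix (Fin 9) (Fin 9) F) *ᵥ x =
      pairVec i j (((A : Matrix (Fin 2) (Fin 2) F) *ᵥ ![x i, x j]) 0)
        (((A : Matrix (Fin 2) (Fin 2) F) *ᵥ ![x i, x j]) 1) + (x - pairVec i j (x i) (x j)) := by
  have := C6Three.emb_apply (pair_dual (F := F) h) A x
  refine Eq.trans this ?_
  funext r
  simp only [Pi.add_apply, Pi.sub_apply, Finset.sum_apply, Pi.smul_apply, smul_eq_mul,
    Fin.sum_univ_two, Matrix.sub_apply, Matrix.one_apply, Matrix.mulVec, dotProduct]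
  by_cases hi : r = i
  · subst hi
    simp [pb, pc, pairVec_left h, h, h.symm]; ring
  by_cases hj : r = j
  · subst hj
    simp [pb, pc, pairVec_right h, h, h.symm]; ring
  · simp [pb, pc, pairVec_other hi hj, hi, hj]

variable (κ : W9 F p) {M : Subgroup (GL (Fin 9) F)}
include κ

/-- SU on a pair of coordinates lies in M. -/
theorem pair_su_mem
    (hP : ∀ {i j : Fin 9}, i ≠ j → ∀ {a b : F}, nm p a + nm p b = 0 → pairVec i j a b ∈ centres p M)
    {i j : Fin 9} (h : i ≠ j) {A : GL (Fin 2) F} (hA : A ∈ suGL 2 F p) : pemb h A ∈ M := by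
  have hF := κ.card
  refine le_of_centres hF (Or.inr (Or.inr le_rfl)) (M := M.comap (pemb h)) (fun v hv => ?_) hA
  have hv' : nm p (v 0) + nm p (v 1) = 0 := by
    have e : Cfsg.hermForm 2 F p v v = nm p (v 0) + nm p (v 1) := by
      simp [Cfsg.hermForm, Fin.sum_univ_two, nm]
    rw [← e, hv]
  refine ⟨hv, fun g c hc hg => (hP h hv').2 (pemb h g) c hc ?_⟩
  refine Matrix.ext_iff_mulVec.2 fun x => ?_
  rw [pemb_mulVec, hg, transvection_mulVec, transvection_mulVec]
  have eh : Cfsg.hermForm 2 F p ![x i, x j] v = Cfsg.hermForm 9 F p x (pairVec i j (v 0) (v 1)) := by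
    simp only [Cfsg.hermForm]
    rw [Finset.sum_eq_add i j h]
    · simp [Fin.sum_univ_two, pairVec_left h, pairVec_right h]
    · intro r _ hr
      rw [pairVec_other hr.1 hr.2, zero_pow κ.prime.ne_zero, mul_zero]
    · simp
    · simp
  rw [eh]
  funext r
  by_cases hi : r = i
  · subst hi
    simp [pairVec_left h]
  by_cases hj : r = j
  · subst hj
    simp [pairVec_right h]
  · simp [pairVec_other hi hj]

theorem two_by_two {A : Matrix (Fin 2) (Fin 2) F} (hU : IsUnitary p A) (hd : A.det = 1) :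
    ∃ B ∈ suGL 2 F p, (B : Matrix (Fin 2) (Fin 2) F) = A := by
  refine ⟨_, suToGU_mem_suGL (suOfUnitary A hU hd), rfl⟩

/-- Transpose two coordinates. -/
theorem swap_mem
    (hP : ∀ {i j : Fin 9}, i ≠ j → ∀ {a b : F}, nm p a + nm p b = 0 → pairVec i j a b ∈ centres p M)
    {i j : Fin 9} (h : i ≠ j) : ∃ g ∈ M, ∀ (x : Fin 9 → F) (r : Fin 9),
      ((g : Matrix (Fin 9) (Fin 9) F) *ᵥ x) r =
        (if r = j then -1 else 1) * x (Equiv.swap i j r) := by
  have hU : IsUnitary p (!![0, 1; -1, 0] : Matrix (Fin 2) (Fin 2) F) := fun u v => by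
    simp [Cfsg.hermForm, Matrix.mulVec, dotProduct, Fin.sum_univ_two, neg_pow_q κ.card]
    ring
  obtain ⟨B, hB, eB⟩ := two_by_two κ hU (by simp [Matrix.det_fin_two])
  refine ⟨_, pair_su_mem κ hP h hB, fun x r => ?_⟩
  rw [pemb_mulVec, eB]
  by_cases hi : r = i
  · subst hi
    simp [pairVec_left h, h, Matrix.mulVec, dotProduct, Fin.sum_univ_two]
  by_cases hj : r = j
  · subst hj
    simp [pairVec_right h, h.symm, Matrix.mulVec, dotProduct, Fin.sum_univ_two]
  · simp [pairVec_other hi hj, hj, Equiv.swap_apply_of_ne_of_ne hi hj]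

/-- Move a phase from one coordinate to another. -/
theorem diag_mem
    (hP : ∀ {i j : Fin 9}, i ≠ j → ∀ {a b : F}, nm p a + nm p b = 0 → pairVec i j a b ∈ centres p M)
    {i j : Fin 9} (h : i ≠ j) {μ : F} (hμ : μ ^ (p + 1) = 1) : ∃ g ∈ M, ∀ (x : Fin 9 → F) (r : Fin 9),
      ((g : Matrix (Fin 9) (Fin 9) F) *ᵥ x) r = (if r = i then μ else if r = j then μ⁻¹ else 1) * x r := by
  have hμ0 : μ ≠ 0 := fun e => by simp [e] at hμ
  have hU : IsUnitary p (!![μ, 0; 0, μ⁻¹] : Matrix (Fin 2) (Fin 2) F) := fun u v => by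
    have h2 : μ * μ ^ p = 1 := by rw [← pow_succ', hμ]
    have h3 : μ⁻¹ * μ⁻¹ ^ p = 1 := by rw [inv_pow, ← mul_inv, h2, inv_one]
    simp [Cfsg.hermForm, Matrix.mulVec, dotProduct, Fin.sum_univ_two, mul_pow]
    rw [inv_pow] at h3
    linear_combination (u 0 * v 0 ^ p) * h2 + (u 1 * v 1 ^ p) * h3
  obtain ⟨B, hB, eB⟩ := two_by_two κ hU (by simp [Matrix.det_fin_two, hμ0])
  refine ⟨_, pair_su_mem κ hP h hB, fun x r => ?_⟩
  rw [pemb_mulVec, eB]
  by_cases hi : r = i
  · subst hi
    simp [pairVec_left h, Matrix.mulVec, dotProduct, Fin.sum_univ_two]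
  by_cases hj : r = j
  · subst hj
    simp [pairVec_right h, h.symm, Matrix.mulVec, dotProduct, Fin.sum_univ_two]
  · simp [pairVec_other hi hj, hi, hj]

/-- Every monomial element. -/
theorem mono_mem (hM : M ≤ suGL 9 F p)
    (hP : ∀ {i j : Fin 9}, i ≠ j → ∀ {a b : F}, nm p a + nm p b = 0 → pairVec i j a b ∈ centres p M)
    {g : GL (Fin 9) F} (hg : g ∈ suGL 9 F p) (hgm : IsMon g) : g ∈ M := by
  classical
  obtain ⟨π, hπ⟩ := hgm
  choose c hc using hπ
  have hcn : ∀ i, c i ^ (p + 1) = 1 := fun i => by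
    have := mem_suGL_herm hg (Pi.single i 1) (Pi.single i 1)
    rw [hc, (single_orthonormal κ.card 9).1 i] at this
    simpa [Cfsg.hermForm, Pi.single_apply, ite_pow, zero_pow κ.prime.ne_zero, pow_succ'] using this
  -- remove the permutation
  have perm : ∀ σ : Equiv.Perm (Fin 9), ∃ h ∈ M, ∃ s : Fin 9 → F, ∀ i,
      (h : Matrix (Fin 9) (Fin 9) F) *ᵥ Pi.single i 1 = s i • Pi.single (σ i) 1 := by
    intro σ
    induction σ using Equiv.Perm.swap_induction_on with
    | one => exact ⟨1, one_mem _, fun _ => 1, fun i => by rw [Units.val_one, Matrix.one_mulVec, one_smul]; rfl⟩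
    | swap_mul σ a b hab ih =>
      obtain ⟨h, hh, s, hs⟩ := ih
      obtain ⟨t, ht, htv⟩ := swap_mem κ hP hab
      refine ⟨t * h, mul_mem ht hh,
        fun i => s i * if Equiv.swap a b (σ i) = b then -1 else 1, fun i => funext fun r => ?_⟩
      rw [Units.val_mul, ← Matrix.mulVec_mulVec, hs, Matrix.mulVec_smul, Pi.smul_apply, htv,
        Equiv.Perm.mul_apply, smul_eq_mul, Pi.smul_apply, smul_eq_mul, Pi.single_apply, Pi.single_apply]
      by_cases hr : r = Equiv.swap a b (σ i)
      · subst hr; simp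
      · have : Equiv.swap a b r ≠ σ i := fun e => hr (by rw [← e, Equiv.swap_apply_self])
        simp [hr, this]
  obtain ⟨h, hh, s, hs⟩ := perm π
  -- the rest is diagonal
  have hd : ∀ i, ((h⁻¹ * g : GL (Fin 9) F) : Matrix (Fin 9) (Fin 9) F) *ᵥ Pi.single i 1 =
      (c i / s i) • Pi.single i 1 := fun i => by
    have hs0 : s i ≠ 0 := fun e => by
      have h1 := hs i
      rw [e, zero_smul] at h1
      have := congrArg (fun v => (h⁻¹ : GL (Fin 9) F).val *ᵥ v) h1
      simp only [Matrix.mulVec_mulVec, ← Units.val_mul, inv_mul_cancel, Units.val_one,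
        Matrix.one_mulVec, Matrix.mulVec_zero] at this
      simpa using congrFun this i
    have e : (g : Matrix (Fin 9) (Fin 9) F) *ᵥ Pi.single i 1 =
        (h : Matrix (Fin 9) (Fin 9) F) *ᵥ ((c i / s i) • Pi.single i 1) := by
      rw [Matrix.mulVec_smul, hs, smul_smul, div_mul_cancel₀ _ hs0, hc]
    rw [Units.val_mul, ← Matrix.mulVec_mulVec, e, Matrix.mulVec_mulVec, ← Units.val_mul,
      inv_mul_cancel, Units.val_one, Matrix.one_mulVec]
  have key : ∀ S : Finset (Fin 9), 0 ∉ S → ∃ d ∈ M, ∃ m : F, ∀ r,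
      (d : Matrix (Fin 9) (Fin 9) F) *ᵥ Pi.single r 1 =
        (if r = 0 then m else if r ∈ S then c r / s r else 1) • Pi.single r 1 := by
    intro S hS
    induction S using Finset.induction with
    | empty => exact ⟨1, one_mem _, 1, fun r => by rw [Units.val_one, Matrix.one_mulVec]; simp⟩
    | @insert a S haS ih =>
      rw [Finset.mem_insert, not_or] at hS
      obtain ⟨d, hdM, m, hd'⟩ := ih hS.2
      have hn : (c a / s a) ^ (p + 1) = 1 := by
        have := mem_suGL_herm (mul_mem (inv_mem (hM hh)) hg) (Pi.single a 1) (Pi.single a 1)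
        rw [hd, (single_orthonormal κ.card 9).1 a] at this
        simpa [Cfsg.hermForm, Pi.single_apply, ite_pow, zero_pow κ.prime.ne_zero, pow_succ',
          mul_pow, div_pow] using this
      obtain ⟨e, he, hev⟩ := diag_mem κ hP (Ne.symm hS.1) hn
      refine ⟨e * d, mul_mem he hdM, (c a / s a)⁻¹ * m, fun r => funext fun k => ?_⟩
      rw [Units.val_mul, ← Matrix.mulVec_mulVec, hd', Matrix.mulVec_smul, Pi.smul_apply, hev]
      by_cases hk : k = r
      · subst hk
        by_cases h0 : k = 0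
        · subst h0; simp [hS.1, mul_comm]
        · by_cases ha : k = a
          · subst ha; simp [h0, haS]
          · simp [h0, ha]
      · simp [hk]
  obtain ⟨d, hdM, m, hdv⟩ := key (Finset.univ.erase 0) (by simp)
  have heq : d = h⁻¹ * g := by
    set k := d⁻¹ * (h⁻¹ * g) with hk
    have hku : k ∈ suGL 9 F p := mul_mem (inv_mem (hM hdM)) (mul_mem (inv_mem (hM hh)) hg)
    have hm0 : m ≠ 0 := fun e => by
      have h1 := hdv 0
      rw [if_pos rfl, e, zero_smul] at h1
      have := congrArg (fun v => (d⁻¹ : GL (Fin 9) F).val *ᵥ v) h1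
      simp only [Matrix.mulVec_mulVec, ← Units.val_mul, inv_mul_cancel, Units.val_one,
        Matrix.one_mulVec, Matrix.mulVec_zero] at this
      simpa using congrFun this 0
    have hkv : ∀ r, (k : Matrix (Fin 9) (Fin 9) F) *ᵥ Pi.single r 1 =
        (if r = 0 then c 0 / s 0 / m else 1) • Pi.single r 1 := fun r => by
      have e : ((h⁻¹ * g : GL (Fin 9) F) : Matrix (Fin 9) (Fin 9) F) *ᵥ Pi.single r 1 =
          (d : Matrix (Fin 9) (Fin 9) F) *ᵥ ((if r = 0 then c 0 / s 0 / m else 1) • Pi.single r 1) := by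
        rw [Matrix.mulVec_smul, hdv, hd, smul_smul]
        by_cases hr : r = 0
        · subst hr; simp [div_mul_cancel₀ _ hm0]
        · simp [hr]
      rw [hk, Units.val_mul, ← Matrix.mulVec_mulVec, e, Matrix.mulVec_mulVec, ← Units.val_mul,
        inv_mul_cancel, Units.val_one, Matrix.one_mulVec]
    have hkd : (k : Matrix (Fin 9) (Fin 9) F) =
        Matrix.diagonal fun r => if r = 0 then c 0 / s 0 / m else 1 := by
      ext a b
      have h2 := congrFun (hkv b) a
      rw [Matrix.mulVec_single_one, Pi.smul_apply, smul_eq_mul] at h2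
      refine h2.trans ?_
      by_cases hab : a = b
      · subst hab; simp
      · simp [hab]
    have hdet : (k : Matrix (Fin 9) (Fin 9) F).det = 1 := Transvect.mem_sl_iff.1 hku.2
    rw [hkd, Matrix.det_diagonal, Finset.prod_ite_eq'] at hdet
    simp only [Finset.mem_univ, if_true] at hdet
    have : k = 1 := Units.ext (by
      rw [hkd, hdet]
      simp)
    rw [hk, inv_mul_eq_one] at this
    exact this
  have : g = h * d := by rw [heq, mul_inv_cancel_left]
  exact this ▸ mul_mem hh hdM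

/-- One centre gives everything. -/
theorem Over.full (O : Over κ M) {v : Fin 9 → F} (hv : v ∈ centres p M) (hv0 : v ≠ 0) :
    suGL 9 F p ≤ M := by
  have hP : ∀ {i j : Fin 9}, i ≠ j → ∀ {a b : F}, nm p a + nm p b = 0 →
      pairVec i j a b ∈ centres p M := fun hij _ _ hab => O.pairs κ hv hv0 hij hab
  obtain ⟨g, hg, s, hs, hgv⟩ := O.gF_mem κ
  refine mono_le_nine κ.card (fun x hx hxm => mono_mem κ O.le hP hx hxm) O.le hg ?_
  intro hm
  obtain ⟨π, hπ⟩ := hm
  obtain ⟨c, hc⟩ := hπ 0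
  have h0 := congrFun hc 0
  have h3 := congrFun hc 3
  rw [Matrix.mulVec_single_one, Pi.smul_apply, smul_eq_mul] at h0 h3
  change (g : Matrix (Fin 9) (Fin 9) F) 0 0 = _ at h0
  change (g : Matrix (Fin 9) (Fin 9) F) 3 0 = _ at h3
  rw [hgv, gF_val] at h0 h3
  have hne : s * κ.c⁻¹ ≠ 0 := mul_ne_zero hs (inv_ne_zero κ.c_ne)
  by_cases hp : π 0 = 0
  · refine hne ?_
    simpa [hp, pK, pI] using h3
  · refine hne ?_
    simpa [hp, Ne.symm hp, pK, pI] using h0

end Cfsg.Agent.C6NineU
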