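/-
Elements of the standard group: monomial normal form, commutators, eigenspaces of the non-scalar ones.
Main results: `tr2`, `R9_form`, `R9_comm`, `R9_cube`, `eig_le`.
-/
import Cfsg.Agent.Lib.C6NineU.Model

set_option autoImplicit false
set_option linter.unusedSectionVars false

namespace Cfsg.Agent.C6NineU

open Matrix
open scoped Matrix

variable {F : Type*} [Field F] [Fintype F] {p : ℕ}

/-- The translation by (a, b). -/
def tr2 (a b : Fin 3) : Equiv.Perm (Fin 9) where
  toFun r := mk (pI r + a) (pK r + b)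
  invFun r := mk (pI r - a) (pK r - b)
  left_inv r := (by decide : ∀ (a b : Fin 3) (r : Fin 9),
    mk (pI (mk (pI r + a) (pK r + b)) - a) (pK (mk (pI r + a) (pK r + b)) - b) = r) a b r
  right_inv r := (by decide : ∀ (a b : Fin 3) (r : Fin 9),
    mk (pI (mk (pI r - a) (pK r - b)) + a) (pK (mk (pI r - a) (pK r - b)) + b) = r) a b r

/-- The affine exponent. -/
def affF (a b c : Fin 3) (r : Fin 9) : Fin 3 := a * pI r + b * pK r + c

theorem tr2_facts : (∀ a b a' b' : Fin 3, ∀ r, tr2 a b (tr2 a' b' r) = tr2 (a + a') (b + b') r) ∧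
    (∀ a b x y z : Fin 3, ∀ r, affF x y z (tr2 a b r) = affF x y (z + x * a + y * b) r) ∧
    (∀ r, tr2 0 0 r = r) ∧ (∀ r, tX r = tr2 1 0 r) ∧ (∀ r, tY r = tr2 0 1 r) := by
  decide +kernel

theorem affF_add : ∀ a b c a' b' c' : Fin 3, ∀ r : Fin 9,
    affF a b c r + affF a' b' c' r = affF (a + a') (b + b') (c + c') r := by
  decide +kernel

theorem affF_level : ∀ a b c k : Fin 3, (a ≠ 0 ∨ b ≠ 0) →
    (Finset.univ.filter fun r => affF a b c r = k).card ≤ 3 := by
  decide +kernel

theorem orbit_cover : ∀ a b : Fin 3, (a ≠ 0 ∨ b ≠ 0) → ∀ j : Fin 9,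
    ∃ s : Fin 3, ∃ n : Fin 3, j = tr2 (n * a) (n * b) (if a = 0 then mk s 0 else mk 0 s) := by
  decide +kernel

variable (κ : W9 F p)
include κ

/-- The product of two normal forms. -/
theorem mulF (a b x y z a' b' x' y' z' : Fin 3) :
    pm (tr2 a b) * dg κ (affF x y z) * (pm (tr2 a' b') * dg κ (affF x' y' z')) =
      pm (tr2 (a + a') (b + b')) * dg κ (affF (x + x') (y + y') (z + x * a' + y * b' + z')) := by
  obtain ⟨comp, shift, tr0, -, -⟩ := tr2_facts
  have e : dg κ (affF x y z) * pm (tr2 a' b') =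
      pm (tr2 a' b') * dg κ (affF x y (z + x * a' + y * b')) := by
    rw [pm_dg]
    congr 2
    funext r
    rw [Function.comp_apply, ← shift, Equiv.apply_symm_apply]
  rw [mul_assoc, ← mul_assoc (dg κ _), e, mul_assoc, dg_mul, ← mul_assoc, pm_mul,
    show tr2 a b * tr2 a' b' = tr2 (a + a') (b + b') from Equiv.ext fun r => comp a b a' b' r,
    show affF x y (z + x * a' + y * b') + affF x' y' z' =
      affF (x + x') (y + y') (z + x * a' + y * b' + z') from funext fun r => affF_add _ _ _ _ _ _ r]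

/-- The normal form. -/
theorem R9_form {r : GL (Fin 9) F} (h : r ∈ R9 κ) :
    ∃ a b x y z : Fin 3, r = pm (tr2 a b) * dg κ (affF x y z) := by
  obtain ⟨comp, shift, tr0, hX, hY⟩ := tr2_facts
  let S : Set (GL (Fin 9) F) := {r | ∃ a b x y z : Fin 3, r = pm (tr2 a b) * dg κ (affF x y z)}
  have hmul : ∀ r ∈ S, ∀ r' ∈ S, r * r' ∈ S := by
    rintro _ ⟨a, b, x, y, z, rfl⟩ _ ⟨a', b', x', y', z', rfl⟩
    exact ⟨_, _, _, _, _, mulF κ a b x y z a' b' x' y' z'⟩
  have h1 : (1 : GL (Fin 9) F) ∈ S := by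
    refine ⟨0, 0, 0, 0, 0, ?_⟩
    rw [show tr2 0 0 = 1 from Equiv.ext tr0, pm_one, one_mul,
      show affF 0 0 0 = 0 from funext fun r => by simp [affF], dg_zero]
  refine Subgroup.closure_induction (p := fun r _ => r ∈ S) ?_ h1 (fun a b _ _ ha hb => hmul a ha b hb)
    (fun a _ ha => ?_) h
  · rintro r (rfl | rfl | rfl | rfl)
    · exact ⟨1, 0, 0, 0, 0, by rw [show tr2 1 0 = tX from Equiv.ext fun r => (hX r).symm,
        show affF 0 0 0 = 0 from funext fun r => by simp [affF], dg_zero, mul_one]⟩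
    · exact ⟨0, 1, 0, 0, 0, by rw [show tr2 0 1 = tY from Equiv.ext fun r => (hY r).symm,
        show affF 0 0 0 = 0 from funext fun r => by simp [affF], dg_zero, mul_one]⟩
    · exact ⟨0, 0, 1, 0, 0, by rw [show tr2 0 0 = 1 from Equiv.ext tr0, pm_one, one_mul,
        show affF 1 0 0 = pI from funext fun r => by simp [affF]]⟩
    · exact ⟨0, 0, 0, 1, 0, by rw [show tr2 0 0 = 1 from Equiv.ext tr0, pm_one, one_mul,
        show affF 0 1 0 = pK from funext fun r => by simp [affF]]⟩
  · have hp : ∀ n : ℕ, a ^ n ∈ S := fun n => by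
      induction n with
      | zero => rw [pow_zero]; exact h1
      | succ n ih => rw [pow_succ]; exact hmul _ ih _ ha
    have := hp (orderOf a - 1)
    rwa [show a ^ (orderOf a - 1) = a⁻¹ from eq_inv_of_mul_eq_one_left (by
      rw [← pow_succ, Nat.sub_add_cancel (orderOf_pos a), pow_orderOf_eq_one])] at this

theorem dg_const_scalar (z : Fin 3) :
    dg κ (fun _ => z) ∈ Cfsg.Geo.scalars (Fin 9) F := by
  rw [Cfsg.Geo.mem_scalars_iff]
  exact ⟨Units.mk0 _ (pow_ne_zero (z : ℕ) κ.ne), by rw [dg_val, Matrix.smul_one_eq_diagonal]; rfl⟩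

/-- The cube of an element. -/
theorem R9_cube {r : GL (Fin 9) F} (h : r ∈ R9 κ) : r ^ 3 = 1 := by
  obtain ⟨a, b, x, y, z, rfl⟩ := R9_form κ h
  obtain ⟨comp, shift, tr0, -, -⟩ := tr2_facts
  have t3 : ∀ a : Fin 3, a + a + a = 0 := by decide
  have c3 : ∀ x a y b z : Fin 3, z + x * a + y * b + z + (x + x) * a + (y + y) * b + z = 0 := by decide
  rw [pow_succ, pow_two, mulF, mulF, t3 a, t3 b, t3 x, t3 y, c3,
    show tr2 0 0 = 1 from Equiv.ext tr0, pm_one, one_mul,
    show affF 0 0 0 = 0 from funext fun r => by simp [affF], dg_zero]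

/-- Two elements commute up to a scalar. -/
theorem R9_comm {r s : GL (Fin 9) F} (hr : r ∈ R9 κ) (hs : s ∈ R9 κ) :
    ∃ c ∈ Cfsg.Geo.scalars (Fin 9) F, r * s = c * (s * r) := by
  obtain ⟨a, b, x, y, z, rfl⟩ := R9_form κ hr
  obtain ⟨a', b', x', y', z', rfl⟩ := R9_form κ hs
  refine ⟨_, dg_const_scalar κ ((z + x * a' + y * b' + z') - (z' + x' * a + y' * b + z)), ?_⟩
  set c := dg κ (fun _ => (z + x * a' + y * b' + z') - (z' + x' * a + y' * b + z)) with hc
  have hcen : ∀ g : GL (Fin 9) F, c * g = g * c := fun g => by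
    obtain ⟨u, hu⟩ := (Cfsg.Geo.mem_scalars_iff _).1 (hc ▸ dg_const_scalar κ _)
    apply Units.ext
    rw [Units.val_mul, Units.val_mul, hu, Matrix.smul_mul, Matrix.mul_smul, one_mul, mul_one]
  rw [hcen, mulF, mulF, hc, mul_assoc, dg_mul]
  congr 2
  · rw [add_comm a, add_comm b]
  · funext r
    exact (by decide : ∀ x x' y y' w w' i k : Fin 3, (x + x') * i + (y + y') * k + w =
      (x' + x) * i + (y' + y) * k + w' + (w - w')) x x' y y' _ _ _ _

/-- Eigenspaces of non-scalar elements have dimension at most three. -/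
theorem eig_le {r : GL (Fin 9) F} (hr : r ∈ R9 κ) (hns : r ∉ Cfsg.Geo.scalars (Fin 9) F) (lam : F)
    (E : Submodule F (Fin 9 → F)) (hE : ∀ v ∈ E, (r : Matrix (Fin 9) (Fin 9) F) *ᵥ v = lam • v) :
    Module.finrank F E ≤ 3 := by
  classical
  obtain ⟨a, b, x, y, z, rfl⟩ := R9_form κ hr
  obtain ⟨comp, shift, tr0, -, -⟩ := tr2_facts
  suffices ∃ S : Finset (Fin 9), S.card ≤ 3 ∧ ∀ v ∈ E, (∀ s ∈ S, v s = 0) → v = 0 by
    obtain ⟨S, hS, hinj⟩ := this
    let f : E →ₗ[F] (S → F) :=
      { toFun := fun v s => (v : Fin 9 → F) s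
        map_add' := fun u v => rfl
        map_smul' := fun c v => rfl }
    have hf : Function.Injective f := by
      rw [← LinearMap.ker_eq_bot, LinearMap.ker_eq_bot']
      intro v hv
      exact Subtype.ext (hinj v v.2 fun s hs => congrFun hv ⟨s, hs⟩)
    refine (LinearMap.finrank_le_finrank_of_injective hf).trans ?_
    rw [Module.finrank_pi, Fintype.card_coe]
    exact hS
  have hv : ∀ v ∈ E, ∀ j, κ.ω ^ (affF x y z j : ℕ) * v j = lam * v (tr2 a b j) := by
    intro v hv j
    have h := congrFun (hE v hv) (tr2 a b j)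
    rw [Units.val_mul, ← Matrix.mulVec_mulVec, Pi.smul_apply, smul_eq_mul] at h
    rw [← h]
    simp only [Matrix.mulVec, dotProduct, pm_val, dg_val, EmbeddingLike.apply_eq_iff_eq, ite_mul,
      one_mul, zero_mul, Finset.sum_ite_eq', Finset.mem_univ, if_true, Matrix.diagonal_apply,
      Finset.sum_ite_eq]
  by_cases hab : a ≠ 0 ∨ b ≠ 0
  · refine ⟨Finset.univ.image fun s : Fin 3 => if a = 0 then mk s 0 else mk 0 s,
      Finset.card_image_le, fun v hvE h0 => ?_⟩
    funext j
    obtain ⟨s, n, rfl⟩ := orbit_cover a b hab j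
    have step : ∀ m, v m = 0 → v (tr2 a b m) = 0 := fun m hm => by
      have := hv v hvE m
      rw [hm, mul_zero] at this
      by_cases hl : lam = 0
      · have h2 := hv v hvE (tr2 a b m)
        rw [hl, zero_mul] at h2
        exact (mul_eq_zero.1 h2).resolve_left (pow_ne_zero _ κ.ne)
      · exact (mul_eq_zero.1 this.symm).resolve_left hl
    set b0 := if a = 0 then mk s 0 else mk 0 s
    have hb0 : v b0 = 0 := h0 _ (Finset.mem_image.2 ⟨s, Finset.mem_univ _, rfl⟩)
    fin_cases n
    · simpa [tr0] using hb0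
    · simpa using step _ hb0
    · have e : tr2 (2 * a) (2 * b) b0 = tr2 a b (tr2 a b b0) := by
        rw [comp, (by decide : ∀ a : Fin 3, 2 * a = a + a) a, (by decide : ∀ a : Fin 3, 2 * a = a + a) b]
      simpa [e] using step _ (step _ hb0)
  · push Not at hab
    obtain ⟨rfl, rfl⟩ := hab
    have hxy : x ≠ 0 ∨ y ≠ 0 := by
      by_contra hc
      push Not at hc
      obtain ⟨rfl, rfl⟩ := hc
      refine hns ?_
      rw [show tr2 0 0 = 1 from Equiv.ext tr0, pm_one, one_mul,
        show affF 0 0 z = fun _ => z from funext fun r => by simp [affF]]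
      exact dg_const_scalar κ z
    by_cases hl : ∃ k : Fin 3, lam = κ.ω ^ (k : ℕ)
    · obtain ⟨k, rfl⟩ := hl
      refine ⟨Finset.univ.filter fun r => affF x y z r = k, affF_level x y z k hxy, fun v hvE h0 => ?_⟩
      funext j
      by_cases hj : affF x y z j = k
      · exact h0 j (Finset.mem_filter.2 ⟨Finset.mem_univ _, hj⟩)
      · have h := hv v hvE j
        rw [tr0] at h
        have hne : κ.ω ^ (affF x y z j : ℕ) ≠ κ.ω ^ (k : ℕ) := by
          intro e
          apply hj
          have h1 := κ.ne_one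
          have h2 : κ.ω ^ 2 ≠ 1 := fun e' => h1 (by linear_combination κ.cube - κ.ω * e')
          have h3 : κ.ω ^ 2 ≠ κ.ω := fun e' => h1 (mul_left_cancel₀ κ.ne (by linear_combination e'))
          generalize affF x y z j = u at e ⊢
          fin_cases u <;> fin_cases k <;>
            first
              | rfl
              | (dsimp at e; simp only [pow_zero, pow_one] at e; first
                | exact absurd e h1 | exact absurd e.symm h1 | exact absurd e h2
                | exact absurd e.symm h2 | exact absurd e h3 | exact absurd e.symm h3)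
        exact (mul_eq_mul_right_iff.1 h).resolve_left hne
    · push Not at hl
      refine ⟨∅, by simp, fun v hvE _ => funext fun j => ?_⟩
      have h := hv v hvE j
      rw [tr0] at h
      exact (mul_eq_mul_right_iff.1 h).resolve_left (Ne.symm (hl _))

end Cfsg.Agent.C6NineU
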