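/-
Four elements: the centraliser of the involution of the standard group acts on a totally isotropic
four-space, and the normaliser induces the whole unitary group there.
Main results: `sum9`, `Ahom`, `Ahom_GU`, `image_full`.
-/
import Cfsg.Agent.Lib.C6NineU.Full
import Cfsg.Agent.Lib.Unitary.MonoFour

set_option autoImplicit false
set_option linter.unusedSectionVars false

namespace Cfsg.Agent.C6NineU

open Matrix Cfsg.Agent.Unitary
open scoped Matrix

variable {F : Type*} [Field F] [Fintype F]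

/-- One point on each line through the origin. -/
def rp : Fin 4 → Fin 9 := ![1, 3, 4, 5]

/-- The other point. -/
def nrp : Fin 4 → Fin 9 := ![2, 6, 8, 7]

/-- The class of each line through the origin. -/
def cls : Fin 4 → Fin 4 := ![0, 1, 3, 2]

theorem rp_facts : (∀ a, tN (rp a) = nrp a ∧ tN (nrp a) = rp a) ∧ tN 0 = 0 ∧ (∀ r, tN.symm r = tN r) ∧
    (∀ a b, (rp a = rp b ↔ a = b) ∧ (nrp a = nrp b ↔ a = b) ∧ rp a ≠ nrp b) ∧
    (∀ a, rp a ≠ 0 ∧ nrp a ≠ 0) ∧ ∀ r, r = 0 ∨ ∃ a, r = rp a ∨ r = nrp a := by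
  decide

theorem sum9 (f : Fin 9 → F) : ∑ r, f r = f 0 + ∑ a, (f (rp a) + f (nrp a)) := by
  simp [Fin.sum_univ_succ, rp, nrp]
  ring

theorem tN_norm_data : (∃ a b : Fin 3, ∀ r, tN (tX r) = mk (pI (tN r) + a) (pK (tN r) + b)) ∧
    (∃ a b : Fin 3, ∀ r, tN (tY r) = mk (pI (tN r) + a) (pK (tN r) + b)) ∧
    IsAffE (pI ∘ tN.symm) ∧ IsAffE (pK ∘ tN.symm) ∧ Equiv.Perm.sign tN = 1 := by
  decide +kernel

/-- A linear map of the plane. -/
def lin (u v : Fin 3 × Fin 3) : Fin 9 → Fin 9 := aff u v (0, 0)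

theorem swap_data : ∀ a b : Fin 4, a ≠ b → ∃ u v : Fin 3 × Fin 3,
    (∀ c d, (if lin u v (rp c) = rp d then 1 else 0) + (if lin u v (nrp c) = rp d then 1 else 0) =
      if Equiv.swap a b c = d then (1 : ℕ) else 0) ∧
    Function.Injective (lin u v) ∧ (∀ r, lin u v (tN r) = tN (lin u v r)) ∧
    (∃ a b : Fin 3, ∀ r, lin u v (tX r) = mk (pI (lin u v r) + a) (pK (lin u v r) + b)) ∧
    (∃ a b : Fin 3, ∀ r, lin u v (tY r) = mk (pI (lin u v r) + a) (pK (lin u v r) + b)) ∧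
    (∃ a b c : Fin 3, ∀ r, pI r = a * pI (lin u v r) + b * pK (lin u v r) + c) ∧
    (∃ a b c : Fin 3, ∀ r, pK r = a * pI (lin u v r) + b * pK (lin u v r) + c) := by
  decide +kernel

theorem lineE_cls : ∀ a b, lineE (cls a) 0 (rp b) = (if a = b then 1 else 0) ∧
    lineE (cls a) 0 (nrp b) = (if a = b then 1 else 0) ∧ lineE (cls a) 0 0 = 1 ∧
    ∀ r, lineE (cls a) 0 (tN r) = lineE (cls a) 0 r := by
  decide +kernel

variable (κ : W9 F 2)
include κ

theorem W9.two : (2 : F) = 0 := by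
  have h := FiniteField.cast_card_eq_zero F
  rw [κ.card] at h
  push_cast at h
  exact pow_eq_zero_iff two_ne_zero |>.1 (by linear_combination h : (2 : F) ^ 2 = 0)

theorem W9.add_self (x : F) : x + x = 0 := by linear_combination x * κ.two

theorem W9.neg_eq (x : F) : -x = x := by linear_combination -(κ.add_self x)

theorem W9.add_sq (x y : F) : (x + y) ^ 2 = x ^ 2 + y ^ 2 := by linear_combination (x * y) * κ.two

theorem W9.ωsq : κ.ω ^ 2 = κ.ω + 1 := by linear_combination κ.rel - (κ.ω + 1) * κ.two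

theorem W9.cases (x : F) : x = 0 ∨ x = 1 ∨ x = κ.ω ∨ x = κ.ω ^ 2 := by
  by_cases hx : x = 0
  · exact Or.inl hx
  right
  have h3 : x ^ 3 = 1 := by
    have := FiniteField.pow_card_sub_one_eq_one x hx
    rwa [κ.card] at this
  have : (x - 1) * ((x - κ.ω) * (x - κ.ω ^ 2)) = 0 := by
    linear_combination h3 + (x - x ^ 2) * κ.rel + (x - 1) * κ.cube
  rcases mul_eq_zero.1 this with h | h
  · exact Or.inl (sub_eq_zero.1 h)
  rcases mul_eq_zero.1 h with h | h
  · exact Or.inr (Or.inl (sub_eq_zero.1 h))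
  · exact Or.inr (Or.inr (sub_eq_zero.1 h))

theorem col_orth {n : ℕ} {g : GL (Fin n) F} (hg : g ∈ Cfsg.GU n F 2) (i j : Fin n) :
    ∑ r, (g : Matrix (Fin n) (Fin n) F) r i * (g : Matrix (Fin n) (Fin n) F) r j ^ 2 =
      if i = j then 1 else 0 :=
  Orthonormal.apply ((isUnitary_iff_orthonormal κ.card _).1 hg) i j

omit κ in
/-- The centraliser of the involution. -/
def CN : Subgroup (GL (Fin 9) F) := Subgroup.centralizer {pm tN}

omit κ in
theorem mem_CN {g : GL (Fin 9) F} : g ∈ (CN : Subgroup (GL (Fin 9) F)) ↔ g * pm tN = pm tN * g :=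
  Subgroup.mem_centralizer_singleton_iff

omit κ in
theorem CN_entry {g : GL (Fin 9) F} (hg : g ∈ (CN : Subgroup (GL (Fin 9) F))) (r c : Fin 9) :
    (g : Matrix (Fin 9) (Fin 9) F) (tN r) (tN c) = (g : Matrix (Fin 9) (Fin 9) F) r c := by
  have h := congrArg (fun x : GL (Fin 9) F => (x : Matrix (Fin 9) (Fin 9) F) (tN r) c)
    (mem_CN.1 hg)
  simp only [mul_pm, pm_mul', Equiv.symm_apply_apply] at h
  exact h

omit κ in
theorem CN_dg (κ : W9 F 2) {E : Fin 9 → Fin 3} (h : ∀ r, E (tN r) = E r) :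
    dg κ E ∈ (CN : Subgroup (GL (Fin 9) F)) := by
  rw [mem_CN, pm_dg]
  congr 2
  funext r
  rw [Function.comp_apply, rp_facts.2.2.1, h]

/-- The action on the four-space. -/
def Amat (g : GL (Fin 9) F) : Matrix (Fin 4) (Fin 4) F :=
  Matrix.of fun a b => (g : Matrix (Fin 9) (Fin 9) F) (rp a) (rp b) +
    (g : Matrix (Fin 9) (Fin 9) F) (rp a) (nrp b)

theorem Amat_row (g : GL (Fin 9) F) (hg : g ∈ (CN : Subgroup (GL (Fin 9) F))) (a b : Fin 4) :
    (g : Matrix (Fin 9) (Fin 9) F) (nrp a) (rp b) + (g : Matrix (Fin 9) (Fin 9) F) (nrp a) (nrp b) =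
      Amat g a b ∧
    (g : Matrix (Fin 9) (Fin 9) F) (rp a) (rp b) + (g : Matrix (Fin 9) (Fin 9) F) (nrp a) (rp b) =
      Amat g a b ∧
    (g : Matrix (Fin 9) (Fin 9) F) 0 (rp b) + (g : Matrix (Fin 9) (Fin 9) F) 0 (nrp b) = 0 := by
  obtain ⟨t, t0, -⟩ := rp_facts
  have e1 := CN_entry hg (rp a) (nrp b)
  have e2 := CN_entry hg (rp a) (rp b)
  have e3 := CN_entry hg 0 (rp b)
  rw [(t a).1, (t b).2] at e1
  rw [(t a).1, (t b).1] at e2
  rw [t0, (t b).1] at e3
  refine ⟨?_, ?_, ?_⟩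
  · rw [e1, e2, Amat, Matrix.of_apply, add_comm]
  · rw [e1, Amat, Matrix.of_apply]
  · rw [e3, κ.add_self]

theorem Amat_mul {g h : GL (Fin 9) F} (hh : h ∈ (CN : Subgroup (GL (Fin 9) F))) :
    Amat (g * h) = Amat g * Amat h := by
  ext a b
  simp only [Amat, Matrix.of_apply, Units.val_mul, Matrix.mul_apply]
  rw [← Finset.sum_add_distrib, sum9]
  rw [show (g : Matrix (Fin 9) (Fin 9) F) (rp a) 0 * (h : Matrix (Fin 9) (Fin 9) F) 0 (rp b) +
      (g : Matrix (Fin 9) (Fin 9) F) (rp a) 0 * (h : Matrix (Fin 9) (Fin 9) F) 0 (nrp b) = 0 by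
    rw [← mul_add, (Amat_row κ h hh 0 b).2.2, mul_zero], zero_add]
  refine Finset.sum_congr rfl fun c _ => ?_
  have e := (Amat_row κ h hh c b).1
  simp only [Amat, Matrix.of_apply] at e
  linear_combination (g : Matrix (Fin 9) (Fin 9) F) (rp a) (nrp c) * e

theorem Amat_one : Amat (1 : GL (Fin 9) F) = 1 := by
  obtain ⟨-, -, -, inj, -, -⟩ := rp_facts
  ext a b
  simp [Amat, Matrix.one_apply, (inj a b).1, (inj a b).2.2]

/-- The homomorphism to GL_4. -/
def Ahom : (CN : Subgroup (GL (Fin 9) F)) →* GL (Fin 4) F :=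
  MonoidHom.toHomUnits
    { toFun := fun g => Amat g.1
      map_one' := Amat_one κ
      map_mul' := fun g h => Amat_mul κ h.2 }

theorem Ahom_val (g : (CN : Subgroup (GL (Fin 9) F))) :
    (Ahom κ g : Matrix (Fin 4) (Fin 4) F) = Amat g.1 := rfl

theorem Ahom_GU (g : (CN : Subgroup (GL (Fin 9) F))) (hg : g.1 ∈ Cfsg.GU 9 F 2) :
    Ahom κ g ∈ Cfsg.GU 4 F 2 := by
  have main : ∀ i j : Fin 4, ∑ a, Amat g.1 a i * Amat g.1 a j ^ 2 = if i = j then 1 else 0 := by
    intro i j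
    obtain ⟨-, -, -, inj, -, -⟩ := rp_facts
    have h := congrArg₂ (· + ·) (col_orth κ hg (rp i) (rp j)) (col_orth κ hg (rp i) (nrp j))
    simp only [← Finset.sum_add_distrib, ← mul_add, ← κ.add_sq, (inj i j).1, (inj i j).2.2,
      if_false, add_zero] at h
    rw [sum9, (Amat_row κ g.1 g.2 0 j).2.2, zero_pow two_ne_zero, mul_zero, zero_add] at h
    rw [← h]
    refine Finset.sum_congr rfl fun a _ => ?_
    obtain ⟨e1, e2, -⟩ := Amat_row κ g.1 g.2 a i
    obtain ⟨e1', -, -⟩ := Amat_row κ g.1 g.2 a j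
    rw [e1', ← e2, Amat, Matrix.of_apply]
    ring
  show IsUnitary 2 (Ahom κ g : Matrix (Fin 4) (Fin 4) F)
  refine (isUnitary_iff_orthonormal κ.card _).2 ⟨fun i => ?_, fun i j hij => ?_⟩
  · exact (main i i).trans (if_pos rfl)
  · exact (main i j).trans (if_neg hij)

/-- The image of the known part of the normaliser. -/
def Img : Subgroup (GL (Fin 4) F) :=
  ((Cfsg.Geo.subgroupNormalizer (R9 κ) ⊓ suGL 9 F 2).comap
    (CN : Subgroup (GL (Fin 9) F)).subtype).map (Ahom κ)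

theorem mem_Img {g : GL (Fin 9) F} (hg : g ∈ (CN : Subgroup (GL (Fin 9) F)))
    (hn : g ∈ Cfsg.Geo.subgroupNormalizer (R9 κ)) (hs : g ∈ suGL 9 F 2) {A : GL (Fin 4) F}
    (hA : (A : Matrix (Fin 4) (Fin 4) F) = Amat g) : A ∈ Img κ :=
  ⟨⟨g, hg⟩, Subgroup.mem_inf.2 ⟨hn, hs⟩, Units.ext hA.symm⟩

theorem Img_diag (a : Fin 4) : ∃ A ∈ Img κ, (A : Matrix (Fin 4) (Fin 4) F) =
    Matrix.diagonal fun b => if b = a then κ.ω else 1 := by
  obtain ⟨hX, hY, hs⟩ := lineE_good (cls a) 0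
  have hC := CN_dg κ (E := lineE (cls a) 0) (fun r => (lineE_cls a 0).2.2.2 r)
  refine ⟨_, ⟨⟨_, hC⟩, Subgroup.mem_inf.2 ⟨dg_norm κ hX hY, dg_mem_su κ hs⟩, rfl⟩, ?_⟩
  obtain ⟨-, -, -, inj, -, -⟩ := rp_facts
  rw [Ahom_val]
  ext c d
  simp only [Amat, Matrix.of_apply, dg_val, Matrix.diagonal_apply, (inj c d).1, (inj c d).2.2,
    if_false, add_zero, (lineE_cls a c).1]
  by_cases hcd : c = d
  · subst hcd
    by_cases hca : c = a
    · subst hca; simp
    · simp [hca, Ne.symm hca]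
  · simp [hcd]

theorem pm_su {σ : Equiv.Perm (Fin 9)} : (pm σ : GL (Fin 9) F) ∈ suGL 9 F 2 := by
  refine mem_su (pm_GU κ σ) ?_
  have e : ((pm σ : GL (Fin 9) F) : Matrix (Fin 9) (Fin 9) F) = σ⁻¹.permMatrix F := by
    ext a b
    rw [pm_val, Equiv.Perm.permMatrix, PEquiv.toMatrix_apply]
    by_cases h : σ b = a
    · subst h; simp
    · have h' : σ.symm a ≠ b := fun e => h (by rw [← e, Equiv.apply_symm_apply])
      simp [h, h']
  rw [e, Matrix.det_permutation]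
  rcases Int.units_eq_one_or (Equiv.Perm.sign σ⁻¹) with h | h <;> simp [h, κ.neg_eq]

theorem Img_perm (π : Equiv.Perm (Fin 4)) : ∃ A ∈ Img κ, ∀ a b : Fin 4,
    (A : Matrix (Fin 4) (Fin 4) F) a b = if π b = a then 1 else 0 := by
  induction π using Equiv.Perm.swap_induction_on with
  | one => exact ⟨1, one_mem _, fun a b => by rw [Units.val_one, Matrix.one_apply]; simp [eq_comm]⟩
  | swap_mul π a b hab ih =>
    obtain ⟨A, hA, hAv⟩ := ih
    obtain ⟨u, v, hperm, hi, hN, hX, hY, ⟨p, q, r, hI⟩, ⟨p', q', r', hK⟩⟩ := swap_data a b hab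
    set σ := Equiv.ofBijective _ (Finite.injective_iff_bijective.1 hi) with hσ
    have hn : (pm σ : GL (Fin 9) F) ∈ Cfsg.Geo.subgroupNormalizer (R9 κ) := by
      refine pm_norm κ hX hY ⟨p, q, r, fun s => ?_⟩ ⟨p', q', r', fun s => ?_⟩
      · obtain ⟨s, rfl⟩ := σ.surjective s
        rw [Function.comp_apply, Equiv.symm_apply_apply]
        exact hI s
      · obtain ⟨s, rfl⟩ := σ.surjective s
        rw [Function.comp_apply, Equiv.symm_apply_apply]
        exact hK s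
    have hC : (pm σ : GL (Fin 9) F) ∈ (CN : Subgroup (GL (Fin 9) F)) := by
      rw [mem_CN, pm_mul, pm_mul]
      congr 1
      exact Equiv.ext fun s => hN s
    refine ⟨_, mul_mem (mem_Img κ hC hn (pm_su κ) (A := Ahom κ ⟨_, hC⟩) rfl) hA, fun c d => ?_⟩
    rw [Units.val_mul, Matrix.mul_apply, Finset.sum_eq_single (π d) (fun e _ he => by
      rw [hAv, if_neg he.symm, mul_zero]) (fun h => absurd (Finset.mem_univ _) h), hAv, if_pos rfl,
      mul_one, Ahom_val]
    simp only [Amat, Matrix.of_apply, pm_val, Equiv.Perm.mul_apply]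
    have := congrArg (Nat.cast (R := F)) (hperm (π d) c)
    push_cast at this
    exact this

theorem Img_gF : ∃ A ∈ Img κ, ¬ IsMon A := by
  have hC : gF κ ∈ (CN : Subgroup (GL (Fin 9) F)) := by
    rw [mem_CN]
    apply Units.ext
    ext a b
    rw [mul_pm, pm_mul', rp_facts.2.2.1, gF_val, gF_val]
    have key : ∀ a b : Fin 9, (pK a = pK (tN b) ↔ pK (tN a) = pK b) ∧
        pI a * pI (tN b) = pI (tN a) * pI b := by decide
    rw [(key a b).2]
    simp only [(key a b).1]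
  have hs : gF κ ∈ suGL 9 F 2 := by
    refine mem_su (gF_GU κ) ?_
    rcases mul_self_eq_one_iff.1 (gF_det_sq κ) with h | h
    · exact h
    · rw [h, κ.neg_eq]
  refine ⟨_, mem_Img κ hC (gF_norm κ) hs (A := Ahom κ ⟨_, hC⟩) rfl, fun hm => ?_⟩
  obtain ⟨π, hπ⟩ := hm
  obtain ⟨c, hc⟩ := hπ 2
  have h0 := congrFun hc 0
  have h2 := congrFun hc 2
  rw [Matrix.mulVec_single_one, Pi.smul_apply, smul_eq_mul] at h0 h2
  change (Ahom κ ⟨gF κ, hC⟩ : Matrix (Fin 4) (Fin 4) F) 0 2 = _ at h0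
  change (Ahom κ ⟨gF κ, hC⟩ : Matrix (Fin 4) (Fin 4) F) 2 2 = _ at h2
  rw [Ahom_val, Amat, Matrix.of_apply, gF_val, gF_val] at h0 h2
  simp [rp, nrp, pK, pI, κ.c_ne, κ.ne] at h0 h2
  by_cases hp : π 2 = 0
  · simp [hp, κ.c_ne, κ.ne] at h2
  · simp [Ne.symm hp, κ.c_ne, κ.ne] at h0

theorem Img_mono {A : GL (Fin 4) F} (hA : A ∈ Cfsg.GU 4 F 2) (hm : IsMon A) : A ∈ Img κ := by
  classical
  obtain ⟨π, hπ⟩ := hm
  choose c hc using hπ
  have hc0 : ∀ i, c i ≠ 0 := fun i e => by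
    have := congrArg (fun v => (A⁻¹ : GL (Fin 4) F).val *ᵥ v) (hc i)
    simp only [e, zero_smul, Matrix.mulVec_mulVec, ← Units.val_mul, inv_mul_cancel, Units.val_one,
      Matrix.one_mulVec, Matrix.mulVec_zero] at this
    simpa using congrFun this i
  have key : ∀ S : Finset (Fin 4), ∃ D ∈ Img κ, (D : Matrix (Fin 4) (Fin 4) F) =
      Matrix.diagonal fun b => if b ∈ S then c b else 1 := by
    intro S
    induction S using Finset.induction with
    | empty => exact ⟨1, one_mem _, by simp⟩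
    | @insert a S haS ih =>
      obtain ⟨D, hD, hDv⟩ := ih
      obtain ⟨E, hE, hEv⟩ := Img_diag κ a
      obtain ⟨k, hk⟩ : ∃ k : ℕ, κ.ω ^ k = c a := by
        rcases κ.cases (c a) with h | h | h | h
        · exact absurd h (hc0 a)
        · exact ⟨0, by rw [h, pow_zero]⟩
        · exact ⟨1, by rw [h, pow_one]⟩
        · exact ⟨2, h.symm⟩
      refine ⟨E ^ k * D, mul_mem (pow_mem hE k) hD, ?_⟩
      rw [Units.val_mul, Units.val_pow_eq_pow_val, hEv, hDv, Matrix.diagonal_pow,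
        Matrix.diagonal_mul_diagonal]
      congr 1
      funext b
      by_cases hb : b = a
      · subst hb; simp [haS, hk]
      · simp [hb]
  obtain ⟨D, hD, hDv⟩ := key Finset.univ
  obtain ⟨P, hP, hPv⟩ := Img_perm κ π
  have : A = P * D := by
    apply Units.ext
    ext a b
    have h := congrFun (hc b) a
    rw [Matrix.mulVec_single_one, Pi.smul_apply, smul_eq_mul] at h
    refine h.trans ?_
    rw [Units.val_mul, hDv, Matrix.mul_diagonal, hPv]
    by_cases hab : π b = a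
    · subst hab; simp
    · simp [hab, Pi.single_apply, Ne.symm hab]
  exact this ▸ mul_mem hP hD

/-- The normaliser induces all of GU_4(2). -/
theorem image_full {A : GL (Fin 4) F} (hA : A ∈ Cfsg.GU 4 F 2) : A ∈ Img κ := by
  obtain ⟨B, hB, hBm⟩ := Img_gF κ
  have hImg : Img κ ≤ Cfsg.GU 4 F 2 := by
    rintro _ ⟨g, hg, rfl⟩
    exact Ahom_GU κ g hg.2.1
  obtain ⟨E, hE, hEv⟩ := Img_diag κ 0
  have fix_det : ∀ C ∈ Cfsg.GU 4 F 2, ∃ k : ℕ, (E ^ k)⁻¹ * C ∈ suGL 4 F 2 := by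
    intro C hC
    have hd : (C : Matrix (Fin 4) (Fin 4) F).det ^ (2 + 1) = 1 :=
      IsUnitary.det_norm κ.card (hC : IsUnitary 2 (C : Matrix (Fin 4) (Fin 4) F))
    obtain ⟨k, hk⟩ : ∃ k : ℕ, κ.ω ^ k = (C : Matrix (Fin 4) (Fin 4) F).det := by
      rcases κ.cases (C : Matrix (Fin 4) (Fin 4) F).det with h | h | h | h
      · rw [h] at hd; norm_num at hd
      · exact ⟨0, by rw [h, pow_zero]⟩
      · exact ⟨1, by rw [h, pow_one]⟩
      · exact ⟨2, h.symm⟩
    refine ⟨k, Subgroup.mem_inf.2 ⟨mul_mem (inv_mem (pow_mem (hImg hE) k)) hC,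
      Transvect.mem_sl_iff.2 ?_⟩⟩
    have e : ((E ^ k : GL (Fin 4) F) : Matrix (Fin 4) (Fin 4) F).det = κ.ω ^ k := by
      rw [Units.val_pow_eq_pow_val, Matrix.det_pow, hEv, Matrix.det_diagonal]
      simp
    have h1 := congrArg Matrix.det (congrArg Units.val (inv_mul_cancel (E ^ k)))
    rw [Units.val_mul, Matrix.det_mul, Units.val_one, Matrix.det_one, e] at h1
    rw [Units.val_mul, Matrix.det_mul, ← hk, h1]
  obtain ⟨k, hk⟩ := fix_det B (hImg hB)
  have hsu : suGL 4 F 2 ≤ Img κ := by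
    have hnm : ¬ IsMon ((E ^ k)⁻¹ * B) := fun h => hBm (by
      have hEm : IsMon (E ^ k) := by
        refine ⟨1, fun i => ⟨(if i = 0 then κ.ω else 1) ^ k, ?_⟩⟩
        rw [Units.val_pow_eq_pow_val, hEv, Matrix.diagonal_pow, Matrix.mulVec_single_one]
        funext j
        by_cases hj : j = i
        · subst hj; simp
        · simp [hj, Matrix.diagonal]
      simpa using hEm.mul h)
    exact le_trans (mono_le_four_two κ.card (M := Img κ ⊓ suGL 4 F 2)
      (fun g hg hm => ⟨Img_mono κ hg.1 hm, hg⟩) rfl inf_le_right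
      (Subgroup.mem_inf.2 ⟨mul_mem (inv_mem (pow_mem hE k)) hB, hk⟩) hnm) inf_le_left
  obtain ⟨k, hk⟩ := fix_det A hA
  simpa using mul_mem (pow_mem hE k) (hsu hk)

end Cfsg.Agent.C6NineU
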