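/-
Four elements: the elements of an overgroup acting trivially on the totally isotropic four-space and
fixing the remaining basis vector modulo nothing are 1 and the involution.
Main results: `Pm`, `kmat`, `MS`, `MS_trivial`.
-/
import Cfsg.Agent.Lib.C6NineU.Centre

set_option autoImplicit false
set_option linter.unusedSectionVars false

namespace Cfsg.Agent.C6NineU

open Matrix Cfsg.Agent.Unitary
open scoped Matrix

variable {F : Type*} [Field F] [Fintype F]

/-- The columns f_a = e_(rp a) + e_(nrp a). -/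
def Pm (F : Type*) [Field F] : Matrix (Fin 9) (Fin 4) F :=
  Matrix.of fun r a => if r = rp a ∨ r = nrp a then 1 else 0

/-- The conjugate transpose. -/
def star2 {m n : Type*} (X : Matrix m n F) : Matrix n m F := (X.map fun x => x ^ 2)ᵀ

/-- A central element. -/
def kmat (Y : Matrix (Fin 4) (Fin 4) F) : Matrix (Fin 9) (Fin 9) F :=
  1 + (Pm F) * Y * (Pm F)ᵀ

/-- The hermitian matrices of central elements in M. -/
def MS (M : Subgroup (GL (Fin 9) F)) : Set (Matrix (Fin 4) (Fin 4) F) :=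
  {Y | ∃ g ∈ M, g ∈ (CN : Subgroup (GL (Fin 9) F)) ∧ (g : Matrix (Fin 9) (Fin 9) F) = kmat Y}

/-- The elementary hermitian matrix. -/
def EH (a b : Fin 4) (x : F) : Matrix (Fin 4) (Fin 4) F :=
  Matrix.of fun c d => if c = a ∧ d = b then x else if c = b ∧ d = a then x ^ 2 else 0

theorem bool_cases : ∀ f : Fin 4 → Bool, (∀ a, f a = f 0) ∨
    (∃ a, ∀ b, f b = decide (b = a)) ∨ (∃ a, ∀ b, f b = decide (b ≠ a)) ∨
    ∃ a b, a ≠ b ∧ ∀ c, f c = decide (c = a ∨ c = b) := by
  decide +kernel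

theorem exists_move : ∀ a b : Fin 4, a ≠ b → ∀ c d : Fin 4, c ≠ d →
    ∃ π : Equiv.Perm (Fin 4), π a = c ∧ π b = d := by
  decide +kernel

variable (κ : W9 F 2)
include κ

theorem sq_map {m n k : Type*} [Fintype n] (X : Matrix m n F) (Y : Matrix n k F) :
    (X * Y).map (fun x => x ^ 2) = X.map (fun x => x ^ 2) * Y.map (fun x => x ^ 2) :=
  by
  show (X * Y).map ⇑(Cfsg.Agent.Unitary.conjHom κ.card) =
    X.map ⇑(Cfsg.Agent.Unitary.conjHom κ.card) * Y.map ⇑(Cfsg.Agent.Unitary.conjHom κ.card)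
  exact Matrix.map_mul

theorem star2_mul {m n k : Type*} [Fintype n] (X : Matrix m n F) (Y : Matrix n k F) :
    star2 (X * Y) = star2 Y * star2 X := by
  rw [star2, sq_map κ, Matrix.transpose_mul]; rfl

theorem GU_inv {n : ℕ} {g : GL (Fin n) F} (hg : g ∈ Cfsg.GU n F 2) :
    ((g⁻¹ : GL (Fin n) F) : Matrix (Fin n) (Fin n) F) = star2 (g : Matrix (Fin n) (Fin n) F) := by
  have e : star2 (g : Matrix (Fin n) (Fin n) F) * (g : Matrix (Fin n) (Fin n) F) = 1 := by
    ext i j
    rw [Matrix.mul_apply, Matrix.one_apply]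
    have h := col_orth κ hg j i
    rw [show (if i = j then (1 : F) else 0) = if j = i then 1 else 0 by simp [eq_comm], ← h]
    exact Finset.sum_congr rfl fun r _ => mul_comm _ _
  calc ((g⁻¹ : GL (Fin n) F) : Matrix (Fin n) (Fin n) F)
      = (star2 (g : Matrix (Fin n) (Fin n) F) * (g : Matrix (Fin n) (Fin n) F)) *
          ((g⁻¹ : GL (Fin n) F) : Matrix (Fin n) (Fin n) F) := by rw [e, Matrix.one_mul]
    _ = _ := by rw [Matrix.mul_assoc, ← Units.val_mul, mul_inv_cancel, Units.val_one, Matrix.mul_one]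

theorem Pm_star : star2 (Pm F) = (Pm F)ᵀ := by
  ext a r
  simp only [star2, Matrix.transpose_apply, Matrix.map_apply, Pm, Matrix.of_apply]
  split_ifs <;> simp

theorem Pm_rp (a b : Fin 4) : (Pm F) (rp a) b = (if a = b then 1 else 0) ∧
    (Pm F) (nrp a) b = (if a = b then 1 else 0) ∧
    (Pm F) 0 b = 0 := by
  obtain ⟨-, -, -, inj, ne0, -⟩ := rp_facts
  refine ⟨?_, ?_, ?_⟩
  · simp [Pm, (inj a b).1, (inj a b).2.2]
  · simp [Pm, (inj a b).2.1, (inj b a).2.2.symm]
  · simp [Pm, (ne0 b).1.symm, (ne0 b).2.symm]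

theorem PtP : (Pm F)ᵀ * (Pm F) = 0 := by
  ext a b
  rw [Matrix.mul_apply, sum9]
  simp only [Matrix.transpose_apply, (Pm_rp κ _ _).1, (Pm_rp κ _ _).2.1, (Pm_rp κ a _).2.2]
  simp [κ.add_self]

theorem CN_mul_Pm {g : GL (Fin 9) F} (hg : g ∈ (CN : Subgroup (GL (Fin 9) F))) :
    (g : Matrix (Fin 9) (Fin 9) F) * (Pm F) = (Pm F) * Amat g := by
  ext r b
  obtain ⟨-, -, -, -, -, cov⟩ := rp_facts
  rw [Matrix.mul_apply, sum9, Matrix.mul_apply, (Pm_rp κ 0 b).2.2, mul_zero, zero_add]
  simp only [(Pm_rp κ _ _).1, (Pm_rp κ _ _).2.1, mul_ite, mul_one, mul_zero]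
  rw [Finset.sum_add_distrib]
  simp only [Finset.sum_ite_eq', Finset.mem_univ, if_true]
  rcases cov r with rfl | ⟨a, rfl | rfl⟩
  · simp only [(Pm_rp κ 0 _).2.2, zero_mul, Finset.sum_const_zero]
    exact (Amat_row κ g hg 0 b).2.2
  · simp only [(Pm_rp κ _ _).1, ite_mul, one_mul, zero_mul, Finset.sum_ite_eq, Finset.mem_univ, if_true]
    rfl
  · simp only [(Pm_rp κ _ _).2.1, ite_mul, one_mul, zero_mul, Finset.sum_ite_eq, Finset.mem_univ, if_true]
    exact (Amat_row κ g hg a b).1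

theorem kmat_mul (Y Y' : Matrix (Fin 4) (Fin 4) F) : kmat Y * kmat Y' = kmat (Y + Y') := by
  simp only [kmat, Matrix.mul_add, Matrix.add_mul, Matrix.one_mul, Matrix.mul_one, Matrix.mul_assoc]
  rw [← Matrix.mul_assoc ((Pm F)ᵀ) (Pm F), PtP κ, Matrix.zero_mul, Matrix.mul_zero, Matrix.mul_zero, add_zero]
  abel

theorem kmat_entry (Y : Matrix (Fin 4) (Fin 4) F) (a b : Fin 4) :
    kmat Y (rp a) (nrp b) = Y a b ∧ kmat Y (rp a) (rp b) = (if a = b then 1 else 0) + Y a b ∧
      kmat Y (nrp a) (rp b) = Y a b := by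
  obtain ⟨-, -, -, inj, -, -⟩ := rp_facts
  simp [kmat, Matrix.add_apply, Matrix.mul_apply, Matrix.one_apply, (Pm_rp κ _ _).1,
    (Pm_rp κ _ _).2.1, (inj a b).1, (inj a b).2.2, (inj b a).2.2.symm]

theorem z_kmat : ((pm tN : GL (Fin 9) F) : Matrix (Fin 9) (Fin 9) F) = kmat 1 := by
  obtain ⟨t, t0, -, inj, ne0, cov⟩ := rp_facts
  ext r s
  rw [pm_val, kmat, Matrix.mul_one, Matrix.add_apply, Matrix.mul_apply]
  simp only [Matrix.transpose_apply, Matrix.one_apply]
  rcases cov r with rfl | ⟨a, rfl | rfl⟩ <;> rcases cov s with rfl | ⟨b, rfl | rfl⟩ <;>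
    simp [(Pm_rp κ _ _).1, (Pm_rp κ _ _).2.1, (Pm_rp κ 0 _).2.2, (t _).1, (t _).2, t0,
      (inj _ _).1, (inj _ _).2.1, (inj _ _).2.2, Ne.symm (inj _ _).2.2, (ne0 _).1, (ne0 _).2,
      Ne.symm (ne0 _).1, Ne.symm (ne0 _).2, κ.add_self, eq_comm]
  all_goals (split_ifs <;> simp [κ.add_self])

variable {M : Subgroup (GL (Fin 9) F)}

theorem MS_zero : (0 : Matrix (Fin 4) (Fin 4) F) ∈ MS M :=
  ⟨1, one_mem _, one_mem _, by simp [kmat]⟩

theorem MS_add {Y Y' : Matrix (Fin 4) (Fin 4) F} (h : Y ∈ MS M) (h' : Y' ∈ MS M) : Y + Y' ∈ MS M := by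
  obtain ⟨g, hg, hgC, e⟩ := h
  obtain ⟨g', hg', hgC', e'⟩ := h'
  exact ⟨g * g', mul_mem hg hg', mul_mem hgC hgC', by rw [Units.val_mul, e, e', kmat_mul κ]⟩

variable (O : Over κ M)
include O

theorem MS_conj {Y : Matrix (Fin 4) (Fin 4) F} (h : Y ∈ MS M) {A : GL (Fin 4) F}
    (hA : A ∈ Cfsg.GU 4 F 2) :
    (A : Matrix (Fin 4) (Fin 4) F) * Y * star2 (A : Matrix (Fin 4) (Fin 4) F) ∈ MS M := by
  obtain ⟨g, hg, hgC, e⟩ := h
  obtain ⟨⟨n, hnC⟩, hn, rfl⟩ := image_full κ hA
  have hnM : n ∈ M := O.base hn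
  have hnU : n ∈ Cfsg.GU 9 F 2 := (O.le hnM).1
  refine ⟨n * g * n⁻¹, mul_mem (mul_mem hnM hg) (inv_mem hnM), mul_mem (mul_mem hnC hgC) (inv_mem hnC), ?_⟩
  have h1 := CN_mul_Pm κ hnC
  have h2 : (Pm F)ᵀ * ((n⁻¹ : GL (Fin 9) F) : Matrix (Fin 9) (Fin 9) F) = star2 (Amat n) * (Pm F)ᵀ := by
    rw [GU_inv κ hnU, ← Pm_star κ, ← star2_mul κ, h1, star2_mul κ]
  rw [Units.val_mul, Units.val_mul, e, kmat, Matrix.mul_add, Matrix.add_mul, Matrix.mul_one,
    ← Units.val_mul, mul_inv_cancel, Units.val_one, kmat]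
  congr 1
  rw [show (n : Matrix (Fin 9) (Fin 9) F) * ((Pm F) * Y * (Pm F)ᵀ) * ((n⁻¹ : GL (Fin 9) F) : Matrix (Fin 9) (Fin 9) F) =
    ((n : Matrix (Fin 9) (Fin 9) F) * (Pm F)) * Y * ((Pm F)ᵀ * ((n⁻¹ : GL (Fin 9) F) : Matrix (Fin 9) (Fin 9) F)) by
      simp only [Matrix.mul_assoc], h1, h2, Ahom_val]
  simp only [Matrix.mul_assoc]

theorem MS_herm {Y : Matrix (Fin 4) (Fin 4) F} (h : Y ∈ MS M) (a b : Fin 4) : Y a b = Y b a ^ 2 := by
  obtain ⟨g, hg, -, e⟩ := h
  have hinv : g⁻¹ = g := inv_eq_of_mul_eq_one_right (Units.ext (by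
    rw [Units.val_mul, e, kmat_mul κ, Units.val_one,
      show Y + Y = 0 from Matrix.ext fun i j => κ.add_self _]
    simp [kmat]))
  have h1 := congrFun (congrFun (GU_inv κ (O.le hg).1) (rp a)) (nrp b)
  rw [hinv, star2, Matrix.transpose_apply, Matrix.map_apply, e, (kmat_entry κ Y a b).1,
    (kmat_entry κ Y b a).2.2] at h1
  exact h1

theorem MS_diag {Y : Matrix (Fin 4) (Fin 4) F} (h : Y ∈ MS M) (a : Fin 4) {x : F} (hx : x ≠ 0) :
    Matrix.of (fun c d => (if c = a then x else 1) * Y c d * (if d = a then x else 1) ^ 2) ∈ MS M := by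
  have h3 : x ^ 3 = 1 := by
    rcases κ.cases x with e | e | e | e
    · exact absurd e hx
    · rw [e, one_pow]
    · rw [e, κ.cube]
    · rw [e, ← pow_mul, pow_mul', κ.cube, one_pow]
  have hU : IsUnitary 2 (Matrix.diagonal fun c : Fin 4 => if c = a then x else 1) :=
    isUnitary_diagonal κ.card fun c => by split_ifs <;> simp [h3]
  convert MS_conj κ O h (A := (guOfUnitary κ.card _ hU).1) (guOfUnitary κ.card _ hU).2 using 1
  rw [guOfUnitary_val, star2, Matrix.diagonal_map (f := fun x : F => x ^ 2) (zero_pow two_ne_zero), Matrix.diagonal_transpose]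
  ext c d
  rw [Matrix.mul_diagonal, Matrix.diagonal_mul]
  rfl

theorem MS_perm {Y : Matrix (Fin 4) (Fin 4) F} (h : Y ∈ MS M) (π : Equiv.Perm (Fin 4)) :
    Matrix.of (fun c d => Y (π.symm c) (π.symm d)) ∈ MS M := by
  obtain ⟨A, hA, hAv⟩ := Img_perm κ π
  obtain ⟨g, hg, rfl⟩ := hA
  convert MS_conj κ O h (Ahom_GU κ g hg.2.1) using 1
  ext c d
  simp only [star2, Matrix.mul_apply, Matrix.transpose_apply, Matrix.map_apply, hAv, Matrix.of_apply]
  rw [Finset.sum_eq_single (π.symm d) (fun e _ he => by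
    rw [if_neg (fun h' => he (by rw [← h', Equiv.symm_apply_apply]))]; simp)
    (fun h => absurd (Finset.mem_univ _) h), Finset.sum_eq_single (π.symm c) (fun e _ he => by
    rw [if_neg (fun h' => he (by rw [← h', Equiv.symm_apply_apply]))]; simp)
    (fun h => absurd (Finset.mem_univ _) h)]
  simp

theorem MS_offdiag {Y : Matrix (Fin 4) (Fin 4) F} (h : Y ∈ MS M) {a b : Fin 4} (hab : a ≠ b)
    (hne : Y a b ≠ 0) {c d : Fin 4} (hcd : c ≠ d) (x : F) : EH c d x ∈ MS M := by
  have one : ∀ {Z : Matrix (Fin 4) (Fin 4) F}, Z ∈ MS M → ∀ {c d : Fin 4}, c ≠ d → Z c d ≠ 0 →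
      ∀ x : F, EH c d x ∈ MS M := by
    intro Z hZ c d hcd hne x
    by_cases hx : x = 0
    · convert MS_zero κ (M := M) using 1
      ext i j; simp [EH, hx]
    have h1 := MS_add κ hZ (MS_diag κ O hZ c κ.ne)
    have h2 := MS_add κ h1 (MS_diag κ O h1 d κ.ne)
    have hs := MS_diag κ O h2 c (x := x / Z c d) (div_ne_zero hx hne)
    convert hs using 1
    have hω := κ.cube
    have rel := κ.rel
    have hh := MS_herm κ O hZ d c
    have h4 : ∀ y : F, y ^ 4 = y := fun y => by
      rcases κ.cases y with e | e | e | e <;> subst e <;> ring_nf <;> grind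
    ext i j
    simp only [EH, Matrix.of_apply, Matrix.add_apply]
    by_cases hi : i = c
    · subst hi
      by_cases hj : j = d
      · subst hj
        simp [hcd, Ne.symm hcd]
        field_simp
        grind [κ.two]
      · by_cases hj' : j = i
        · subst hj'
          simp [hcd, Ne.symm hcd]
          grind [κ.two]
        · simp [hj, hj', hcd, Ne.symm hcd]
          grind [κ.two]
    · by_cases hi' : i = d
      · subst hi'
        by_cases hj : j = c
        · subst hj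
          simp [hcd, Ne.symm hcd, hh]
          field_simp
          grind [κ.two]
        · by_cases hj' : j = i
          · subst hj'
            simp [hj, hcd, Ne.symm hcd]
            grind [κ.two]
          · simp [hj, hj', hcd, Ne.symm hcd, hi]
            grind [κ.two]
      · by_cases hj : j = c
        · subst hj
          simp [hi, hi', hcd, Ne.symm hcd]
          grind [κ.two]
        · by_cases hj' : j = d <;> simp [hi, hi', hj, hj', hcd, Ne.symm hcd] <;> grind [κ.two]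
  obtain ⟨π, hc, hd⟩ := exists_move a b hab c d hcd
  refine one (MS_perm κ O h π) hcd ?_ x
  simp [← hc, ← hd, hne]

omit O in
/-- Entries of a conjugate of an elementary hermitian matrix. -/
theorem conj_EH (A : Matrix (Fin 4) (Fin 4) F) {a b : Fin 4} (hab : a ≠ b) (x : F) (i j : Fin 4) :
    (A * EH a b x * star2 A) i j = A i a * x * A j b ^ 2 + A i b * x ^ 2 * A j a ^ 2 := by
  have e : ∀ l, (A * EH a b x) i l = (if l = b then A i a * x else 0) + if l = a then A i b * x ^ 2 else 0 := by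
    intro l
    rw [Matrix.mul_apply]
    simp only [EH, Matrix.of_apply]
    by_cases hb : l = b
    · subst hb
      simp [hab.symm]
    · by_cases ha : l = a
      · subst ha
        simp [hab]
      · simp [ha, hb]
  rw [Matrix.mul_apply]
  simp only [e, add_mul, ite_mul, zero_mul, Finset.sum_add_distrib, Finset.sum_ite_eq', Finset.mem_univ,
    if_true]
  rfl

omit O in
/-- A unitary matrix of order four by four. -/
theorem exists_A : ∃ A ∈ Cfsg.GU 4 F 2, (A : Matrix (Fin 4) (Fin 4) F) =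
    !![1, 0, 0, 0; 0, 1, 1, 1; 0, 1, κ.ω, κ.ω ^ 2; 0, 1, κ.ω ^ 2, κ.ω] := by
  have hω := κ.cube
  have rel := κ.rel
  have h2 := κ.two
  have hU : IsUnitary 2 (!![1, 0, 0, 0; 0, 1, 1, 1; 0, 1, κ.ω, κ.ω ^ 2; 0, 1, κ.ω ^ 2, κ.ω] :
      Matrix (Fin 4) (Fin 4) F) := by
    refine (isUnitary_iff_orthonormal κ.card _).2 ⟨fun i => ?_, fun i j hij => ?_⟩
    · fin_cases i <;> simp [Cfsg.hermForm, Fin.sum_univ_four] <;> grind
    · fin_cases i <;> fin_cases j <;> first
        | exact absurd rfl hij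
        | (simp [Cfsg.hermForm, Fin.sum_univ_four] <;> grind)
  exact ⟨(guOfUnitary κ.card _ hU).1, (guOfUnitary κ.card _ hU).2, guOfUnitary_val _ _ _⟩

theorem MS_rank_one (hno : ∀ v, v ∈ centres 2 M → v = 0) {v : Fin 4 → F}
    (h : Matrix.vecMulVec v (fun j => v j ^ 2) ∈ MS M) : v = 0 := by
  obtain ⟨g, hg, -, e⟩ := h
  set w : Fin 9 → F := (Pm F) *ᵥ v with hw
  have hwr : ∀ a, w (rp a) = v a ∧ w (nrp a) = v a ∧ w 0 = 0 := fun a => by
    refine ⟨?_, ?_, ?_⟩ <;>
      simp [hw, Matrix.mulVec, dotProduct, (Pm_rp κ _ _).1, (Pm_rp κ _ _).2.1, (Pm_rp κ 0 _).2.2]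
  have hw0 : Cfsg.hermForm 9 F 2 w w = 0 := by
    rw [Cfsg.hermForm, sum9, (hwr 0).2.2, zero_mul, zero_add]
    exact Finset.sum_eq_zero fun a _ => by rw [(hwr a).1, (hwr a).2.1, κ.add_self]
  have hT : Cfsg.unitaryTransvection 9 2 w 1 = kmat (Matrix.vecMulVec v fun j => v j ^ 2) := by
    rw [Cfsg.unitaryTransvection, one_smul, kmat]
    congr 1
    rw [Matrix.mul_vecMulVec, Matrix.vecMulVec_mul, ← hw]
    congr 1
    funext r
    have := congrArg (fun f => f r) (show (fun r => w r ^ 2) = (Pm F) *ᵥ fun j => v j ^ 2 from funext fun r => by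
      simp only [hw, Matrix.mulVec, dotProduct]
      rw [sum_pow_q κ.card]
      refine Finset.sum_congr rfl fun j _ => ?_
      rw [mul_pow]
      simp only [Pm, Matrix.of_apply]
      split_ifs <;> simp)
    refine this.trans ?_
    rw [Matrix.vecMul_transpose]
  have hc : w ∈ centres 2 M := by
    refine ⟨hw0, fun t c hc ht => ?_⟩
    by_cases h0 : c = 0
    · rw [h0, Cfsg.Agent.Unitary.transvection_zero] at ht
      have : t = 1 := Units.ext ht
      exact this ▸ one_mem _
    · have h1 : c = 1 := by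
        have : c * (1 + c) = 0 := by linear_combination hc
        have := (mul_eq_zero.1 this).resolve_left h0
        linear_combination this - κ.two
      have : t = g := Units.ext (by rw [ht, h1, hT, e])
      exact this ▸ hg
  funext a
  rw [← (hwr a).1, hno w hc]
  rfl

/-- The central elements of an overgroup without transvections. -/
theorem MS_trivial (hno : ∀ v, v ∈ centres 2 M → v = 0) {Y : Matrix (Fin 4) (Fin 4) F}
    (h : Y ∈ MS M) : Y = 0 ∨ Y = 1 := by
  have hω := κ.cube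
  have rel := κ.rel
  have h2 := κ.two
  obtain ⟨A, hA, eA⟩ := exists_A κ
  have noOff : ∀ Z ∈ MS M, ∀ a b : Fin 4, a ≠ b → Z a b = 0 := by
    intro Z hZ a b hab
    by_contra hne
    have hE := fun {c d : Fin 4} (hcd : c ≠ d) (x : F) => MS_offdiag κ O hZ hab hne hcd x
    have hY := MS_add κ (MS_add κ (MS_add κ
      (MS_conj κ O (hE (c := 1) (d := 2) (by decide) 1) hA)
      (hE (c := 1) (d := 2) (by decide) κ.ω)) (hE (c := 1) (d := 3) (by decide) (κ.ω ^ 2)))
      (hE (c := 2) (d := 3) (by decide) 1)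
    have hv := MS_rank_one κ O hno (v := ![0, 0, 1, 1]) (by
      convert hY using 1
      ext i j
      rw [Matrix.add_apply, Matrix.add_apply, Matrix.add_apply,
        conj_EH κ _ (show (1 : Fin 4) ≠ 2 by decide), eA]
      fin_cases i <;> fin_cases j <;>
        simp [EH, Matrix.vecMulVec_apply] <;> grind)
    simpa using congrFun hv 2
  have single : ∀ a : Fin 4, Matrix.diagonal (fun c => if c = a then (1 : F) else 0) ∉ MS M := by
    intro a hm
    have hv := MS_rank_one κ O hno (v := Pi.single a 1) (by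
      convert hm using 1
      ext i j
      by_cases hi : i = a <;> by_cases hj : j = a <;>
        simp [Matrix.vecMulVec_apply, Matrix.diagonal_apply, hi, hj, Ne.symm])
    simpa using congrFun hv a
  have hone : (1 : Matrix (Fin 4) (Fin 4) F) ∈ MS M := by
    refine ⟨pm tN, O.base ⟨?_, pm_su κ⟩, mem_CN.2 rfl, z_kmat κ⟩
    obtain ⟨hX, hY, hI, hK, -⟩ := tN_norm_data
    exact pm_norm κ hX hY hI hK
  have hd : Y = Matrix.diagonal fun c => Y c c := by
    ext i j
    by_cases hij : i = j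
    · subst hij; simp
    · simp [hij, noOff Y h i j hij]
  have h01 : ∀ c, Y c c = 0 ∨ Y c c = 1 := fun c => by
    have e := MS_herm κ O h c c
    have : Y c c * (Y c c - 1) = 0 := by linear_combination -e
    exact (mul_eq_zero.1 this).imp id sub_eq_zero.1
  classical
  have hf : ∀ c, Y c c = if decide (Y c c = 1) then 1 else 0 := fun c => by
    rcases h01 c with e | e <;> simp [e]
  rcases bool_cases (fun c => decide (Y c c = 1)) with e | ⟨a, e⟩ | ⟨a, e⟩ | ⟨a, b, hab, e⟩
  · rcases h01 0 with e0 | e0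
    · refine Or.inl (hd.trans ?_)
      ext i j
      rw [Matrix.diagonal_apply, hf i, e i]
      simp [e0]
    · refine Or.inr (hd.trans ?_)
      ext i j
      rw [Matrix.diagonal_apply, hf i, e i, Matrix.one_apply]
      simp [e0]
  · refine absurd ?_ (single a)
    convert h using 1
    rw [hd]
    congr 1
    funext c
    conv_rhs => rw [hf c, e c]
    simp
  · refine absurd ?_ (single a)
    convert MS_add κ h hone using 1
    rw [hd]
    ext i j
    simp only [Matrix.diagonal_apply, Matrix.add_apply, Matrix.one_apply]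
    by_cases hij : i = j
    · subst hij
      rw [if_pos rfl, if_pos rfl, if_pos rfl, hf i, e i]
      by_cases hi : i = a <;> simp [hi, κ.add_self]
    · simp [hij]
  · exfalso
    obtain ⟨π, ha, hb⟩ := exists_move a b hab 1 2 (by decide)
    have hZ := MS_conj κ O (MS_perm κ O h π) hA
    have hval : Matrix.of (fun c d => Y (π.symm c) (π.symm d)) =
        Matrix.diagonal fun c : Fin 4 => if c = 1 ∨ c = 2 then (1 : F) else 0 := by
      ext i j
      rw [Matrix.of_apply, hd]
      simp only [Matrix.diagonal_apply, EmbeddingLike.apply_eq_iff_eq]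
      split_ifs with h1 h2 h2
      · rw [hf, e]; simp [← ha, ← hb] at h2 ⊢
        rcases h2 with h2 | h2 <;> simp [h2]
      · rw [hf, e]; simp [← ha, ← hb] at h2 ⊢
        exact ⟨fun q => h2.1 (by rw [← q, Equiv.apply_symm_apply]),
          fun q => h2.2 (by rw [← q, Equiv.apply_symm_apply])⟩
      · rfl
    have := noOff _ hZ 1 2 (by decide)
    rw [hval, eA, Matrix.mul_apply] at this
    simp [star2, Matrix.mul_diagonal, Fin.sum_univ_four] at this
    grind [κ.ne]

end Cfsg.Agent.C6NineU
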