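/-
Four elements: in an overgroup without transvections the centraliser of the involution lies in the
normaliser.
Main results: `form9`, `kernel_trivial`, `cent_le`.
-/
import Cfsg.Agent.Lib.C6NineU.Central

set_option autoImplicit false
set_option linter.unusedSectionVars false

namespace Cfsg.Agent.C6NineU

open Matrix Cfsg.Agent.Unitary
open scoped Matrix

variable {F : Type*} [Field F] [Fintype F]

/-- The first basis vector as a column. -/
def E0 (F : Type*) [Field F] : Matrix (Fin 9) (Fin 1) F :=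
  Matrix.of fun r _ => if r = 0 then 1 else 0

/-- Picks one coordinate of each pair. -/
def Q9 (F : Type*) [Field F] : Matrix (Fin 9) (Fin 4) F :=
  Matrix.of fun r a => if r = rp a then 1 else 0

/-- The general element acting trivially on the four-space, minus one. -/
def form9 (U : Matrix (Fin 1) (Fin 1) F) (C : Matrix (Fin 4) (Fin 1) F) (Mu : Matrix (Fin 1) (Fin 4) F)
    (Y : Matrix (Fin 4) (Fin 4) F) : Matrix (Fin 9) (Fin 9) F :=
  (E0 F * U + Pm F * C) * (E0 F)ᵀ + (E0 F * Mu + Pm F * Y) * (Pm F)ᵀ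

variable (κ : W9 F 2)
include κ

theorem prods : ((Pm F)ᵀ * E0 F = 0) ∧ ((E0 F)ᵀ * Pm F = 0) ∧ ((E0 F)ᵀ * E0 F = 1) ∧
    ((Pm F)ᵀ * Q9 F = 1) ∧ ((E0 F)ᵀ * Q9 F = 0) := by
  obtain ⟨-, -, -, inj, ne0, -⟩ := rp_facts
  refine ⟨?_, ?_, ?_, ?_, ?_⟩ <;> ext a b <;> rw [Matrix.mul_apply, sum9]
  · simp [E0, (Pm_rp κ 0 _).2.2, (ne0 _).1, (ne0 _).2]
  · simp [E0, (Pm_rp κ 0 _).2.2, (ne0 _).1, (ne0 _).2]
  · simp [E0, (ne0 _).1, (ne0 _).2, Subsingleton.elim a b, Matrix.one_apply]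
  · simp [Q9, (Pm_rp κ _ _).1, (Pm_rp κ _ _).2.1, (Pm_rp κ 0 _).2.2, (inj _ _).1,
      Ne.symm (inj _ _).2.2, Matrix.one_apply, eq_comm]
  · simp [E0, Q9, (ne0 _).1, (ne0 _).2, Ne.symm (ne0 _).1]

theorem repr9 {g : GL (Fin 9) F} (hC : g ∈ (CN : Subgroup (GL (Fin 9) F))) (hA : Amat g = 1) :
    (g : Matrix (Fin 9) (Fin 9) F) = 1 + form9
      (Matrix.of fun _ _ => (g : Matrix (Fin 9) (Fin 9) F) 0 0 - 1)
      (Matrix.of fun a _ => (g : Matrix (Fin 9) (Fin 9) F) (rp a) 0)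
      (Matrix.of fun _ b => (g : Matrix (Fin 9) (Fin 9) F) 0 (rp b))
      (Matrix.of fun a b => (g : Matrix (Fin 9) (Fin 9) F) (rp a) (nrp b)) := by
  obtain ⟨t, t0, -, inj, ne0, cov⟩ := rp_facts
  have A : ∀ a b, (g : Matrix (Fin 9) (Fin 9) F) (rp a) (rp b) +
      (g : Matrix (Fin 9) (Fin 9) F) (rp a) (nrp b) = if a = b then 1 else 0 := fun a b => by
    have := congrFun (congrFun hA a) b
    rwa [Matrix.one_apply] at this
  have e : ∀ r c, (g : Matrix (Fin 9) (Fin 9) F) (tN r) (tN c) = (g : Matrix (Fin 9) (Fin 9) F) r c :=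
    CN_entry hC
  ext r s
  simp only [form9, Matrix.add_apply, Matrix.mul_apply, Fin.sum_univ_one, Matrix.transpose_apply,
    Matrix.of_apply, E0]
  rcases cov r with rfl | ⟨a, rfl | rfl⟩ <;> rcases cov s with rfl | ⟨b, rfl | rfl⟩ <;>
    simp [Matrix.one_apply, (Pm_rp κ _ _).1, (Pm_rp κ _ _).2.1, (Pm_rp κ 0 _).2.2, (ne0 _).1, (ne0 _).2,
      Ne.symm (ne0 _).1, Ne.symm (ne0 _).2, (inj _ _).1, (inj _ _).2.1, (inj _ _).2.2,
      Ne.symm (inj _ _).2.2]
  · have := e 0 (rp b); rw [t0, (t b).1] at this; exact this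
  · have := A a b; split_ifs at this ⊢ <;> linear_combination this - ((g : Matrix (Fin 9) (Fin 9) F) (rp a) (nrp b)) * κ.two
  · have := e (rp a) 0; rw [t0, (t a).1] at this; exact this
  · have := e (rp a) (nrp b); rw [(t a).1, (t b).2] at this; exact this
  · have := e (rp a) (rp b); rw [(t a).1, (t b).1] at this
    have h2 := A a b
    split_ifs at h2 ⊢ <;> linear_combination this + h2 - ((g : Matrix (Fin 9) (Fin 9) F) (rp a) (nrp b)) * κ.two

theorem form_det (U : Matrix (Fin 1) (Fin 1) F) (C : Matrix (Fin 4) (Fin 1) F)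
    (Mu : Matrix (Fin 1) (Fin 4) F) (Y : Matrix (Fin 4) (Fin 4) F) :
    (1 + form9 U C Mu Y).det = 1 + U 0 0 := by
  obtain ⟨PE, EP, EE, -, -⟩ := prods κ
  have hPP := PtP κ
  have e : 1 + form9 U C Mu Y = (1 + (E0 F * Mu + Pm F * Y) * (Pm F)ᵀ) *
      (1 + (E0 F * U + Pm F * C) * (E0 F)ᵀ) := by
    have hz : (Pm F)ᵀ * (E0 F * U + Pm F * C) = 0 := by
      rw [Matrix.mul_add, ← Matrix.mul_assoc, ← Matrix.mul_assoc, PE, hPP, Matrix.zero_mul,
        Matrix.zero_mul, add_zero]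
    rw [form9, show ∀ a b : Matrix (Fin 9) (Fin 9) F, (1 + a) * (1 + b) = 1 + a + b + a * b from
      fun a b => by noncomm_ring, Matrix.mul_assoc (E0 F * Mu + Pm F * Y),
      ← Matrix.mul_assoc (Pm F)ᵀ, hz, Matrix.zero_mul, Matrix.mul_zero, add_zero]
    abel
  rw [e, Matrix.det_mul, Matrix.det_one_add_mul_comm (E0 F * Mu + Pm F * Y),
    Matrix.det_one_add_mul_comm (E0 F * U + Pm F * C),
    Matrix.mul_add, ← Matrix.mul_assoc, ← Matrix.mul_assoc, PE, hPP, Matrix.zero_mul,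
    Matrix.zero_mul, add_zero, add_zero, Matrix.det_one, one_mul, Matrix.mul_add,
    ← Matrix.mul_assoc, ← Matrix.mul_assoc, EE, EP, Matrix.one_mul, Matrix.zero_mul, add_zero,
    Matrix.det_fin_one, Matrix.add_apply, Matrix.one_apply_eq]

theorem form_mul (C C' : Matrix (Fin 4) (Fin 1) F) (Mu Mu' : Matrix (Fin 1) (Fin 4) F)
    (Y Y' : Matrix (Fin 4) (Fin 4) F) :
    form9 0 C Mu Y * form9 0 C' Mu' Y' = Pm F * (C * Mu') * (Pm F)ᵀ := by
  obtain ⟨PE, EP, EE, -, -⟩ := prods κ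
  have hPP := PtP κ
  have a1 : ∀ {n : ℕ} (X : Matrix (Fin 1) (Fin n) F), (Pm F)ᵀ * (E0 F * X) = 0 := fun X => by
    rw [← Matrix.mul_assoc, PE, Matrix.zero_mul]
  have a2 : ∀ {n : ℕ} (X : Matrix (Fin 4) (Fin n) F), (Pm F)ᵀ * (Pm F * X) = 0 := fun X => by
    rw [← Matrix.mul_assoc, hPP, Matrix.zero_mul]
  have a3 : ∀ {n : ℕ} (X : Matrix (Fin 4) (Fin n) F), (E0 F)ᵀ * (Pm F * X) = 0 := fun X => by
    rw [← Matrix.mul_assoc, EP, Matrix.zero_mul]
  have a4 : ∀ {n : ℕ} (X : Matrix (Fin 1) (Fin n) F), (E0 F)ᵀ * (E0 F * X) = X := fun X => by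
    rw [← Matrix.mul_assoc, EE, Matrix.one_mul]
  simp only [form9, Matrix.mul_zero, zero_add, Matrix.add_mul, Matrix.mul_add, Matrix.mul_assoc,
    a1, a2, a3, a4, Matrix.mul_zero, add_zero, zero_add, Matrix.zero_mul]

theorem kmat_form (Δ : Matrix (Fin 4) (Fin 4) F) (C : Matrix (Fin 4) (Fin 1) F)
    (Mu : Matrix (Fin 1) (Fin 4) F) (Y : Matrix (Fin 4) (Fin 4) F) :
    Pm F * Δ * (Pm F)ᵀ * form9 0 C Mu Y = 0 := by
  obtain ⟨PE, -, -, -, -⟩ := prods κ
  have hPP := PtP κ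
  have e : (Pm F)ᵀ * form9 0 C Mu Y = 0 := by
    simp only [form9, Matrix.mul_zero, zero_add, Matrix.mul_add, Matrix.add_mul, ← Matrix.mul_assoc,
      PE, hPP, Matrix.zero_mul, add_zero]
  rw [Matrix.mul_assoc, e, Matrix.mul_zero]

theorem star_rules {m n k : Type*} [Fintype n] :
    (∀ X Y : Matrix m n F, star2 (X + Y) = star2 X + star2 Y) ∧ star2 (0 : Matrix m n F) = 0 := by
  refine ⟨fun X Y => ?_, ?_⟩
  · ext i j; simp [star2, κ.add_sq]
  · ext i j; simp [star2]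

theorem E0_star : star2 (E0 F) = (E0 F)ᵀ ∧ star2 ((E0 F)ᵀ) = E0 F ∧ star2 ((Pm F)ᵀ) = Pm F := by
  refine ⟨?_, ?_, ?_⟩ <;> ext a r <;> simp [star2, E0, Pm] <;> split_ifs <;> simp

/-- The column data determine the row data. -/
theorem row_of_col {g : GL (Fin 9) F} (hg : g ∈ Cfsg.GU 9 F 2) {C : Matrix (Fin 4) (Fin 1) F}
    {Mu : Matrix (Fin 1) (Fin 4) F} {Y : Matrix (Fin 4) (Fin 4) F}
    (e : (g : Matrix (Fin 9) (Fin 9) F) = 1 + form9 0 C Mu Y) : Mu = star2 C := by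
  obtain ⟨-, EP, EE, PQ, EQ⟩ := prods κ
  obtain ⟨sE, sEt, sPt⟩ := E0_star κ
  have h : (g : Matrix (Fin 9) (Fin 9) F) * star2 (g : Matrix (Fin 9) (Fin 9) F) = 1 := by
    rw [← GU_inv κ hg, ← Units.val_mul, mul_inv_cancel, Units.val_one]
  have hs : star2 (g : Matrix (Fin 9) (Fin 9) F) =
      1 + form9 0 (star2 Mu) (star2 C) (star2 Y) := by
    have h1 : star2 (1 : Matrix (Fin 9) (Fin 9) F) = 1 := by
      ext i j; simp [star2, Matrix.one_apply, eq_comm]
    rw [e, (star_rules κ (k := Fin 1)).1, h1]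
    congr 1
    simp only [form9, Matrix.mul_zero, zero_add, Matrix.add_mul, (star_rules κ (k := Fin 1)).1,
      star2_mul κ, sE, sEt, sPt, Pm_star κ, Matrix.mul_assoc]
    abel
  rw [hs, e, Matrix.add_mul, Matrix.mul_add, Matrix.mul_add, Matrix.one_mul, Matrix.one_mul,
    Matrix.mul_one, form_mul κ] at h
  have h2 := congrArg (fun X => (E0 F)ᵀ * X * Q9 F) h
  simp only [form9, Matrix.mul_zero, zero_add, Matrix.mul_add, Matrix.add_mul, ← Matrix.mul_assoc,
    Matrix.mul_one, EP, EE, Matrix.zero_mul, Matrix.one_mul, add_zero, EQ] at h2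
  simp only [Matrix.mul_assoc, PQ, Matrix.mul_one] at h2
  ext a b
  have h3 := congrFun (congrFun h2 a) b
  simp only [Matrix.add_apply, Matrix.zero_apply] at h3
  linear_combination h3 - (star2 C a b) * κ.two

variable {M : Subgroup (GL (Fin 9) F)} (O : Over κ M)
include O

theorem ker_form {g : GL (Fin 9) F} (hg : g ∈ M) (hC : g ∈ (CN : Subgroup (GL (Fin 9) F)))
    (hA : Amat g = 1) : ∃ Y : Matrix (Fin 4) (Fin 4) F, (g : Matrix (Fin 9) (Fin 9) F) =
      1 + form9 0 (Matrix.of fun a _ => (g : Matrix (Fin 9) (Fin 9) F) (rp a) 0)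
        (star2 (Matrix.of fun a _ => (g : Matrix (Fin 9) (Fin 9) F) (rp a) 0)) Y := by
  have h := repr9 κ hC hA
  have hd : (g : Matrix (Fin 9) (Fin 9) F).det = 1 := Transvect.mem_sl_iff.1 (O.le hg).2
  rw [h, form_det κ, Matrix.of_apply] at hd
  have hU : (Matrix.of fun _ _ => (g : Matrix (Fin 9) (Fin 9) F) 0 0 - 1 :
      Matrix (Fin 1) (Fin 1) F) = 0 := by
    ext i j; simp only [Matrix.of_apply, Matrix.zero_apply]; linear_combination hd
  rw [hU] at h
  exact ⟨_, row_of_col κ (O.le hg).1 h ▸ h⟩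

/-- The kernel on the four-space. -/
theorem kernel_trivial (hno : ∀ v, v ∈ centres 2 M → v = 0) {g : GL (Fin 9) F} (hg : g ∈ M)
    (hC : g ∈ (CN : Subgroup (GL (Fin 9) F))) (hA : Amat g = 1) : g = 1 ∨ g = pm tN := by
  obtain ⟨Y, hY⟩ := ker_form κ O hg hC hA
  set C : Matrix (Fin 4) (Fin 1) F := Matrix.of fun a _ => (g : Matrix (Fin 9) (Fin 9) F) (rp a) 0
    with hCdef
  suffices hC0 : C = 0 by
    have e : (g : Matrix (Fin 9) (Fin 9) F) = kmat Y := by
      rw [hY, hC0, (star_rules κ (k := Fin 1)).2, kmat]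
      simp [form9]
    rcases MS_trivial κ O hno ⟨g, hg, hC, e⟩ with rfl | rfl
    · exact Or.inl (Units.ext (by rw [e]; simp [kmat]))
    · exact Or.inr (Units.ext (by rw [e, z_kmat κ]))
  by_contra hne
  obtain ⟨a, ha⟩ : ∃ a, C a 0 ≠ 0 := by
    by_contra hc
    push Not at hc
    exact hne (Matrix.ext fun i j => by rw [Subsingleton.elim j 0, hc]; rfl)
  obtain ⟨b, hb⟩ := exists_ne a
  obtain ⟨hX, hY', hs⟩ := lineE_good (cls b) 0
  set d := dg κ (lineE (cls b) 0) with hd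
  have hdC : d ∈ (CN : Subgroup (GL (Fin 9) F)) := CN_dg κ fun r => (lineE_cls b 0).2.2.2 r
  have hdM : d ∈ M := O.line_mem κ _ _
  set g' := d * g * d⁻¹ with hg'
  have hgM' : g' ∈ M := mul_mem (mul_mem hdM hg) (inv_mem hdM)
  have hgC' : g' ∈ (CN : Subgroup (GL (Fin 9) F)) := mul_mem (mul_mem hdC hC) (inv_mem hdC)
  have hA' : Amat g' = 1 := by
    rw [hg', Amat_mul κ (inv_mem hdC), Amat_mul κ hC, hA, Matrix.mul_one, ← Amat_mul κ (inv_mem hdC),
      mul_inv_cancel, Amat_one κ]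
  obtain ⟨Y', hY''⟩ := ker_form κ O hgM' hgC' hA'
  set C' : Matrix (Fin 4) (Fin 1) F := Matrix.of fun a _ => (g' : Matrix (Fin 9) (Fin 9) F) (rp a) 0
    with hC'def
  clear_value g'
  have hc' : ∀ x, C' x 0 = (if x = b then 1 else κ.ω ^ 2) * C x 0 := fun x => by
    have e : d * g = g' * d := by rw [hg']; group
    have h := congrArg (fun m : GL (Fin 9) F => (m : Matrix (Fin 9) (Fin 9) F) (rp x) 0) e
    simp only [Units.val_mul, hd, dg_val, Matrix.diagonal_mul, Matrix.mul_diagonal,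
      (lineE_cls b x).1, (lineE_cls b x).2.2.1] at h
    simp only [hC'def, hCdef, Matrix.of_apply]
    by_cases hx : x = b
    · subst hx
      simp at h ⊢
      exact mul_right_cancel₀ κ.ne (h.symm.trans (mul_comm _ _))
    · simp [Ne.symm hx] at h
      rw [if_neg hx, h]
      linear_combination -((g' : Matrix (Fin 9) (Fin 9) F) (rp x) 0) * κ.cube
  set Δ := C * star2 C' + C' * star2 C with hΔ
  have hh : kmat Δ * ((g' * g : GL (Fin 9) F) : Matrix (Fin 9) (Fin 9) F) =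
      ((g * g' : GL (Fin 9) F) : Matrix (Fin 9) (Fin 9) F) := by
    rw [Units.val_mul, Units.val_mul, hY, hY'', kmat]
    simp only [Matrix.add_mul, Matrix.mul_add, Matrix.one_mul, Matrix.mul_one, form_mul κ,
      kmat_form κ, ← Matrix.mul_assoc, add_zero]
    simp only [hΔ, Matrix.mul_add, Matrix.add_mul, Matrix.mul_assoc, kmat_form κ, add_zero]
    have a2 : ∀ X : Matrix (Fin 4) (Fin 9) F, (Pm F)ᵀ * (Pm F * X) = 0 := fun X => by
      rw [← Matrix.mul_assoc, PtP κ, Matrix.zero_mul]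
    simp only [a2, Matrix.mul_zero, add_zero]
    ext i j
    simp only [Matrix.add_apply]
    linear_combination ((Pm F * (C' * (star2 C * (Pm F)ᵀ))) i j) * κ.two
  have hmem : (g * g') * (g' * g)⁻¹ ∈ M := mul_mem (mul_mem hg hgM') (inv_mem (mul_mem hgM' hg))
  have hΔS : Δ ∈ MS M := ⟨_, hmem, mul_mem (mul_mem hC hgC') (inv_mem (mul_mem hgC' hC)), by
    rw [Units.val_mul, ← hh, Matrix.mul_assoc, ← Units.val_mul, mul_inv_cancel, Units.val_one,
      Matrix.mul_one]⟩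
  have hent : ∀ x, Δ x x = C x 0 * C' x 0 ^ 2 + C' x 0 * C x 0 ^ 2 := fun x => by
    simp [hΔ, Matrix.mul_apply, star2]
  have h3 : C a 0 ^ 3 = 1 := by
    have := FiniteField.pow_card_sub_one_eq_one (C a 0) ha
    rwa [κ.card] at this
  have haa : Δ a a = 1 := by
    rw [hent, hc', if_neg hb.symm]
    linear_combination (κ.ω ^ 4 + κ.ω ^ 2) * h3 + κ.ω * κ.cube + κ.rel - κ.two
  have hbb : Δ b b = 0 := by
    rw [hent, hc', if_pos rfl, one_mul]
    exact κ.add_self _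
  rcases MS_trivial κ O hno hΔS with e | e
  · rw [e] at haa; exact zero_ne_one haa
  · rw [e, Matrix.one_apply_eq] at hbb; exact one_ne_zero hbb

/-- The centraliser of the involution lies in the normaliser. -/
theorem cent_le (hno : ∀ v, v ∈ centres 2 M → v = 0) {g : GL (Fin 9) F} (hg : g ∈ M)
    (hC : g ∈ (CN : Subgroup (GL (Fin 9) F))) : g ∈ Cfsg.Geo.subgroupNormalizer (R9 κ) := by
  obtain ⟨n, hn, he⟩ := image_full κ (Ahom_GU κ ⟨g, hC⟩ (O.le hg).1)
  have hnM : n.1 ∈ M := O.base hn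
  have hk : Amat (n.1⁻¹ * g) = 1 := by
    have : Ahom κ (n⁻¹ * ⟨g, hC⟩) = 1 := by rw [map_mul, map_inv, he, inv_mul_cancel]
    exact congrArg Units.val this
  have hz : (pm tN : GL (Fin 9) F) ∈ Cfsg.Geo.subgroupNormalizer (R9 κ) := by
    obtain ⟨hX, hY, hI, hK, -⟩ := tN_norm_data
    exact pm_norm κ hX hY hI hK
  rcases kernel_trivial κ O hno (mul_mem (inv_mem hnM) hg) (mul_mem (inv_mem n.2) hC) hk with e | e
  · rw [inv_mul_eq_one] at e; exact e ▸ hn.1
  · rw [inv_mul_eq_iff_eq_mul] at e; exact e ▸ mul_mem hn.1 hz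

end Cfsg.Agent.C6NineU
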