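/-
Four elements: the involution is the only conjugate of itself in an overgroup that commutes with it.
Main results: `scalar_of_comm_gens`, `z_inv`, `rank_le_three`, `isolated`.
-/
import Cfsg.Agent.Lib.C6NineU.Kernel
import Cfsg.Agent.Lib.C6NineU.Elems

set_option autoImplicit false
set_option linter.unusedSectionVars false

namespace Cfsg.Agent.C6NineU

open Matrix Cfsg.Agent.Unitary
open scoped Matrix

variable {F : Type*} [Field F] [Fintype F]

/-- The four generators. -/
def gen {p : ℕ} (κ : W9 F p) : Fin 4 → GL (Fin 9) F := ![pm tX, pm tY, dg κ pI, dg κ pK]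

section Any

variable {p : ℕ} (κ : W9 F p)
include κ

theorem gen_mem (i : Fin 4) : gen κ i ∈ R9 κ := by
  obtain ⟨hX, hY, hI, hK⟩ := gens_mem κ
  fin_cases i <;> assumption

omit κ in
theorem sep_coords : (∀ r s : Fin 9, r ≠ s → pI r ≠ pI s ∨ pK r ≠ pK s) ∧
    ∀ r : Fin 9, ∃ a b : Fin 3, r = (tX ^ (a : ℕ) * tY ^ (b : ℕ)) 0 := by
  decide +kernel

theorem pow_fin_inj {a b : Fin 3} (h : κ.ω ^ (a : ℕ) = κ.ω ^ (b : ℕ)) : a = b := by
  have h1 := κ.ne_one
  have h2 : κ.ω ^ 2 ≠ 1 := fun e' => h1 (by linear_combination κ.cube - κ.ω * e')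
  have h3 : κ.ω ^ 2 ≠ κ.ω := fun e' => h1 (mul_left_cancel₀ κ.ne (by linear_combination e'))
  fin_cases a <;> fin_cases b <;> first
    | rfl
    | (dsimp at h; simp only [pow_zero, pow_one] at h; first
      | exact absurd h h1 | exact absurd h.symm h1 | exact absurd h h2
      | exact absurd h.symm h2 | exact absurd h h3 | exact absurd h.symm h3)

/-- The centraliser of the standard group consists of scalars. -/
theorem scalar_of_comm_gens {g : GL (Fin 9) F} (h : ∀ i, g * gen κ i = gen κ i * g) :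
    g ∈ Cfsg.Geo.scalars (Fin 9) F := by
  set A : Matrix (Fin 9) (Fin 9) F := (g : Matrix (Fin 9) (Fin 9) F) with hA
  have hd : ∀ r s, r ≠ s → A r s = 0 := by
    intro r s hrs
    have key : ∀ E : Fin 9 → Fin 3, g * dg κ E = dg κ E * g → E r ≠ E s → A r s = 0 := by
      intro E he hne
      have e := congrArg (fun m : GL (Fin 9) F => (m : Matrix (Fin 9) (Fin 9) F) r s) he
      simp only [Units.val_mul, dg_val, Matrix.mul_diagonal, Matrix.diagonal_mul] at e
      by_contra h0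
      exact hne (pow_fin_inj κ (mul_right_cancel₀ h0 (by linear_combination e))).symm
    rcases sep_coords.1 r s hrs with hne | hne
    · exact key pI (h 2) hne
    · exact key pK (h 3) hne
  have ht : ∀ σ : Equiv.Perm (Fin 9), g * pm σ = pm σ * g → ∀ r, A (σ r) (σ r) = A r r := by
    intro σ he r
    have e := congrArg (fun m : GL (Fin 9) F => (m : Matrix (Fin 9) (Fin 9) F) (σ r) r) he
    simp only [mul_pm, pm_mul', Equiv.symm_apply_apply] at e
    exact e
  have hpow : ∀ σ : Equiv.Perm (Fin 9), g * pm σ = pm σ * g → ∀ (n : ℕ) r,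
      A ((σ ^ n) r) ((σ ^ n) r) = A r r := by
    intro σ he n
    induction n with
    | zero => intro r; rfl
    | succ n ih => intro r; rw [pow_succ', Equiv.Perm.mul_apply, ht σ he, ih]
  have hc : ∀ r, A r r = A 0 0 := by
    intro r
    obtain ⟨a, b, rfl⟩ := sep_coords.2 r
    rw [Equiv.Perm.mul_apply, hpow tX (h 0), hpow tY (h 1)]
  have h0 : A 0 0 ≠ 0 := by
    intro e
    have h1 := congrArg Matrix.det (congrArg Units.val (mul_inv_cancel g))
    rw [Units.val_mul, Matrix.det_mul, Units.val_one, Matrix.det_one] at h1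
    have hz : A = 0 := Matrix.ext fun r s => by
      by_cases hrs : r = s
      · subst hrs; rw [hc, e]; rfl
      · exact hd r s hrs
    rw [← hA, hz, Matrix.det_zero] at h1
    exact zero_ne_one (by linear_combination h1)
  refine (Cfsg.Geo.mem_scalars_iff _).2 ⟨Units.mk0 _ h0, Matrix.ext fun r s => ?_⟩
  by_cases hrs : r = s
  · subst hrs; simp [← hA, hc r]
  · simp [← hA, hd r s hrs, hrs]

end Any

variable (κ : W9 F 2)
include κ

theorem z_sq : (pm tN : GL (Fin 9) F) * pm tN = 1 := by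
  rw [pm_mul, show tN * tN = 1 from Equiv.ext tN.left_inv, pm_one]

theorem z_inv (i : Fin 4) : pm tN * gen κ i * pm tN = (gen κ i)⁻¹ := by
  have hz : (pm tN : GL (Fin 9) F)⁻¹ = pm tN := inv_eq_of_mul_eq_one_right (z_sq κ)
  have hd : ∀ E : Fin 9 → Fin 3, (dg κ E)⁻¹ = dg κ (-E) := fun E =>
    inv_eq_of_mul_eq_one_right (by rw [dg_mul, add_neg_cancel, dg_zero])
  have hdg : ∀ E : Fin 9 → Fin 3, (∀ r, E (tN.symm r) = -E r) →
      pm tN * dg κ E * pm tN = (dg κ E)⁻¹ := by
    intro E hE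
    conv_lhs => arg 2; rw [← hz]
    rw [pm_conj_dg, hd]
    congr 1
    exact funext hE
  fin_cases i
  · show pm tN * pm tX * pm tN = (pm tX)⁻¹
    rw [pm_mul, pm_mul, pm_inv]; congr 1; exact Equiv.ext (by decide)
  · show pm tN * pm tY * pm tN = (pm tY)⁻¹
    rw [pm_mul, pm_mul, pm_inv]; congr 1; exact Equiv.ext (by decide)
  · exact hdg pI (by decide)
  · exact hdg pK (by decide)

theorem scalar_sq_one {c : GL (Fin 9) F} (hc : c ∈ Cfsg.Geo.scalars (Fin 9) F) (h : c * c = 1) :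
    c = 1 := by
  obtain ⟨u, hu⟩ := (Cfsg.Geo.mem_scalars_iff _).1 hc
  have h1 := congrArg (fun m : GL (Fin 9) F => (m : Matrix (Fin 9) (Fin 9) F) 0 0) h
  simp [hu] at h1
  have : ((u : F) - 1) ^ 2 = 0 := by linear_combination h1 + (1 - (u : F)) * κ.two
  refine Units.ext ?_
  rw [hu, sub_eq_zero.1 (pow_eq_zero_iff two_ne_zero |>.1 this), one_smul, Units.val_one]

omit κ in
theorem scalar_comm {c : GL (Fin 9) F} (hc : c ∈ Cfsg.Geo.scalars (Fin 9) F) (g : GL (Fin 9) F) :
    c * g = g * c := by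
  obtain ⟨u, hu⟩ := (Cfsg.Geo.mem_scalars_iff _).1 hc
  apply Units.ext
  rw [Units.val_mul, Units.val_mul, hu, Matrix.smul_mul, Matrix.mul_smul, one_mul, mul_one]

/-- An involution commuting with a non-scalar element of the group moves at most three dimensions. -/
theorem rank_le_three {r t : GL (Fin 9) F} (hr : r ∈ R9 κ) (hns : r ∉ Cfsg.Geo.scalars (Fin 9) F)
    (ht : t * t = 1) (hcomm : t * r = r * t) :
    ((t : Matrix (Fin 9) (Fin 9) F) - 1).rank ≤ 3 := by
  set R : Matrix (Fin 9) (Fin 9) F := (r : Matrix (Fin 9) (Fin 9) F) with hR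
  set T : Matrix (Fin 9) (Fin 9) F := (t : Matrix (Fin 9) (Fin 9) F) - 1 with hT
  have hTT : T * T = 0 := by
    have h1 := congrArg Units.val ht
    rw [Units.val_mul, Units.val_one] at h1
    rw [hT, Matrix.sub_mul, Matrix.mul_sub, h1, Matrix.one_mul, Matrix.mul_one]
    ext a b
    simp only [Matrix.sub_apply, Matrix.zero_apply]
    linear_combination ((1 : Matrix (Fin 9) (Fin 9) F) a b - (t : Matrix (Fin 9) (Fin 9) F) a b) * κ.two
  have hTR : T * R = R * T := by
    have h1 := congrArg Units.val hcomm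
    rw [Units.val_mul, Units.val_mul] at h1
    rw [hT, Matrix.sub_mul, Matrix.mul_sub, h1, Matrix.one_mul, Matrix.mul_one]
  have hR3 : R * (R * R) = 1 := by
    have h1 := congrArg Units.val (R9_cube κ hr)
    rw [Units.val_pow_eq_pow_val, Units.val_one, pow_succ', pow_two] at h1
    exact h1
  set E : Fin 3 → Submodule F (Fin 9 → F) :=
    fun k => LinearMap.ker (R.mulVecLin - (κ.ω ^ (2 * (k : ℕ))) • LinearMap.id) with hE
  have memE : ∀ k v, v ∈ E k ↔ R *ᵥ v = κ.ω ^ (2 * (k : ℕ)) • v := fun k v => by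
    simp [hE, sub_eq_zero]
  have hdim : ∀ k, Module.finrank F (E k) ≤ 3 := fun k =>
    eig_le κ hr hns (κ.ω ^ (2 * (k : ℕ))) _ fun v hv => (memE k v).1 hv
  have hinv : ∀ k v, v ∈ E k → T *ᵥ v ∈ E k := fun k v hv => by
    rw [memE] at hv ⊢
    rw [Matrix.mulVec_mulVec, ← hTR, ← Matrix.mulVec_mulVec, hv, Matrix.mulVec_smul]
  have hsmall : ∀ k, Module.finrank F ((E k).map T.mulVecLin) ≤ 1 := by
    intro k
    let f : E k →ₗ[F] E k := T.mulVecLin.restrict (hinv k)
    have hf : LinearMap.range f ≤ LinearMap.ker f := by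
      rintro _ ⟨v, rfl⟩
      rw [LinearMap.mem_ker]
      apply Subtype.ext
      show T *ᵥ (T *ᵥ (v : Fin 9 → F)) = 0
      rw [Matrix.mulVec_mulVec, hTT, Matrix.zero_mulVec]
    have h2 := LinearMap.finrank_range_add_finrank_ker f
    have h3 := Submodule.finrank_mono hf
    have h4 := hdim k
    have e : (E k).map T.mulVecLin = (LinearMap.range f).map (E k).subtype := by
      ext w
      simp only [Submodule.mem_map, LinearMap.mem_range]
      constructor
      · rintro ⟨v, hv, rfl⟩; exact ⟨_, ⟨⟨v, hv⟩, rfl⟩, rfl⟩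
      · rintro ⟨_, ⟨v, rfl⟩, rfl⟩; exact ⟨v, v.2, rfl⟩
    rw [e, Submodule.finrank_map_subtype_eq]
    omega
  have hspan : LinearMap.range T.mulVecLin ≤
      ((E 0).map T.mulVecLin ⊔ (E 1).map T.mulVecLin) ⊔ (E 2).map T.mulVecLin := by
    rintro _ ⟨x, rfl⟩
    set P : Fin 3 → (Fin 9 → F) := fun k =>
      x + κ.ω ^ (k : ℕ) • R *ᵥ x + κ.ω ^ (2 * (k : ℕ)) • R *ᵥ (R *ᵥ x) with hP
    have hPE : ∀ k, P k ∈ E k := fun k => by
      rw [memE, hP]
      simp only [Matrix.mulVec_add, Matrix.mulVec_smul, Matrix.mulVec_mulVec, ← Matrix.mul_assoc,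
        smul_add, smul_smul]
      rw [Matrix.mul_assoc, hR3, Matrix.one_mulVec]
      have e1 : κ.ω ^ (2 * (k : ℕ)) * κ.ω ^ (k : ℕ) = 1 := by
        rw [← pow_add, show 2 * (k : ℕ) + k = 3 * k by ring, pow_mul, κ.cube, one_pow]
      have e2 : κ.ω ^ (2 * (k : ℕ)) * κ.ω ^ (2 * (k : ℕ)) = κ.ω ^ (k : ℕ) := by
        rw [← pow_add, show 2 * (k : ℕ) + 2 * k = 3 * k + k by ring, pow_add, pow_mul, κ.cube,
          one_pow, one_mul]
      rw [e1, e2, one_smul]
      abel
    have hsum : x = P 0 + P 1 + P 2 := by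
      funext j
      simp [hP, Matrix.mulVec_mulVec]
      linear_combination (-(x j)) * κ.two - ((R *ᵥ x) j + ((R * R) *ᵥ x) j) * κ.rel -
        ((R * R) *ᵥ x) j * κ.ω * κ.cube
    rw [Matrix.mulVecLin_apply, hsum, Matrix.mulVec_add, Matrix.mulVec_add]
    exact add_mem (add_mem (Submodule.mem_sup_left (Submodule.mem_sup_left ⟨_, hPE 0, rfl⟩))
      (Submodule.mem_sup_left (Submodule.mem_sup_right ⟨_, hPE 1, rfl⟩)))
      (Submodule.mem_sup_right ⟨_, hPE 2, rfl⟩)
  have h := (Submodule.finrank_mono hspan).trans (Submodule.finrank_add_le_finrank_add_finrank _ _)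
  have h' := Submodule.finrank_add_le_finrank_add_finrank ((E 0).map T.mulVecLin) ((E 1).map T.mulVecLin)
  have := hsmall 0
  have := hsmall 1
  have := hsmall 2
  show Module.finrank F (LinearMap.range T.mulVecLin) ≤ 3
  omega

theorem four_le_rank_z : 4 ≤ (((pm tN : GL (Fin 9) F) : Matrix (Fin 9) (Fin 9) F) - 1).rank := by
  obtain ⟨ht, -, -, inj, -, -⟩ := rp_facts
  set T := ((pm tN : GL (Fin 9) F) : Matrix (Fin 9) (Fin 9) F) - 1 with hT
  have e : (1 : Matrix (Fin 9) (Fin 9) F).submatrix rp id * T *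
      (1 : Matrix (Fin 9) (Fin 9) F).submatrix id nrp = (1 : Matrix (Fin 4) (Fin 4) F) := by
    ext a b
    simp [Matrix.mul_apply, Matrix.one_apply, hT, pm_val, (ht b).2]
    rw [if_neg (inj a b).2.2, sub_zero]
    by_cases hab : a = b
    · subst hab; simp
    · rw [if_neg hab, if_neg (fun h => hab ((inj a b).1.1 h.symm))]
  calc 4 = (1 : Matrix (Fin 4) (Fin 4) F).rank := by rw [Matrix.rank_one, Fintype.card_fin]
    _ ≤ _ := e ▸ (Matrix.rank_mul_le_left _ _).trans (Matrix.rank_mul_le_right _ _)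

variable {M : Subgroup (GL (Fin 9) F)} (O : Over κ M)
include O

/-- The involution commutes with no other conjugate of itself. -/
theorem isolated (hno : ∀ v, v ∈ centres 2 M → v = 0) {g : GL (Fin 9) F}
    (hg : g * pm tN * g⁻¹ ∈ M) (hc : g * pm tN * g⁻¹ * pm tN = pm tN * (g * pm tN * g⁻¹)) :
    g * pm tN * g⁻¹ = pm tN := by
  set t := g * pm tN * g⁻¹ with ht
  have htN := cent_le κ O hno hg (mem_CN.2 hc)
  have ht2 : t * t = 1 := by
    rw [ht, show g * pm tN * g⁻¹ * (g * pm tN * g⁻¹) = g * (pm tN * pm tN) * g⁻¹ by group, z_sq κ,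
      mul_one, mul_inv_cancel]
  have hti : t⁻¹ = t := inv_eq_of_mul_eq_one_right ht2
  have hrank : 4 ≤ ((t : Matrix (Fin 9) (Fin 9) F) - 1).rank := by
    have e : (t : Matrix (Fin 9) (Fin 9) F) - 1 = (g : Matrix (Fin 9) (Fin 9) F) *
        (((pm tN : GL (Fin 9) F) : Matrix (Fin 9) (Fin 9) F) - 1) *
        ((g⁻¹ : GL (Fin 9) F) : Matrix (Fin 9) (Fin 9) F) := by
      rw [ht, Units.val_mul, Units.val_mul, Matrix.mul_sub, Matrix.sub_mul, Matrix.mul_one,
        ← Units.val_mul g g⁻¹, mul_inv_cancel, Units.val_one]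
    have hdet : ∀ h : GL (Fin 9) F, IsUnit (h : Matrix (Fin 9) (Fin 9) F).det := fun h =>
      (Matrix.isUnit_iff_isUnit_det _).1 h.isUnit
    rw [e, Matrix.rank_mul_eq_left_of_isUnit_det _ _ (hdet _),
      Matrix.rank_mul_eq_right_of_isUnit_det _ _ (hdet _)]
    exact four_le_rank_z κ
  have hconj : ∀ r ∈ R9 κ, t * r * t ∈ R9 κ := fun r hr => by
    have := (Subgroup.mem_normalizer_iff.1 htN r).1 hr
    rwa [hti] at this
  have hcaseA : ∀ u ∈ R9 κ, ∀ c ∈ Cfsg.Geo.scalars (Fin 9) F, t * u * t = c * u →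
      u ∈ Cfsg.Geo.scalars (Fin 9) F := by
    intro u hu c hc' he
    by_contra hns
    have e2 : u = c * c * u := by
      calc u = t * t * u * (t * t) := by rw [ht2, one_mul, mul_one]
        _ = t * (t * u * t) * t := by group
        _ = t * c * u * t := by rw [he]; group
        _ = c * (t * u * t) := by rw [← scalar_comm hc' t]; group
        _ = c * c * u := by rw [he, mul_assoc]
    have hc1 : c = 1 := scalar_sq_one κ hc' (right_eq_mul.1 e2)
    rw [hc1, one_mul] at he
    have := rank_le_three κ hu hns ht2 (by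
      calc t * u = t * u * t * t := by rw [mul_assoc (t * u), ht2, mul_one]
        _ = u * t := by rw [he])
    omega
  have hB : ∀ r ∈ R9 κ, ∃ c ∈ Cfsg.Geo.scalars (Fin 9) F, t * r * t = r⁻¹ * c := by
    intro r hr
    obtain ⟨c', hc', e⟩ := R9_comm κ (hconj r hr) hr
    refine ⟨r * (t * r * t), hcaseA _ (mul_mem hr (hconj r hr)) c' hc' ?_, by group⟩
    rw [← e]
    calc t * (r * (t * r * t)) * t = t * r * t * (r * (t * t)) := by group
      _ = t * r * t * r := by rw [ht2, mul_one]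
  set y := t * pm tN with hy
  have hy2 : y * y = 1 := by
    calc y * y = t * (pm tN * t) * pm tN := by rw [hy]; group
      _ = t * (t * pm tN) * pm tN := by rw [← hc]
      _ = t * t * (pm tN * pm tN) := by group
      _ = 1 := by rw [ht2, z_sq κ, one_mul]
  have hy' : y⁻¹ = pm tN * t := by
    rw [hy, _root_.mul_inv_rev, hti, inv_eq_of_mul_eq_one_right (z_sq κ)]
  have hcomm : ∀ i, y * gen κ i = gen κ i * y := by
    intro i
    obtain ⟨c, hc', e⟩ := hB _ (gen_mem κ i)
    have e1 : y * gen κ i * y⁻¹ = c⁻¹ * gen κ i := by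
      rw [hy', hy]
      calc t * pm tN * gen κ i * (pm tN * t) = t * (pm tN * gen κ i * pm tN) * t := by group
        _ = t * (gen κ i)⁻¹ * t := by rw [z_inv]
        _ = (t * gen κ i * t)⁻¹ := by simp only [_root_.mul_inv_rev, hti, mul_assoc]
        _ = c⁻¹ * gen κ i := by rw [e, _root_.mul_inv_rev, inv_inv]
    have hci : c⁻¹ ∈ Cfsg.Geo.scalars (Fin 9) F := inv_mem hc'
    have hyi : y⁻¹ = y := inv_eq_of_mul_eq_one_right hy2
    have e2 : gen κ i = c⁻¹ * c⁻¹ * gen κ i := by
      calc gen κ i = y * y * gen κ i * (y * y)⁻¹ := by rw [hy2, one_mul, inv_one, mul_one]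
        _ = y * (y * gen κ i * y⁻¹) * y⁻¹ := by group
        _ = y * c⁻¹ * gen κ i * y⁻¹ := by rw [e1]; group
        _ = c⁻¹ * (y * gen κ i * y⁻¹) := by rw [← scalar_comm hci y]; group
        _ = c⁻¹ * c⁻¹ * gen κ i := by rw [e1, mul_assoc]
    rw [scalar_sq_one κ hci (right_eq_mul.1 e2), one_mul, mul_inv_eq_iff_eq_mul] at e1
    exact e1
  have := scalar_sq_one κ (scalar_of_comm_gens κ hcomm) hy2
  rw [hy, mul_eq_one_iff_eq_inv, inv_eq_of_mul_eq_one_right (z_sq κ)] at this
  exact this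

end Cfsg.Agent.C6NineU
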