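/-
The two coordinate systems of the standard group, and overgroups for p at least 5.
Main results: `e9`, `R9w_map`, `le_norm_odd`.
-/
import Cfsg.Agent.Lib.C6NineU.Full
import Cfsg.Agent.Lib.C6NineU.Isolated
import Cfsg.Agent.Lib.C6NineOdd.Final
import Cfsg.Agent.Lib.C6Three.Conj

set_option autoImplicit false
set_option linter.unusedSectionVars false
set_option linter.unusedSimpArgs false

namespace Cfsg.Agent.C6NineU

open Matrix Cfsg.Agent.Unitary
open scoped Matrix Kronecker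

variable {F : Type*} [Field F] [Fintype F] {p : ℕ}

/-- The point (i, k) is 3i + k. -/
def e9 : Fin 3 × Fin 3 ≃ Fin 9 where
  toFun q := mk q.1 q.2
  invFun r := (pI r, pK r)
  left_inv := by decide
  right_inv := by decide

theorem tX_e9 : (∀ r : Fin 9, e9.symm (tX r) = ((e9.symm r).1 + 1, (e9.symm r).2)) ∧
    ∀ r : Fin 9, e9.symm (tY r) = ((e9.symm r).1, (e9.symm r).2 + 1) := by decide

variable (κ : W9 F p)
include κ

omit κ in
theorem reindex_val (g : GL (Fin 3 × Fin 3) F) (r s : Fin 9) :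
    (Cfsg.Geo.glReindex e9 g : Matrix (Fin 9) (Fin 9) F) r s =
      (g : Matrix (Fin 3 × Fin 3) (Fin 3 × Fin 3) F) (e9.symm r) (e9.symm s) := rfl

/-- The standard group on pairs is carried to the standard group on nine points. -/
theorem R9w_map : (C6Three.R9w (⟨κ.ω, κ.rel, κ.three⟩ : C6Three.Cub F)).map
    (Cfsg.Geo.glReindex e9).toMonoidHom = R9 κ := by
  set c : C6Three.Cub F := ⟨κ.ω, κ.rel, κ.three⟩ with hc
  have e1 : ∀ (g : GL (Fin 3 × Fin 3) F) (σ : Equiv.Perm (Fin 9)),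
      (∀ r s, (g : Matrix (Fin 3 × Fin 3) (Fin 3 × Fin 3) F) (e9.symm r) (e9.symm s) =
        if σ s = r then 1 else 0) → (Cfsg.Geo.glReindex e9).toMonoidHom g = pm σ :=
    fun g σ h => Units.ext (Matrix.ext fun r s => (reindex_val g r s).trans (h r s))
  have e2 : ∀ (g : GL (Fin 3 × Fin 3) F) (E : Fin 9 → Fin 3),
      (∀ r s, (g : Matrix (Fin 3 × Fin 3) (Fin 3 × Fin 3) F) (e9.symm r) (e9.symm s) =
        if r = s then κ.ω ^ (E r : ℕ) else 0) → (Cfsg.Geo.glReindex e9).toMonoidHom g = dg κ E :=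
    fun g E h => Units.ext (Matrix.ext fun r s => by
      rw [dg_val, Matrix.diagonal_apply]
      exact (reindex_val g r s).trans (h r s))
  have hX : (Cfsg.Geo.glReindex e9).toMonoidHom (C6Three.kr (C6Three.gX (F := F)) 1) = pm tX := by
    refine e1 _ _ fun r s => ?_
    rw [C6Three.kr_val]
    have hts := tX_e9.1 s
    have : (e9.symm r).1 = (e9.symm s).1 + 1 ∧ (e9.symm r).2 = (e9.symm s).2 ↔ tX s = r := by
      rw [← e9.symm.injective.eq_iff, hts, Prod.ext_iff]
      exact ⟨fun h => ⟨h.1.symm, h.2.symm⟩, fun h => ⟨h.1.symm, h.2.symm⟩⟩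
    by_cases h : tX s = r
    · obtain ⟨a, b⟩ := this.2 h
      simp [C6Three.gX, a, b, h]
    · rw [if_neg h]
      by_cases ha : (e9.symm r).1 = (e9.symm s).1 + 1
      · have hb : (e9.symm r).2 ≠ (e9.symm s).2 := fun hb => h (this.1 ⟨ha, hb⟩)
        simp [C6Three.gX, Matrix.one_apply, hb]
      · simp [C6Three.gX, ha]
  have hY : (Cfsg.Geo.glReindex e9).toMonoidHom (C6Three.kr 1 (C6Three.gX (F := F))) = pm tY := by
    refine e1 _ _ fun r s => ?_
    rw [C6Three.kr_val]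
    have hts := tX_e9.2 s
    have : (e9.symm r).1 = (e9.symm s).1 ∧ (e9.symm r).2 = (e9.symm s).2 + 1 ↔ tY s = r := by
      rw [← e9.symm.injective.eq_iff, hts, Prod.ext_iff]
      exact ⟨fun h => ⟨h.1.symm, h.2.symm⟩, fun h => ⟨h.1.symm, h.2.symm⟩⟩
    by_cases h : tY s = r
    · obtain ⟨a, b⟩ := this.2 h
      simp [C6Three.gX, a, b, h]
    · rw [if_neg h]
      by_cases ha : (e9.symm r).2 = (e9.symm s).2 + 1
      · have hb : (e9.symm r).1 ≠ (e9.symm s).1 := fun hb => h (this.1 ⟨hb, ha⟩)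
        simp [C6Three.gX, Matrix.one_apply, hb]
      · simp [C6Three.gX, ha]
  have hd : ∀ r s : Fin 9, r ≠ s → (e9.symm r).1 ≠ (e9.symm s).1 ∨ (e9.symm r).2 ≠ (e9.symm s).2 :=
    sep_coords.1
  have hI : (Cfsg.Geo.glReindex e9).toMonoidHom (C6Three.kr c.gZ 1) = dg κ pI := by
    refine e2 _ _ fun r s => ?_
    rw [C6Three.kr_val]
    by_cases h : r = s
    · subst h
      simp [C6Three.Cub.gZ, C6Three.dgl, C6Three.Cub.w_val, hc, e9]
    · rcases hd r s h with h' | h' <;>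
        simp [C6Three.Cub.gZ, C6Three.dgl, Matrix.one_apply, h, h']
  have hK : (Cfsg.Geo.glReindex e9).toMonoidHom (C6Three.kr 1 c.gZ) = dg κ pK := by
    refine e2 _ _ fun r s => ?_
    rw [C6Three.kr_val]
    by_cases h : r = s
    · subst h
      simp [C6Three.Cub.gZ, C6Three.dgl, C6Three.Cub.w_val, hc, e9]
    · rcases hd r s h with h' | h' <;>
        simp [C6Three.Cub.gZ, C6Three.dgl, Matrix.one_apply, h, h']
  rw [C6Three.R9w, MonoidHom.map_closure, R9]
  simp only [Set.image_insert_eq, Set.image_singleton, hX, hY, hI, hK]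
  congr 1
  ext x
  simp only [Set.mem_insert_iff, Set.mem_singleton_iff]
  tauto

/-- The data for p at least five. -/
def W9.odd (h5 : 5 ≤ p) : C6NineOdd.Fld F := ⟨κ.ω, κ.rel, p, κ.prime, κ.mod3, h5, κ.card⟩

theorem R9_map (h5 : 5 ≤ p) : (C6NineOdd.R9 (κ.odd h5)).map (Cfsg.Geo.glReindex e9).toMonoidHom = R9 κ := by
  have h : C6NineOdd.R9 (κ.odd h5) = C6Three.R9w (⟨κ.ω, κ.rel, κ.three⟩ : C6Three.Cub F) := rfl
  rw [h, R9w_map]

omit κ in
theorem app_reindex (g : GL (Fin 3 × Fin 3) F) (x : Fin 9 → F) :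
    Transvect.app (Cfsg.Geo.glReindex e9 g) x =
      fun r => Transvect.app g (fun q => x (e9 q)) (e9.symm r) := by
  funext r
  simp only [Transvect.app_apply, Matrix.mulVec, dotProduct, reindex_val]
  exact Fintype.sum_equiv e9.symm _ _ fun s => by simp

omit κ in
theorem hq_reindex (n : ℕ) (x y : Fin 9 → F) :
    C6NineOdd.hq n (fun q => x (e9 q)) (fun q => y (e9 q)) = C6NineOdd.hq n x y :=
  Fintype.sum_equiv e9 _ _ fun _ => rfl

omit κ in
theorem iso_reindex {n : ℕ} {g : GL (Fin 3 × Fin 3) F} :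
    g ∈ C6NineOdd.IGrp n ↔ Cfsg.Geo.glReindex e9 g ∈ Cfsg.GU 9 F n := by
  rw [← C6NineOdd.mem_IGrp_iff_GU, C6NineOdd.mem_IGrp, C6NineOdd.mem_IGrp]
  constructor
  · intro h x y
    rw [app_reindex, app_reindex, ← hq_reindex n x y, ← h, ← hq_reindex]
    simp
  · intro h x y
    have e := h (fun r => x (e9.symm r)) (fun r => y (e9.symm r))
    rw [app_reindex, app_reindex, ← hq_reindex, ← hq_reindex n (fun r => x (e9.symm r))] at e
    simpa using e

omit κ in
theorem base_gens_sl (κ : C6NineOdd.Fld F) :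
    C6NineOdd.baseSet κ ⊆ (Cfsg.Geo.specialLinear (Fin 3 × Fin 3) F : Set (GL (Fin 3 × Fin 3) F)) := by
  open C6NineOdd in
  have hkr : ∀ A B : GL (Fin 3) F, ((kr A B : GL I9 F) : Matrix I9 I9 F).det =
      (A : Matrix (Fin 3) (Fin 3) F).det ^ 3 * (B : Matrix (Fin 3) (Fin 3) F).det ^ 3 := fun A B => by
    show Matrix.det ((A : Matrix (Fin 3) (Fin 3) F) ⊗ₖ (B : Matrix (Fin 3) (Fin 3) F)) = _
    rw [Matrix.det_kronecker, Fintype.card_fin]
  have hw : κ.ω ^ 3 = 1 := κ.cube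
  open C6NineOdd in
  have hgh : ∀ k, ((gh κ k : GL (Fin 3) F) : Matrix (Fin 3) (Fin 3) F).det ^ 3 = 1 := fun k => by
    show (Matrix.diagonal fun i => ((if i = k then κ.w else 1 : Fˣ) : F)).det ^ 3 = 1
    rw [Matrix.det_diagonal, Fin.prod_univ_three]
    fin_cases k <;> simp [Fld.w_val, hw]
  open C6NineOdd in
  have hgq : ((gq κ : GL (Fin 3) F) : Matrix (Fin 3) (Fin 3) F).det = 1 := by
    have h1 : κ.ω - κ.ω ^ 2 ≠ 0 := by
      rw [show κ.ω - κ.ω ^ 2 = κ.ω * (1 - κ.ω) by ring]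
      exact mul_ne_zero κ.ω_ne (sub_ne_zero.2 κ.ω_ne_one.symm)
    rw [show ((gq κ : GL (Fin 3) F) : Matrix (Fin 3) (Fin 3) F) =
      (κ.ω - κ.ω ^ 2)⁻¹ • Matrix.of fun i j : Fin 3 => κ.ω ^ ((i : ℕ) * j) from rfl, Matrix.det_smul,
      Matrix.det_fin_three, Fintype.card_fin]
    simp
    field_simp
    have := κ.rel; have := κ.cube
    grind
  open C6NineOdd in
  have hd : ∀ d : I9 → Fˣ, ((dgl d : GL I9 F) : Matrix I9 I9 F).det = ∏ q, (d q : F) :=
    fun d => Matrix.det_diagonal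
  intro g hg
  rw [SetLike.mem_coe, Transvect.mem_sl_iff]
  open C6NineOdd in
  simp only [baseSet, Set.mem_union, Set.mem_range, Set.mem_insert_iff, Set.mem_singleton_iff] at hg
  rcases hg with ((⟨k, rfl⟩ | ⟨k, rfl⟩) | rfl | rfl | rfl | rfl)
  · simp [hkr, hgh]
  · simp [hkr, hgh]
  · simp [hkr, hgq]
  · simp [hkr, hgq]
  · rw [C6NineOdd.gD1, hd]
    simp only [apply_ite (Units.val : Fˣ → F), Units.val_one, C6NineOdd.Fld.w_val]
    rw [Finset.prod_ite, Finset.prod_const, Finset.prod_const_one, mul_one,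
      show (Finset.univ.filter fun q : Fin 3 × Fin 3 => q.1 + q.2 = 0).card = 3 by decide, hw]
  · rw [C6NineOdd.gD2, hd]
    simp only [apply_ite (Units.val : Fˣ → F), Units.val_one, C6NineOdd.Fld.w_val]
    rw [Finset.prod_ite, Finset.prod_const, Finset.prod_const_one, mul_one,
      show (Finset.univ.filter fun q : Fin 3 × Fin 3 => q.1 = q.2).card = 3 by decide, hw]

variable {M : Subgroup (GL (Fin 9) F)}

/-- The power p + 1 removes a scalar isometry. -/
theorem pow_mem_of_scalar (h5 : 5 ≤ p) (φ : GL (Fin 3 × Fin 3) F ≃* GL (Fin 9) F)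
    {m z : GL (Fin 3 × Fin 3) F} (hm : φ m ∈ M) (hz : z ∈ Cfsg.Geo.scalars (Fin 3 × Fin 3) F)
    (hzI : z ∈ C6NineOdd.IGrp p) : φ (m * z) ^ (p + 1) ∈ M := by
  obtain ⟨c, hc⟩ := (Cfsg.Geo.mem_scalars_iff z).1 hz
  have hcc : (c : F) * (c : F) ^ p = 1 := by
    have H9 : IsHerm p (C6NineOdd.hq (ι := Fin 3 × Fin 3) (F := F) p) :=
      C6NineOdd.hq_isHerm (κ.odd h5)
    have hps : C6NineOdd.hq p (Pi.single (0, 0) 1 : Fin 3 × Fin 3 → F) (Pi.single (0, 0) 1) = 1 :=
      (C6NineOdd.hq_single (κ.odd h5) (Pi.single (0, 0) 1) (0, 0)).trans (Pi.single_eq_same _ _)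
    have h := hzI (Pi.single (0, 0) 1) (Pi.single (0, 0) 1)
    rw [Transvect.app_apply, hc, Matrix.smul_mulVec, Matrix.one_mulVec] at h
    have h' : C6NineOdd.hq p ((c : F) • (Pi.single (0, 0) 1 : Fin 3 × Fin 3 → F))
        ((c : F) • Pi.single (0, 0) 1) = (c : F) * (c : F) ^ p := by
      rw [H9.smul_left, H9.smul_right, hps, mul_one]
    rw [← h', h, hps]
  have hz1 : z ^ (p + 1) = 1 := by
    apply Units.ext
    rw [Units.val_pow_eq_pow_val, hc, smul_pow, one_pow, pow_succ', hcc, one_smul, Units.val_one]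
  have hcomm : Commute m z := Units.ext (by rw [Units.val_mul, Units.val_mul, hc]; simp)
  rw [← map_pow, hcomm.mul_pow, hz1, mul_one, map_pow]
  exact pow_mem hm (p + 1)

/-- For p at least five an overgroup without centres normalises the standard group. -/
theorem le_norm_odd (h5 : 5 ≤ p) (O : Over κ M) (hno : ∀ v, v ∈ centres p M → v = 0) :
    M ≤ Cfsg.Geo.subgroupNormalizer (R9 κ) := by
  classical
  set κ' := κ.odd h5 with hκ'
  set φ := Cfsg.Geo.glReindex (F := F) e9 with hφ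
  set Z : Subgroup (GL (Fin 3 × Fin 3) F) := Cfsg.Geo.scalars (Fin 3 × Fin 3) F ⊓ C6NineOdd.IGrp p with hZ
  set H := M.comap φ.toMonoidHom ⊔ Z with hH
  have hMI : M.comap φ.toMonoidHom ≤ C6NineOdd.IGrp p := fun g hg =>
    iso_reindex.2 (O.le hg).1
  have hHI : H ≤ C6NineOdd.IGrp p := sup_le hMI inf_le_right
  haveI := κ'.charP
  have hpw : ∀ g ∈ H, φ g ^ (p + 1) ∈ M := fun g hg => by
    obtain ⟨m, hm, z, hz, rfl⟩ := Subgroup.mem_sup_of_normal_right.1
      ((sup_le_sup_left (inf_le_left : Z ≤ Cfsg.Geo.scalars (Fin 3 × Fin 3) F) _) hg)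
    have hzI : z ∈ C6NineOdd.IGrp p := by
      have := mul_mem (inv_mem (hMI hm)) (hHI hg)
      rwa [inv_mul_cancel_left] at this
    exact pow_mem_of_scalar κ h5 φ hm hz hzI
  have Ov : C6NineOdd.Ovr κ' H := by
    refine ⟨sup_le ((Subgroup.closure_le _).2 fun b hb => Subgroup.mem_sup_left ?_) le_sup_right,
      hHI, fun v ψ h0 hm => ?_⟩
    · have hb' : b ∈ C6NineOdd.Base κ' := Subgroup.mem_sup_left (Subgroup.subset_closure hb)
      refine O.base ⟨?_, iso_reindex.1 (C6NineOdd.base_iso κ' hb'), ?_⟩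
      · show φ b ∈ _
        have h : (Cfsg.Geo.subgroupNormalizer (C6NineOdd.R9 κ')).map φ.toMonoidHom =
            Cfsg.Geo.subgroupNormalizer (R9 κ) := by
          rw [← R9_map κ h5, Cfsg.Geo.subgroupNormalizer, Cfsg.Geo.subgroupNormalizer,
            Subgroup.map_equiv_normalizer_eq]
        exact h ▸ ⟨b, C6NineOdd.base_le_norm κ' hb', rfl⟩
      · have hs := base_gens_sl κ' hb
        rw [SetLike.mem_coe, Transvect.mem_sl_iff] at hs
        refine (Transvect.mem_sl_iff (g := φ b)).2 ?_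
        show ((b : Matrix (Fin 3 × Fin 3) (Fin 3 × Fin 3) F).submatrix e9.symm e9.symm).det = 1
        rw [Matrix.det_submatrix_equiv_self, hs]
    · by_contra hne
      have h1 : (ψ ∘ₗ LinearMap.funLeft F F e9) (fun r => v (e9.symm r)) = 0 := by
        rw [LinearMap.comp_apply, show LinearMap.funLeft F F e9 (fun r => v (e9.symm r)) = v from
          funext fun q => by simp [LinearMap.funLeft_apply], h0]
      have e : φ (Transvect.tv v ψ) =
          Transvect.tv (fun r => v (e9.symm r)) (ψ ∘ₗ LinearMap.funLeft F F e9) := by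
        refine Transvect.gl_ext fun x => ?_
        rw [hφ, app_reindex, Transvect.tv_apply h0, Transvect.tv_apply h1]
        funext r
        simp [LinearMap.funLeft_apply, Function.comp_def]
        exact Or.inl rfl
      have hM' := hpw _ hm
      rw [e] at hM'
      have htp : ∀ n : ℕ, Transvect.tv (fun r => v (e9.symm r)) (ψ ∘ₗ LinearMap.funLeft F F e9) ^ n =
          Transvect.tv (fun r => v (e9.symm r)) ((n : F) • (ψ ∘ₗ LinearMap.funLeft F F e9)) :=
        fun n => C6NineOdd.tv_pow' h1 n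
      have hp0 : ((p + 1 : ℕ) : F) = 1 := by
        have : ((κ'.p : ℕ) : F) = 0 := CharP.cast_eq_zero F κ'.p
        push_cast
        rw [show (p : F) = 0 from this, zero_add]
      rw [htp, hp0, one_smul] at hM'
      obtain ⟨hv0, hv⟩ := C6NineOdd.centre_of_tv κ' (A := M)
        (fun g hg => C6NineOdd.mem_IGrp_iff_GU.2 (O.le hg).1) h1 hM' (fun h => hne (by
          have := e.trans h
          exact φ.injective (this.trans (map_one φ).symm)))
      exact hv0 (hno _ hv)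
  have hN := C6NineOdd.Ovr.le_norm κ' Ov
  intro g hg
  have hg' : φ.symm g ∈ H := Subgroup.mem_sup_left (show φ (φ.symm g) ∈ M by rwa [φ.apply_symm_apply])
  have : g ∈ (Cfsg.Geo.subgroupNormalizer (C6NineOdd.R9 κ')).map φ.toMonoidHom :=
    Subgroup.mem_map_equiv.2 (hN hg')
  rwa [Cfsg.Geo.subgroupNormalizer, Subgroup.map_equiv_normalizer_eq, R9_map κ h5] at this

end Cfsg.Agent.C6NineU
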