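/-
Four elements: an overgroup without the special unitary group lies in the normaliser.
Main results: `odd_scalar`, `centralised_scalar`, `mem_R9_of_comm`, `le_norm_two`.
-/
import Cfsg.Agent.Lib.C6NineU.Isolated
import Cfsg.Agent.Lib.ZStar.Glauberman
import Cfsg.Agent.Lib.ZStar.Unique
import Mathlib.GroupTheory.FixedPointFree

set_option autoImplicit false
set_option linter.unusedSectionVars false

namespace Cfsg.Agent.C6NineU

open Matrix Cfsg.Agent.Unitary
open scoped Matrix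

variable {F : Type*} [Field F] [Fintype F]

/-- The inclusion of SU in GL. -/
def suIncl (n : ℕ) (F : Type*) [Field F] [Fintype F] (q : ℕ) : Cfsg.SU n F q →* GL (Fin n) F :=
  (Cfsg.GU n F q).subtype.comp (suToGU n F q)

theorem suIncl_val {n q : ℕ} (s : Cfsg.SU n F q) :
    (suIncl n F q s : Matrix (Fin n) (Fin n) F) =
      ((s : Matrix.SpecialLinearGroup (Fin n) F) : Matrix (Fin n) (Fin n) F) := rfl

theorem suIncl_inj {n q : ℕ} : Function.Injective (suIncl n F q) := fun a b h =>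
  Subtype.ext (Subtype.ext (congrArg Units.val h))

variable (κ : W9 F 2)
include κ

/-- A subgroup of odd order normalised by GU_4(2) is scalar. -/
theorem odd_scalar (X : Subgroup (GL (Fin 4) F)) (hodd : Odd (Nat.card X))
    (hle : X ≤ Cfsg.GU 4 F 2)
    (hnorm : ∀ A ∈ Cfsg.GU 4 F 2, ∀ x ∈ X, A * x * A⁻¹ ∈ X) {x : GL (Fin 4) F} (hx : x ∈ X) :
    ∃ c : F, (x : Matrix (Fin 4) (Fin 4) F) = Matrix.scalar (Fin 4) c := by
  have hone : (1 : F) + 1 ^ 2 = 0 := by linear_combination κ.two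
  have hsimple := isSimpleGroup_PSU (n := 4) κ.card (Or.inl le_rfl)
  let Y : Subgroup (Cfsg.SU 4 F 2) := X.comap (suIncl 4 F 2)
  have hYn : Y.Normal := ⟨fun y hy g => by
    show suIncl 4 F 2 (g * y * g⁻¹) ∈ X
    rw [map_mul, map_mul, map_inv]
    exact hnorm _ (suToGU 4 F 2 g).2 _ hy⟩
  have hYodd : Odd (Nat.card Y) := by
    refine hodd.of_dvd_nat ?_
    rw [Nat.card_congr (Y.equivMapOfInjective _ (suIncl_inj (F := F) (n := 4) (q := 2))).toEquiv]
    exact Subgroup.card_dvd_of_le (Subgroup.map_comap_le _ _)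
  obtain ⟨r, s', e, hr, hs, hrs, -⟩ := exists_model (n := 4) κ.card (by norm_num)
  have hr' : r ≠ 0 := fun h => by
    have H := hermForm_isHerm κ.card 4
    rw [h, H.zero_left] at hrs
    exact zero_ne_one hrs
  have hYc : Y ≤ Subgroup.center (Cfsg.SU 4 F 2) := by
    rcases (Subgroup.Normal.map hYn (QuotientGroup.mk' (Subgroup.center (Cfsg.SU 4 F 2)))
      (QuotientGroup.mk'_surjective _)).eq_bot_or_eq_top with h | h
    · rwa [Subgroup.map_eq_bot_iff, QuotientGroup.ker_mk'] at h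
    · exfalso
      have hdvd : Nat.card (Y.map (QuotientGroup.mk' (Subgroup.center (Cfsg.SU 4 F 2)))) ∣ Nat.card Y :=
        Subgroup.card_map_dvd _ _
      rw [h, Subgroup.card_top] at hdvd
      set T := suTransvection κ.card r hr (1 : F) hone with hT
      have hT2 : T * T = 1 := by
        apply Subtype.ext
        apply Subtype.ext
        show Cfsg.unitaryTransvection 4 2 r 1 * Cfsg.unitaryTransvection 4 2 r 1 = 1
        rw [transvection_mul r hr, κ.add_self, Unitary.transvection_zero]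
      have hTc : T ∉ Subgroup.center (Cfsg.SU 4 F 2) := by
        rw [mem_center_SU_iff κ.card (by norm_num)]
        rintro ⟨c, hc⟩
        change Cfsg.unitaryTransvection 4 2 r 1 = Matrix.scalar (Fin 4) c at hc
        have h1 := congrArg (· *ᵥ s') hc
        simp only [transvection_mulVec] at h1
        have hsr : Cfsg.hermForm 4 F 2 s' r = 1 := by
          rw [(hermForm_isHerm κ.card 4).conj_symm r s', hrs, one_pow]
        rw [hsr, one_mul, one_smul, Matrix.scalar_apply] at h1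
        have h2 : r = (c - 1) • s' := by
          funext j
          have := congrFun h1 j
          rw [Pi.add_apply, Matrix.mulVec_diagonal] at this
          simp only [Pi.smul_apply, smul_eq_mul]
          linear_combination this
        have H := hermForm_isHerm κ.card 4
        rw [h2, H.smul_left, hs, mul_zero] at hrs
        exact zero_ne_one hrs
      have ho : orderOf (QuotientGroup.mk' (Subgroup.center (Cfsg.SU 4 F 2)) T) = 2 :=
        orderOf_eq_prime (by rw [pow_two, ← map_mul, hT2, map_one]) fun h1 =>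
          hTc ((QuotientGroup.eq_one_iff T).1 h1)
      have h2 := orderOf_dvd_natCard (QuotientGroup.mk' (Subgroup.center (Cfsg.SU 4 F 2)) T)
      rw [ho] at h2
      exact (Nat.not_even_iff_odd.2 hYodd) (even_iff_two_dvd.2 (h2.trans hdvd))
  refine scalar_of_fixes_iso κ.card (by norm_num) _ fun v hv hv0 => ?_
  obtain ⟨S, hSv⟩ : ∃ S : Cfsg.SU 4 F 2, ((S : Matrix.SpecialLinearGroup (Fin 4) F) :
      Matrix (Fin 4) (Fin 4) F) = Cfsg.unitaryTransvection 4 2 v 1 :=
    ⟨suTransvection κ.card v hv0 1 hone, rfl⟩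
  set G := suIncl 4 F 2 S with hG
  have hGval : (G : Matrix (Fin 4) (Fin 4) F) = Cfsg.unitaryTransvection 4 2 v 1 := hSv
  have hG2 : G * G = 1 := Units.ext (by
    rw [Units.val_mul, hGval, transvection_mul v hv0, κ.add_self, Unitary.transvection_zero, Units.val_one])
  set c := x * G * x⁻¹ * G⁻¹ with hc
  clear_value c
  have hcX : c ∈ X := by
    have h1 : G * x⁻¹ * G⁻¹ ∈ X := hnorm _ (suToGU 4 F 2 S).2 _ (inv_mem hx)
    rw [hc, show x * G * x⁻¹ * G⁻¹ = x * (G * x⁻¹ * G⁻¹) by group]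
    exact mul_mem hx h1
  have hdet : (c : Matrix (Fin 4) (Fin 4) F).det = 1 := by
    have h1 := congrArg Matrix.det (congrArg Units.val (show c * G * x = x * G by rw [hc]; group))
    have hGd : (G : Matrix (Fin 4) (Fin 4) F).det = 1 := by rw [hGval, transvection_det v hv0]
    rw [Units.val_mul, Units.val_mul, Units.val_mul, Matrix.det_mul, Matrix.det_mul, Matrix.det_mul, hGd,
      mul_one, mul_one] at h1
    exact mul_right_cancel₀ ((Matrix.isUnit_iff_isUnit_det _).1 x.isUnit).ne_zero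
      (h1.trans (one_mul _).symm)
  have hxU := hle hx
  have hcu : c ∈ suGL 4 F 2 := Subgroup.mem_inf.2 ⟨hc ▸ mul_mem (mul_mem (mul_mem hxU
    (suToGU 4 F 2 S).2) (inv_mem hxU)) (inv_mem (suToGU 4 F 2 S).2), Transvect.mem_sl_iff.2 hdet⟩
  obtain ⟨cs, hcs⟩ := exists_su_of_mem hcu
  have hcs' : suIncl 4 F 2 cs = c := hcs
  obtain ⟨z, hz⟩ := (mem_center_SU_iff κ.card (by norm_num) cs).1
    (hYc (show suIncl 4 F 2 cs ∈ X by rw [hcs']; exact hcX))
  have hcz : (c : Matrix (Fin 4) (Fin 4) F) = Matrix.scalar (Fin 4) z := by rw [← hcs']; exact hz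
  have e : c * G = x * G * x⁻¹ := by rw [hc, inv_mul_cancel_right]
  have e2 : c * c = 1 := by
    have hcomm : c * G = G * c := Units.ext (by
      rw [Units.val_mul, Units.val_mul, hcz]
      exact (Matrix.scalar_commute z (fun r => mul_comm _ _) _).eq)
    calc c * c = c * c * (G * G) := by rw [hG2, mul_one]
      _ = c * (c * G) * G := by group
      _ = c * (G * c) * G := by rw [hcomm]
      _ = c * G * (c * G) := by group
      _ = x * G * x⁻¹ * (x * G * x⁻¹) := by rw [e]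
      _ = x * (G * G) * x⁻¹ := by group
      _ = 1 := by rw [hG2, mul_one, mul_inv_cancel]
  have hz1 : z = 1 := by
    have h1 := congrArg (fun m : GL (Fin 4) F => (m : Matrix (Fin 4) (Fin 4) F) 0 0) e2
    simp [hcz] at h1
    have : (z - 1) ^ 2 = 0 := by linear_combination h1 + (1 - z) * κ.two
    exact sub_eq_zero.1 (pow_eq_zero_iff two_ne_zero |>.1 this)
  have hc1 : c = 1 := Units.ext (by rw [hcz, hz1, map_one, Units.val_one])
  rw [hc1, one_mul] at e
  have hv1 := transvection_conj ⟨x, hxU⟩ v (1 : F)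
  have e' := congrArg Units.val (eq_mul_inv_iff_mul_eq.1 e)
  rw [Units.val_mul, Units.val_mul, hGval] at e'
  change (x : Matrix (Fin 4) (Fin 4) F) * _ = _ * (x : Matrix (Fin 4) (Fin 4) F) at hv1
  rw [← e'] at hv1
  have hv2 := congrArg (· * ((x⁻¹ : GL (Fin 4) F) : Matrix (Fin 4) (Fin 4) F)) hv1
  simp only [Matrix.mul_assoc, ← Units.val_mul, mul_inv_cancel, Units.val_one, Matrix.mul_one] at hv2
  obtain ⟨u, hu⟩ : ∃ u, Cfsg.hermForm 4 F 2 u v ≠ 0 := by
    obtain ⟨i, hi⟩ := Function.ne_iff.1 hv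
    exact ⟨Pi.single i 1, by rw [hermForm_single_left]; exact fun e => hi (pow_eq_zero_iff two_ne_zero |>.1 e)⟩
  have h3 := congrArg (· *ᵥ u) hv2
  simp only [transvection_mulVec, one_mul, add_right_inj] at h3
  set w := (x : Matrix (Fin 4) (Fin 4) F) *ᵥ v with hw
  have hne : Cfsg.hermForm 4 F 2 u w ≠ 0 := fun h0 => by
    rw [h0, zero_smul] at h3
    exact hv (by
      rcases smul_eq_zero.1 h3 with h | h
      · exact absurd h hu
      · exact h)
  refine ⟨(Cfsg.hermForm 4 F 2 u w)⁻¹ * Cfsg.hermForm 4 F 2 u v, ?_⟩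
  rw [mul_smul, h3, inv_smul_smul₀ hne]

omit κ in
theorem scalar_mul {a b : GL (Fin 9) F} (ha : a ∈ Cfsg.Geo.scalars (Fin 9) F)
    (hb : b ∈ Cfsg.Geo.scalars (Fin 9) F) : a * b ∈ Cfsg.Geo.scalars (Fin 9) F := mul_mem ha hb

theorem scalar_unit_mem {lam : GL (Fin 9) F} {u : F} (hu : u ≠ 0)
    (h : (lam : Matrix (Fin 9) (Fin 9) F) = u • (1 : Matrix (Fin 9) (Fin 9) F)) : lam ∈ R9 κ := by
  obtain ⟨k, hk⟩ : ∃ k : Fin 3, u = κ.ω ^ (k : ℕ) := by
    rcases κ.cases u with h | h | h | h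
    · exact absurd h hu
    · exact ⟨0, by rw [h]; exact (pow_zero _).symm⟩
    · exact ⟨1, by rw [h]; exact (pow_one _).symm⟩
    · exact ⟨2, h⟩
  have e : lam = dg κ (fun _ => k) := Units.ext (by
    rw [h, dg_val, hk, Matrix.smul_one_eq_diagonal])
  rw [e]
  exact affE_mem κ ⟨0, 0, k, fun r => by simp⟩

theorem scalar_mem_R9 {g : GL (Fin 9) F} (hg : g ∈ Cfsg.Geo.scalars (Fin 9) F) : g ∈ R9 κ := by
  obtain ⟨u, hu⟩ := (Cfsg.Geo.mem_scalars_iff _).1 hg
  exact scalar_unit_mem κ u.ne_zero hu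

/-- An element centralising the group up to scalars lies in it. -/
theorem mem_R9_of_comm {x : GL (Fin 9) F}
    (h : ∀ i, ∃ c ∈ Cfsg.Geo.scalars (Fin 9) F, x * gen κ i * x⁻¹ = c * gen κ i) : x ∈ R9 κ := by
  have hk : ∀ i, ∃ k : Fin 3, x * gen κ i * x⁻¹ = dg κ (fun _ => k) * gen κ i := by
    intro i
    obtain ⟨c, hc, e⟩ := h i
    obtain ⟨u, hu⟩ := (Cfsg.Geo.mem_scalars_iff _).1 hc
    obtain ⟨k, hk⟩ : ∃ k : Fin 3, (u : F) = κ.ω ^ (k : ℕ) := by
      rcases κ.cases (u : F) with h | h | h | h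
      · exact absurd h u.ne_zero
      · exact ⟨0, by rw [h]; exact (pow_zero _).symm⟩
      · exact ⟨1, by rw [h]; exact (pow_one _).symm⟩
      · exact ⟨2, h⟩
    refine ⟨k, e.trans ?_⟩
    congr 1
    exact Units.ext (by rw [hu, hk, dg_val, Matrix.smul_one_eq_diagonal])
  obtain ⟨a, ha⟩ := hk 0
  obtain ⟨b, hb⟩ := hk 1
  obtain ⟨c, hc⟩ := hk 2
  obtain ⟨d, hd⟩ := hk 3
  obtain ⟨comp, shift, tr0, hX, hY⟩ := tr2_facts
  set P : GL (Fin 9) F := pm (tr2 (-c) (-d))
  set D := dg κ (affF a b 0)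
  have hP : P ∈ R9 κ := by
    have e : tr2 (-c) (-d) = tX ^ ((-c : Fin 3) : ℕ) * tY ^ ((-d : Fin 3) : ℕ) :=
      Equiv.ext ((by decide +kernel : ∀ (a b : Fin 3) (r : Fin 9),
        tr2 a b r = (tX ^ (a : ℕ) * tY ^ (b : ℕ)) r) _ _)
    have hpow : ∀ (n : ℕ) (τ : Equiv.Perm (Fin 9)), (pm (τ ^ n) : GL (Fin 9) F) = pm τ ^ n := by
      intro n τ
      induction n with
      | zero => simp [pm_one]
      | succ n ih => rw [pow_succ, pow_succ, ← pm_mul, ih]
    show pm (tr2 (-c) (-d)) ∈ R9 κ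
    rw [e, ← pm_mul, hpow, hpow]
    exact mul_mem (pow_mem (gens_mem κ).1 _) (pow_mem (gens_mem κ).2.1 _)
  have hD : D ∈ R9 κ := affE_mem κ ⟨a, b, 0, fun r => rfl⟩
  have hDconj : ∀ E : Fin 9 → Fin 3, D * dg κ E * D⁻¹ = dg κ E := fun E => by
    rw [mul_inv_eq_iff_eq_mul, dg_mul, dg_mul, add_comm]
  have hPX : ∀ σ : Equiv.Perm (Fin 9), σ = tX ∨ σ = tY → P * pm σ * P⁻¹ = pm σ := by
    intro σ hσ
    rw [mul_inv_eq_iff_eq_mul, pm_mul, pm_mul]
    congr 1
    refine Equiv.ext fun r => ?_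
    rcases hσ with rfl | rfl <;> simp only [Equiv.Perm.mul_apply, hX, hY, comp, add_comm]
  have same : ∀ i, (D * P) * gen κ i * (D * P)⁻¹ = x * gen κ i * x⁻¹ := by
    intro i
    rw [show (D * P) * gen κ i * (D * P)⁻¹ = D * (P * gen κ i * P⁻¹) * D⁻¹ by group]
    fin_cases i
    · show D * (P * pm tX * P⁻¹) * D⁻¹ = x * gen κ 0 * x⁻¹
      rw [ha, hPX _ (Or.inl rfl), dg_conj_pm]
      congr 2
      exact funext ((by decide +kernel : ∀ (a b : Fin 3) (r : Fin 9),
        affF a b 0 r - affF a b 0 (tX.symm r) = a) a b)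
    · show D * (P * pm tY * P⁻¹) * D⁻¹ = x * gen κ 1 * x⁻¹
      rw [hb, hPX _ (Or.inr rfl), dg_conj_pm]
      congr 2
      exact funext ((by decide +kernel : ∀ (a b : Fin 3) (r : Fin 9),
        affF a b 0 r - affF a b 0 (tY.symm r) = b) a b)
    · show D * (P * dg κ pI * P⁻¹) * D⁻¹ = x * gen κ 2 * x⁻¹
      rw [hc, pm_conj_dg, hDconj]
      show _ = dg κ (fun _ => c) * dg κ pI
      rw [dg_mul]
      congr 1
      exact funext ((by decide +kernel : ∀ (c d : Fin 3) (r : Fin 9),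
        pI ((tr2 (-c) (-d)).symm r) = c + pI r) c d)
    · show D * (P * dg κ pK * P⁻¹) * D⁻¹ = x * gen κ 3 * x⁻¹
      rw [hd, pm_conj_dg, hDconj]
      show _ = dg κ (fun _ => d) * dg κ pK
      rw [dg_mul]
      congr 1
      exact funext ((by decide +kernel : ∀ (c d : Fin 3) (r : Fin 9),
        pK ((tr2 (-c) (-d)).symm r) = d + pK r) c d)
  have hy : (D * P)⁻¹ * x ∈ R9 κ := scalar_mem_R9 κ (scalar_of_comm_gens κ fun i => by
    calc (D * P)⁻¹ * x * gen κ i = (D * P)⁻¹ * (x * gen κ i * x⁻¹) * x := by group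
      _ = gen κ i * ((D * P)⁻¹ * x) := by rw [← same i]; group)
  have := mul_mem (mul_mem hD hP) hy
  rwa [← mul_assoc, mul_inv_cancel, one_mul] at this

variable {M : Subgroup (GL (Fin 9) F)} (O : Over κ M)
include O

/-- The elements of an odd subgroup normalised by M and centralised by the involution are scalars. -/
theorem centralised_scalar (hno : ∀ v, v ∈ centres 2 M → v = 0) {N : Subgroup (GL (Fin 9) F)}
    (hNM : N ≤ M) (hnorm : ∀ g ∈ M, ∀ x ∈ N, g * x * g⁻¹ ∈ N) (hodd : Odd (Nat.card N))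
    {x : GL (Fin 9) F} (hx : x ∈ N) (hC : x ∈ (CN : Subgroup (GL (Fin 9) F))) :
    x ∈ Cfsg.Geo.scalars (Fin 9) F := by
  set X := (N.subgroupOf (CN : Subgroup (GL (Fin 9) F))).map (Ahom κ) with hX
  have hXodd : Odd (Nat.card X) := by
    refine hodd.of_dvd_nat ((Subgroup.card_map_dvd _ _).trans ?_)
    rw [Nat.card_congr ((N.subgroupOf (CN : Subgroup (GL (Fin 9) F))).equivMapOfInjective _
      (Subgroup.subtype_injective _)).toEquiv]
    exact Subgroup.card_dvd_of_le (by rintro _ ⟨y, hy, rfl⟩; exact hy)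
  have hXU : X ≤ Cfsg.GU 4 F 2 := by
    rintro _ ⟨y, hy, rfl⟩
    exact Ahom_GU κ y (O.le (hNM hy)).1
  have hXn : ∀ A ∈ Cfsg.GU 4 F 2, ∀ y ∈ X, A * y * A⁻¹ ∈ X := by
    rintro A hA _ ⟨y, hy, rfl⟩
    obtain ⟨n, hn, rfl⟩ := image_full κ hA
    refine ⟨n * y * n⁻¹, hnorm _ (O.base hn) _ hy, by simp⟩
  obtain ⟨lam, hlam⟩ := odd_scalar κ X hXodd hXU hXn ⟨⟨x, hC⟩, hx, rfl⟩
  rw [Ahom_val] at hlam
  have hl0 : lam ≠ 0 := fun e => by
    have := (Matrix.isUnit_iff_isUnit_det _).1 (Ahom κ ⟨x, hC⟩).isUnit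
    rw [Ahom_val, hlam, e] at this
    simp at this
  obtain ⟨L, hL⟩ : ∃ L : GL (Fin 9) F, (L : Matrix (Fin 9) (Fin 9) F) = Matrix.scalar (Fin 9) lam :=
    ⟨Units.map (Matrix.scalar (Fin 9) : F →+* Matrix (Fin 9) (Fin 9) F).toMonoidHom (Units.mk0 _ hl0), rfl⟩
  have hLs : L ∈ Cfsg.Geo.scalars (Fin 9) F := (Cfsg.Geo.mem_scalars_iff _).2
    ⟨Units.mk0 _ hl0, by rw [hL, Matrix.smul_one_eq_diagonal]; rfl⟩
  have hl3 : lam ^ 3 = 1 := by
    have := FiniteField.pow_card_sub_one_eq_one lam hl0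
    rwa [κ.card] at this
  have hL3 : L ^ 3 = 1 := Units.ext (by
    rw [Units.val_pow_eq_pow_val, hL, ← map_pow, hl3, map_one, Units.val_one])
  have hLR : L ∈ R9 κ := scalar_mem_R9 κ hLs
  have hLsu : L ∈ suGL 9 F 2 := by
    refine mem_su ?_ ?_
    · show IsUnitary 2 (L : Matrix (Fin 9) (Fin 9) F)
      rw [hL, Matrix.scalar_apply]
      exact isUnitary_diagonal κ.card fun _ => hl3
    · rw [hL, Matrix.scalar_apply, Matrix.det_diagonal, Finset.prod_const, Finset.card_univ,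
        Fintype.card_fin, show (9 : ℕ) = 3 * 3 from rfl, pow_mul, hl3, one_pow]
  have hLM : L ∈ M := O.base ⟨Subgroup.le_normalizer hLR, hLsu⟩
  have hLC : L ∈ (CN : Subgroup (GL (Fin 9) F)) := mem_CN.2 (scalar_comm hLs _)
  obtain ⟨-, -, -, inj, -, -⟩ := rp_facts
  have hA : Amat (L⁻¹ * x) = 1 := by
    have e1 : Amat L = Matrix.scalar (Fin 4) lam := by
      ext a b
      simp [Amat, hL, Matrix.diagonal_apply, (inj a b).1, (inj a b).2.2]
    have e2 : Ahom κ ⟨L, hLC⟩ = Ahom κ ⟨x, hC⟩ := Units.ext (by rw [Ahom_val, Ahom_val, e1, hlam])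
    have e3 : Ahom κ (⟨L, hLC⟩⁻¹ * ⟨x, hC⟩) = 1 := by rw [map_mul, map_inv, e2, inv_mul_cancel]
    exact congrArg Units.val e3
  rcases kernel_trivial κ O hno (mul_mem (inv_mem hLM) (hNM hx)) (mul_mem (inv_mem hLC) hC) hA with e | e
  · rw [inv_mul_eq_one] at e; exact e ▸ hLs
  · exfalso
    obtain ⟨m, hm, hxm⟩ : ∃ m : ℕ, Odd m ∧ x ^ m = 1 := ⟨Nat.card N, hodd, by
      have := pow_card_eq_one' (x := (⟨x, hx⟩ : N))
      exact congrArg Subtype.val this⟩
    have h3 : (L⁻¹ * x) ^ (3 * m) = 1 := by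
      rw [(show Commute L⁻¹ x from scalar_comm (inv_mem hLs) x).mul_pow, pow_mul, inv_pow, hL3,
        inv_one, one_pow, one_mul, mul_comm, pow_mul, hxm, one_pow]
    rw [e] at h3
    obtain ⟨j, hj⟩ : Odd (3 * m) := Odd.mul (by decide) hm
    rw [hj, pow_succ, pow_mul, pow_two, z_sq κ, one_pow, one_mul] at h3
    have := congrArg (fun g : GL (Fin 9) F => (g : Matrix (Fin 9) (Fin 9) F) 1 1) h3
    simp [pm_val, show tN (1 : Fin 9) ≠ 1 by decide] at this

/-- An overgroup without transvections normalises the group. -/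
theorem le_norm_two (hno : ∀ v, v ∈ centres 2 M → v = 0) :
    M ≤ Cfsg.Geo.subgroupNormalizer (R9 κ) := by
  obtain ⟨hX, hY, hI, hK, hsgn⟩ := tN_norm_data
  have hzM : (pm tN : GL (Fin 9) F) ∈ M := O.base ⟨pm_norm κ hX hY hI hK, pm_su κ⟩
  have hgM : ∀ i, gen κ i ∈ M := fun i => O.base ⟨Subgroup.le_normalizer (gen_mem κ i), by
    fin_cases i
    · exact pm_su κ
    · exact pm_su κ
    · exact dg_mem_su κ (by decide)
    · exact dg_mem_su κ (by decide)⟩
  let z : M := ⟨pm tN, hzM⟩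
  have hiso : Cfsg.IsIsolatedInvolution z := by
    refine ⟨?_, fun g hg => Subtype.ext ?_⟩
    · rw [← Subgroup.orderOf_coe]
      refine orderOf_eq_prime (by rw [pow_two]; exact z_sq κ) fun h => ?_
      have := congrArg (fun g : GL (Fin 9) F => (g : Matrix (Fin 9) (Fin 9) F) 1 1) h
      simp [z, pm_val, show tN (1 : Fin 9) ≠ 1 by decide] at this
    · exact isolated κ O hno (g * z * g⁻¹).2 (congrArg Subtype.val hg.eq).symm
  set N := (Cfsg.pPrimeCore 2 M).map M.subtype with hN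
  have hNn : (Cfsg.pPrimeCore 2 M).Normal := by
    rw [Cores.pPrimeCore_eq_piCore]
    infer_instance
  have hNM : N ≤ M := Subgroup.map_subtype_le _
  have hnorm : ∀ g ∈ M, ∀ x ∈ N, g * x * g⁻¹ ∈ N := by
    rintro g hg _ ⟨y, hy, rfl⟩
    exact ⟨⟨g, hg⟩ * y * ⟨g, hg⟩⁻¹, hNn.conj_mem y hy ⟨g, hg⟩, rfl⟩
  have hodd : Odd (Nat.card N) := by
    rw [hN, ← Nat.card_congr ((Cfsg.pPrimeCore 2 M).equivMapOfInjective _
      (Subgroup.subtype_injective _)).toEquiv]
    exact Nat.coprime_two_right.1 (Cores.coprime_card_pPrimeCore 2)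
  have hzN : ∀ g ∈ M, pm tN * g * pm tN * g⁻¹ ∈ N := fun g hg => by
    refine ⟨_, ZStar.zStar_of_brauerSuzuki ZStar.uniqueInvolution hiso ⟨g, hg⟩, ?_⟩
    show pm tN * g * (pm tN)⁻¹ * g⁻¹ = _
    rw [inv_eq_of_mul_eq_one_right (z_sq κ)]
  have hgN : ∀ i, gen κ i ∈ N := fun i => by
    have h := hzN _ (hgM i)
    rw [z_inv] at h
    have e : (gen κ i)⁻¹ * (gen κ i)⁻¹ = gen κ i := by
      have h3 := R9_cube κ (gen_mem κ i)
      rw [← _root_.mul_inv_rev, inv_eq_iff_mul_eq_one, mul_assoc, ← pow_two, ← pow_succ']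
      exact h3
    rwa [e] at h
  have hRN : R9 κ ≤ N := by
    rw [R9, Subgroup.closure_le]
    rintro _ (rfl | rfl | rfl | rfl)
    exacts [hgN 0, hgN 1, hgN 2, hgN 3]
  -- the quotient by the scalars
  let S := (Cfsg.Geo.scalars (Fin 9) F).subgroupOf N
  have hS : S.Normal := ⟨fun a ha g => by
    have ha' : (a : GL (Fin 9) F) ∈ Cfsg.Geo.scalars (Fin 9) F := ha
    show (g : GL (Fin 9) F) * (a : GL (Fin 9) F) * (g : GL (Fin 9) F)⁻¹ ∈ Cfsg.Geo.scalars (Fin 9) F
    rw [← scalar_comm ha', mul_inv_cancel_right]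
    exact ha⟩
  let φ : N →* N :=
    { toFun := fun y => ⟨(pm tN : GL (Fin 9) F) * (y : GL (Fin 9) F) * pm tN, by
        have := hnorm _ hzM _ y.2
        rwa [inv_eq_of_mul_eq_one_right (z_sq κ)] at this⟩
      map_one' := Subtype.ext (by show pm tN * 1 * pm tN = 1; rw [mul_one, z_sq κ])
      map_mul' := fun a b => Subtype.ext (by
        show (pm tN : GL (Fin 9) F) * ((a : GL (Fin 9) F) * (b : GL (Fin 9) F)) * pm tN =
          pm tN * (a : GL (Fin 9) F) * pm tN * (pm tN * (b : GL (Fin 9) F) * pm tN)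
        calc (pm tN : GL (Fin 9) F) * ((a : GL (Fin 9) F) * (b : GL (Fin 9) F)) * pm tN
            = pm tN * (a : GL (Fin 9) F) * 1 * (b : GL (Fin 9) F) * pm tN := by group
          _ = _ := by rw [← z_sq κ]; group) }
  have hφS : S ≤ S.comap φ := fun a ha => by
    have ha' : (a : GL (Fin 9) F) ∈ Cfsg.Geo.scalars (Fin 9) F := ha
    show (pm tN : GL (Fin 9) F) * (a : GL (Fin 9) F) * pm tN ∈ Cfsg.Geo.scalars (Fin 9) F
    rw [← scalar_comm ha', mul_assoc, z_sq κ, mul_one]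
    exact ha
  let ψ : N ⧸ S →* N ⧸ S := QuotientGroup.map S S φ hφS
  have hinv : Function.Involutive ψ := fun q => by
    induction q using QuotientGroup.induction_on with
    | H a =>
      show ((φ (φ a) : N) : N ⧸ S) = _
      congr 1
      exact Subtype.ext (by
        show (pm tN : GL (Fin 9) F) * (pm tN * (a : GL (Fin 9) F) * pm tN) * pm tN = (a : GL (Fin 9) F)
        calc (pm tN : GL (Fin 9) F) * (pm tN * (a : GL (Fin 9) F) * pm tN) * pm tN
            = pm tN * pm tN * (a : GL (Fin 9) F) * (pm tN * pm tN) := by simp only [mul_assoc]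
          _ = (a : GL (Fin 9) F) := by rw [z_sq κ, one_mul, mul_one])
  have hfpf : MonoidHom.FixedPointFree ψ := fun q hq => by
    induction q using QuotientGroup.induction_on with
    | H a =>
      have h1 : (φ a)⁻¹ * a ∈ S := QuotientGroup.eq.1 hq
      rw [QuotientGroup.eq_one_iff]
      refine centralised_scalar κ O hno hNM hnorm hodd a.2 (mem_CN.2 ?_)
      set c : GL (Fin 9) F := ((pm tN : GL (Fin 9) F) * (a : GL (Fin 9) F) * pm tN)⁻¹ * (a : GL (Fin 9) F) with hc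
      have hcs : c ∈ Cfsg.Geo.scalars (Fin 9) F := h1
      have e : (a : GL (Fin 9) F) = pm tN * (a : GL (Fin 9) F) * pm tN * c := by rw [hc]; group
      have h2 : (a : GL (Fin 9) F) = (a : GL (Fin 9) F) * (c * c) := by
        calc (a : GL (Fin 9) F) = pm tN * (pm tN * (a : GL (Fin 9) F) * pm tN * c) * pm tN * c := by rw [← e, ← e]
          _ = pm tN * pm tN * (a : GL (Fin 9) F) * pm tN * (c * pm tN) * c := by group
          _ = pm tN * pm tN * (a : GL (Fin 9) F) * (pm tN * pm tN) * (c * c) := by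
            rw [scalar_comm hcs (pm tN)]; group
          _ = (a : GL (Fin 9) F) * (c * c) := by rw [z_sq κ, one_mul, mul_one]
      have hc1 : c = 1 := scalar_sq_one κ hcs (by
        have := h2.symm; rwa [mul_eq_left] at this)
      rw [hc1, mul_one] at e
      calc (a : GL (Fin 9) F) * pm tN = pm tN * (a : GL (Fin 9) F) * (pm tN * pm tN) := by
            nth_rw 1 [e]; rw [mul_assoc]
        _ = pm tN * (a : GL (Fin 9) F) := by rw [z_sq κ, mul_one]
  have hcomm := MonoidHom.FixedPointFree.commute_all_of_involutive hfpf hinv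
  have hNR : N ≤ R9 κ := fun x hx => by
    refine mem_R9_of_comm κ fun i => ?_
    have h := hcomm ((⟨x, hx⟩ : N) : N ⧸ S) ((⟨gen κ i, hgN i⟩ : N) : N ⧸ S)
    have h1 := QuotientGroup.eq.1 (show ((⟨gen κ i, hgN i⟩ * ⟨x, hx⟩ : N) : N ⧸ S) =
      ((⟨x, hx⟩ * ⟨gen κ i, hgN i⟩ : N) : N ⧸ S) from h.eq.symm)
    set c : GL (Fin 9) F := (gen κ i * x)⁻¹ * (x * gen κ i) with hc
    have hcs : c ∈ Cfsg.Geo.scalars (Fin 9) F := h1
    refine ⟨c, hcs, ?_⟩
    rw [scalar_comm hcs, mul_inv_eq_iff_eq_mul, mul_assoc, scalar_comm hcs x, hc]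
    group
  have hEq : N = R9 κ := le_antisymm hNR hRN
  intro g hg
  refine mem_norm_of_gens κ ?_ ?_ ?_ ?_ <;> rw [← hEq] <;>
    first
      | exact hnorm g hg _ (hgN 0) | exact hnorm g hg _ (hgN 1)
      | exact hnorm g hg _ (hgN 2) | exact hnorm g hg _ (hgN 3)

end Cfsg.Agent.C6NineU
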