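/-
The normaliser of a group of type 3^(1+4) is maximal in SU_9(p).
Main results: `model_maximal`, `exists_unitary_conj`, `symp_maximal`.
-/
import Cfsg.Agent.Lib.C6NineU.Bridge
import Cfsg.Agent.Lib.C6NineU.Two

set_option autoImplicit false
set_option linter.unusedSectionVars false
set_option linter.unusedSimpArgs false

namespace Cfsg.Agent.C6NineU

open Matrix Cfsg.Agent.Unitary
open scoped Matrix

variable {F : Type*} [Field F] [Fintype F] {p : ℕ} (κ : W9 F p)
include κ

/-- Some element is outside the normaliser. -/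
theorem exists_outside : ∃ g ∈ suGL 9 F p, g ∉ Cfsg.Geo.subgroupNormalizer (R9 κ) := by
  classical
  have hp0 : p ≠ 0 := κ.prime.ne_zero
  have H := hermForm_isHerm κ.card 9
  obtain ⟨ε, hε⟩ := exists_eps κ.card
  obtain ⟨δ, hδ0, hδ⟩ := exists_skew κ.card
  have hε0 : ε ≠ 0 := fun e => by simp [e] at hε
  set v : Fin 9 → F := Pi.single 0 1 + Pi.single 1 ε with hv
  have hvv : Cfsg.hermForm 9 F p v v = 0 := by
    simp [Cfsg.hermForm, hv, Fin.sum_univ_succ, Pi.single_apply, zero_pow hp0, ← pow_succ', hε]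
  set T := glTransvection κ.card v hvv δ (by rw [hδ, add_neg_cancel]) with hTdef
  refine ⟨T, suToGU_mem_suGL _, fun hT => ?_⟩
  have happ : ∀ x, (T : Matrix (Fin 9) (Fin 9) F) *ᵥ x = x + (δ * Cfsg.hermForm 9 F p x v) • v :=
    fun x => transvection_mulVec v x δ
  set x : GL (Fin 9) F := dg κ pK with hx
  have hxR : x ∈ R9 κ := (gens_mem κ).2.2.2
  set y := T * x * T⁻¹ * x⁻¹ with hy
  have hyR : y ∈ R9 κ := mul_mem ((Subgroup.mem_normalizer_iff.1 hT x).1 hxR) (inv_mem hxR)
  -- y fixes the basis vectors away from 0 and 1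
  have hfix : ∀ j : Fin 9, j ≠ 0 → j ≠ 1 → (y : Matrix (Fin 9) (Fin 9) F) *ᵥ Pi.single j 1 = Pi.single j 1 := by
    intro j h0 h1
    set e : Fin 9 → F := Pi.single j 1 with he
    have hxe : (x : Matrix (Fin 9) (Fin 9) F) *ᵥ e = κ.ω ^ (pK j : ℕ) • e := by
      rw [hx, dg_val, he, Matrix.mulVec_single_one]
      funext k
      by_cases hk : k = j
      · subst hk; simp
      · simp [hk]
    have hTe : (T : Matrix (Fin 9) (Fin 9) F) *ᵥ e = e := by
      have : Cfsg.hermForm 9 F p e v = 0 := by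
        simp [Cfsg.hermForm, he, hv, Pi.single_apply, ite_mul, h0, h1, zero_pow hp0]
      rw [happ, this, mul_zero, zero_smul, add_zero]
    have hTi : ((T⁻¹ : GL (Fin 9) F) : Matrix (Fin 9) (Fin 9) F) *ᵥ e = e := by
      conv_lhs => rw [← hTe]
      rw [Matrix.mulVec_mulVec, ← Units.val_mul, inv_mul_cancel, Units.val_one, Matrix.one_mulVec]
    have hxi : ((x⁻¹ : GL (Fin 9) F) : Matrix (Fin 9) (Fin 9) F) *ᵥ e = (κ.ω ^ (pK j : ℕ))⁻¹ • e := by
      have h := congrArg (fun u => ((x⁻¹ : GL (Fin 9) F) : Matrix (Fin 9) (Fin 9) F) *ᵥ u) hxe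
      simp only [Matrix.mulVec_smul] at h
      rw [Matrix.mulVec_mulVec, ← Units.val_mul, inv_mul_cancel, Units.val_one, Matrix.one_mulVec] at h
      rw [eq_inv_smul_iff₀ (pow_ne_zero _ κ.ne)]
      exact h.symm
    rw [hy, Units.val_mul, Units.val_mul, Units.val_mul, ← Matrix.mulVec_mulVec, hxi, ← Matrix.mulVec_mulVec,
      Matrix.mulVec_smul, hTi, ← Matrix.mulVec_mulVec, Matrix.mulVec_smul, hxe, Matrix.mulVec_smul,
      Matrix.mulVec_smul, hTe, inv_smul_smul₀ (pow_ne_zero _ κ.ne)]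
  have hy1 : y = 1 := by
    by_cases hs : y ∈ Cfsg.Geo.scalars (Fin 9) F
    · obtain ⟨c, hc⟩ := (Cfsg.Geo.mem_scalars_iff y).1 hs
      have := congrFun (hfix 2 (by decide) (by decide)) 2
      rw [hc, Matrix.smul_mulVec, Matrix.one_mulVec] at this
      simp at this
      exact Units.ext (by rw [hc, this, Units.val_one, one_smul, Units.val_one])
    · exfalso
      let f : Fin 7 → Fin 9 := fun i => ⟨i.val + 2, by omega⟩
      let L : (Fin 7 → F) →ₗ[F] (Fin 9 → F) := Fintype.linearCombination F fun i => Pi.single (f i) 1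
      have hLa : ∀ u i, L u (f i) = u i := fun u i => by
        simp only [L, Fintype.linearCombination_apply, Finset.sum_apply, Pi.smul_apply, Pi.single_apply,
          smul_eq_mul]
        rw [Finset.sum_eq_single i]
        · simp
        · intro b _ hb
          have : f i ≠ f b := fun e => hb (by simpa [f, Fin.ext_iff] using e.symm)
          simp [this]
        · simp
      have hinj : Function.Injective L := fun u w e => funext fun i => by rw [← hLa u, e, hLa]
      have h := eig_le κ hyR hs 1 (LinearMap.range L) (by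
        rintro _ ⟨u, rfl⟩
        show (y : Matrix (Fin 9) (Fin 9) F) *ᵥ (∑ i, u i • (Pi.single (f i) 1 : Fin 9 → F)) =
          (1 : F) • ∑ i, u i • (Pi.single (f i) 1 : Fin 9 → F)
        rw [one_smul, Matrix.mulVec_sum]
        refine Finset.sum_congr rfl fun i _ => ?_
        rw [Matrix.mulVec_smul, hfix (f i) (Fin.ne_of_val_ne (show i.val + 2 ≠ 0 by omega))
          (Fin.ne_of_val_ne (show i.val + 2 ≠ 1 by omega))])
      rw [LinearMap.finrank_range_of_inj hinj, Module.finrank_pi, Fintype.card_fin] at h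
      omega
  have hTx : T * x = x * T := by
    rw [hy] at hy1
    calc T * x = T * x * T⁻¹ * x⁻¹ * (x * T) := by group
      _ = x * T := by rw [hy1, one_mul]
  have e := congrArg (fun g : GL (Fin 9) F => ((g : Matrix (Fin 9) (Fin 9) F) *ᵥ Pi.single 0 1) 1) hTx
  simp only [Units.val_mul, ← Matrix.mulVec_mulVec] at e
  have hx0 : (x : Matrix (Fin 9) (Fin 9) F) *ᵥ (Pi.single 0 1 : Fin 9 → F) = Pi.single 0 1 := by
    rw [hx, dg_val, Matrix.mulVec_single_one]
    funext k
    by_cases hk : k = 0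
    · subst hk; simp [pK]
    · simp [hk]
  rw [hx0, happ] at e
  rw [hx, dg_val, Matrix.mulVec_diagonal] at e
  simp [Cfsg.hermForm, hv, Pi.single_apply, ite_mul, zero_pow hp0, pK] at e
  first
  | exact κ.ne_one (mul_right_cancel₀ (mul_ne_zero hδ0 hε0) (e.trans (one_mul _).symm))
  | exact κ.ne_one (mul_right_cancel₀ (mul_ne_zero hδ0 hε0) (e.symm.trans (one_mul _).symm))

/-- The normaliser of the standard group is maximal. -/
theorem model_maximal :
    Cfsg.Geo.IsMaximalIn (suGL 9 F p) (Cfsg.Geo.subgroupNormalizer (R9 κ) ⊓ suGL 9 F p) := by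
  refine Unitary.isMaximalIn_of_forall inf_le_right ?_ fun M hle hM g hg hgn => ?_
  · obtain ⟨g, hg, hn⟩ := exists_outside κ
    exact ⟨g, hg, fun h => hn h.1⟩
  by_contra hns
  have O : Over κ M := ⟨hM, hle⟩
  have hno : ∀ v, v ∈ centres p M → v = 0 := fun v hv => by
    by_contra hv0
    exact hns (O.full κ hv hv0)
  refine hgn ⟨?_, hM hg⟩
  by_cases h5 : 5 ≤ p
  · exact le_norm_odd κ h5 O hno hg
  · have hp := κ.prime.two_le
    have h3 := κ.mod3
    obtain rfl : p = 2 := by omega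
    exact le_norm_two κ O hno hg

/-- A group of exponent three in the similarity group consists of isometries. -/
theorem sim_le_GU {R : Subgroup (GL (Fin 9) F)} (hexp : ∀ r ∈ R, r ^ 3 = 1)
    (hsim : R ≤ Cfsg.Geo.similarityGroup (Cfsg.hermForm 9 F p)) : R ≤ Cfsg.GU 9 F p := by
  intro r hr
  have H := hermForm_isHerm κ.card 9
  obtain ⟨c, hc⟩ := hsim hr
  set e : Fin 9 → F := Pi.single 0 1
  have hee : Cfsg.hermForm 9 F p e e = 1 := (single_orthonormal κ.card 9).1 0
  have hcq : (c : F) ^ p = c := by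
    have h1 := hc e e
    rw [hee, mul_one] at h1
    rw [← h1]; exact H.self_fixed _
  have hc3 : (c : F) ^ 3 = 1 := by
    have hn : ∀ n : ℕ, ∀ u v, Cfsg.hermForm 9 F p (Transvect.app (r ^ n) u) (Transvect.app (r ^ n) v) =
        (c : F) ^ n * Cfsg.hermForm 9 F p u v := by
      intro n
      induction n with
      | zero => simp
      | succ n ih =>
        intro u v
        rw [pow_succ' r, map_mul, LinearEquiv.mul_apply, LinearEquiv.mul_apply, Transvect.app_apply,
          Transvect.app_apply (r : GL (Fin 9) F), hc, ih, pow_succ]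
        ring
    have h1 := hn 3 e e
    rw [hexp r hr, map_one, hee, mul_one] at h1
    exact h1.symm.trans hee
  have hc1 : (c : F) = 1 := by
    rw [pow_eq_pow_mod p hc3, κ.mod3] at hcq
    exact mul_left_cancel₀ c.ne_zero (by rw [mul_one, ← pow_two]; exact hcq)
  exact (mem_GU_iff r).2 fun u v => by rw [hc, hc1, one_mul]

/-- The conjugating matrix may be taken unitary. -/
theorem exists_unitary_conj {R : Subgroup (GL (Fin 9) F)} {B : GL (Fin 9) F}
    (hRB : R = (R9 κ).map (MulAut.conj B).toMonoidHom) (hR : R ≤ Cfsg.GU 9 F p) :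
    ∃ U ∈ Cfsg.GU 9 F p, R = (R9 κ).map (MulAut.conj U).toMonoidHom := by
  classical
  have H := hermForm_isHerm κ.card 9
  have hp0 : p ≠ 0 := κ.prime.ne_zero
  set h := Cfsg.hermForm 9 F p with hh
  let G : Fin 9 → Fin 9 → F :=
    fun i j => h (Transvect.app B (Pi.single i 1)) (Transvect.app B (Pi.single j 1))
  have hinv : ∀ x ∈ R9 κ, ∀ u v, h (Transvect.app B (Transvect.app x u)) (Transvect.app B (Transvect.app x v)) =
      h (Transvect.app B u) (Transvect.app B v) := by
    intro x hx u v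
    have hm : B * x * B⁻¹ ∈ Cfsg.GU 9 F p := hR (hRB ▸ ⟨x, hx, rfl⟩)
    have e : ∀ w, Transvect.app B (Transvect.app x w) = Transvect.app (B * x * B⁻¹) (Transvect.app B w) :=
      fun w => by rw [map_mul, map_mul, LinearEquiv.mul_apply, LinearEquiv.mul_apply, Transvect.app_inv_app]
    rw [e, e]
    exact (mem_GU_iff _).1 hm _ _
  obtain ⟨hX, hY, hI, hK⟩ := gens_mem κ
  have hdg : ∀ E : Fin 9 → Fin 3, dg κ E ∈ R9 κ → ∀ i j, E i ≠ E j → G i j = 0 := by
    intro E hE i j hne
    have hs : ∀ k, Transvect.app (dg κ E) (Pi.single k 1) = κ.ω ^ (E k : ℕ) • (Pi.single k 1 : Fin 9 → F) :=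
      fun k => by
        rw [Transvect.app_apply, dg_val, Matrix.mulVec_single_one]
        funext l
        by_cases hl : l = k
        · subst hl; simp
        · simp [hl]
    have h1 := hinv _ hE (Pi.single i 1) (Pi.single j 1)
    rw [hs, hs, map_smul, map_smul, H.smul_left, H.smul_right, ← pow_mul, mul_comm (E j : ℕ) p, pow_mul,
      κ.conj, ← pow_mul, ← mul_assoc, ← pow_add] at h1
    by_contra h0
    have h2 : κ.ω ^ ((E i : ℕ) + 2 * (E j : ℕ)) = 1 :=
      mul_right_cancel₀ (show G i j ≠ 0 from h0) (h1.trans (one_mul _).symm)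
    have h3 : κ.ω ^ (E i : ℕ) = κ.ω ^ (E j : ℕ) := by
      have h4 : κ.ω ^ (3 * (E j : ℕ)) = 1 := by rw [pow_mul, κ.cube, one_pow]
      have e1 : κ.ω ^ (E i : ℕ) * κ.ω ^ (3 * (E j : ℕ)) =
          κ.ω ^ (E j : ℕ) * κ.ω ^ ((E i : ℕ) + 2 * (E j : ℕ)) := by rw [← pow_add, ← pow_add]; ring_nf
      rwa [h4, h2, mul_one, mul_one] at e1
    exact hne (pow_fin_inj κ h3)
  have hoff : ∀ i j : Fin 9, i ≠ j → G i j = 0 := fun i j hij =>
    (sep_coords.1 i j hij).elim (hdg pI hI i j) (hdg pK hK i j)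
  have hpm : ∀ σ : Equiv.Perm (Fin 9), pm σ ∈ R9 κ → ∀ i, G (σ i) (σ i) = G i i := fun σ hσ i => by
    have hs : Transvect.app (pm σ : GL (Fin 9) F) (Pi.single i 1) = (Pi.single (σ i) 1 : Fin 9 → F) := by
      rw [Transvect.app_apply, Matrix.mulVec_single_one]
      funext l
      simp [Matrix.col_apply, pm_val, Pi.single_apply, eq_comm]
    have h1 := hinv _ hσ (Pi.single i 1) (Pi.single i 1)
    rwa [hs] at h1
  have hdiag : ∀ i : Fin 9, G i i = G 0 0 := by
    intro i
    obtain ⟨a, b, rfl⟩ := sep_coords.2 i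
    have hpow : ∀ σ : Equiv.Perm (Fin 9), pm σ ∈ R9 κ → ∀ (n : ℕ) r, G ((σ ^ n) r) ((σ ^ n) r) = G r r := by
      intro σ hσ n
      induction n with
      | zero => intro r; rfl
      | succ n ih => intro r; rw [pow_succ', Equiv.Perm.mul_apply, hpm σ hσ, ih]
    rw [Equiv.Perm.mul_apply, hpow tX hX, hpow tY hY]
  have hl0 : G 0 0 ≠ 0 := by
    intro e
    set w := Transvect.app B (Pi.single 0 1)
    have hz : ∀ x : Fin 9 → F, h w (Transvect.app B x) = 0 := fun x => by
      rw [pi_eq_sum_univ' x, map_sum, H.sum_right κ.card]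
      refine Finset.sum_eq_zero fun k _ => ?_
      rw [map_smul, H.smul_right]
      by_cases hk : k = 0
      · subst hk; rw [show h w _ = G 0 0 from rfl, e, mul_zero]
      · rw [show h w _ = G 0 k from rfl, hoff 0 k (Ne.symm hk), mul_zero]
    have hw0 : w ≠ 0 := fun e' => by
      have := congrFun ((Transvect.app B).map_eq_zero_iff.1 e') 0
      simp at this
    refine hw0 (funext fun i => ?_)
    have h1 := hz (Transvect.app B⁻¹ (Pi.single i 1))
    rwa [Transvect.app_app_inv, hh, hermForm_single_right κ.card] at h1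
  obtain ⟨μ, hμ⟩ := exists_norm_eq κ.card (c := G 0 0) (H.self_fixed _)
  have hμ0 : μ ≠ 0 := fun e => hl0 (by rw [← hμ, e]; simp)
  let z : GL (Fin 9) F :=
    { val := μ⁻¹ • 1
      inv := μ • 1
      val_inv := by simp [smul_smul, hμ0]
      inv_val := by simp [smul_smul, hμ0] }
  have hzc : ∀ g : GL (Fin 9) F, z * g = g * z := fun g => Units.ext (by simp [z])
  refine ⟨z * B, (mem_GU_iff _).2 ((isUnitary_iff_orthonormal κ.card _).2 ?_), ?_⟩
  · have hcol : ∀ i, (((z * B : GL (Fin 9) F) : Matrix (Fin 9) (Fin 9) F)ᵀ i) =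
        μ⁻¹ • Transvect.app B (Pi.single i 1) := fun i => by
      ext k; simp [z, Transvect.app_apply, Matrix.mulVec_single_one]
    refine ⟨fun i => ?_, fun i j hij => ?_⟩
    · simp only [hcol, ← hh, H.smul_left, H.smul_right]
      rw [show h (Transvect.app B (Pi.single i 1)) (Transvect.app B (Pi.single i 1)) = G i i
        from rfl, hdiag, ← hμ, pow_succ', _root_.inv_pow]
      field_simp
    · simp only [hcol, ← hh, H.smul_left, H.smul_right]
      rw [show h (Transvect.app B (Pi.single i 1)) (Transvect.app B (Pi.single j 1)) = G i j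
        from rfl, hoff i j hij]
      simp
  · rw [hRB]
    ext x
    simp only [Subgroup.mem_map, MulEquiv.coe_toMonoidHom, MulAut.conj_apply]
    have e : ∀ y, z * B * y * (z * B)⁻¹ = B * y * B⁻¹ := fun y => by
      rw [_root_.mul_inv_rev, show z * B * y * (B⁻¹ * z⁻¹) = z * (B * y * B⁻¹) * z⁻¹ by group, hzc,
        mul_inv_cancel_right]
    simp only [e]

end Cfsg.Agent.C6NineU

namespace Cfsg.Agent.C6NineU

open Matrix Cfsg.Agent.Unitary
open scoped Matrix

variable {F : Type*} [Field F] [Fintype F]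

/-- The normaliser of a group of type 3^(1+4) is maximal in SU_9(p). -/
theorem symp_maximal {q : ℕ} (hF : Fintype.card F = q ^ 2) (p : ℕ) (R : Subgroup (GL (Fin 9) F))
    (hp : p.Prime) (hqp : q = p) (hp3 : p % 3 = 2) (hR : Cfsg.Geo.IsSymplecticTypeGroup 3 R)
    (hirr : Cfsg.Geo.ActsAbsolutelyIrreducibly (Cfsg.Geo.matrixSet R))
    (hsim : R ≤ Cfsg.Geo.similarityGroup (Cfsg.hermForm 9 F q)) :
    Cfsg.Geo.IsMaximalIn (suGL 9 F q) (Cfsg.Geo.subgroupNormalizer R ⊓ suGL 9 F q) := by
  classical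
  subst hqp
  obtain ⟨κ⟩ := exists_W9 hF hp hp3
  have hexp : ∀ r : R, r ^ 3 = 1 := fun r => by
    have := Monoid.pow_exponent_eq_one r
    rwa [hR.exponent_eq] at this
  have hexp' : ∀ r ∈ R, r ^ 3 = 1 := fun r hr => congrArg Subtype.val (hexp ⟨r, hr⟩)
  have hcomm : ∀ r ∈ R, ∀ s ∈ R, r * s * r⁻¹ * s⁻¹ ∈ Cfsg.Geo.scalars (Fin 9) F := fun r hr s hs => by
    have hc := C6Three.comm_mem_center hR.pGroup hexp hR.cyclic_of_characteristic ⟨r, hr⟩ ⟨s, hs⟩
    obtain ⟨c, hc'⟩ := hirr.2 ((r * s * r⁻¹ * s⁻¹ : GL (Fin 9) F) : Matrix (Fin 9) (Fin 9) F) (by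
      rintro _ ⟨t, ht, rfl⟩
      exact congrArg (fun g : R => ((g : GL (Fin 9) F) : Matrix (Fin 9) (Fin 9) F))
        (Subgroup.mem_center_iff.1 hc ⟨t, ht⟩).symm)
    exact PrimeDim.smul_one_mem_scalars hc'
  obtain ⟨e, B, hB⟩ := C6Three.exists_conj_R9
    (κ := (⟨κ.ω, κ.rel, κ.three⟩ : C6Three.Cub F)) (by simp) hexp' hcomm hirr
  -- absorb the change of indexing
  set P : GL (Fin 9) F := pm (e9.symm.trans e) with hP
  have hRB : R = (R9 κ).map (MulAut.conj (B * P)).toMonoidHom := by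
    have hmaps : ((C6Three.stdMap e B : GL (Fin 3 × Fin 3) F ≃* GL (Fin 9) F).toMonoidHom) =
        (MulAut.conj (B * P)).toMonoidHom.comp (Cfsg.Geo.glReindex e9).toMonoidHom := by
      refine MonoidHom.ext fun g => ?_
      show B * Cfsg.Geo.glReindex e g * B⁻¹ = B * P * Cfsg.Geo.glReindex e9 g * (B * P)⁻¹
      have : Cfsg.Geo.glReindex e g * P = P * Cfsg.Geo.glReindex e9 g := by
        apply Units.ext
        ext r s
        rw [Units.val_mul, Units.val_mul, Matrix.mul_apply, Matrix.mul_apply,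
          Finset.sum_eq_single ((e9.symm.trans e) s) (fun b _ hb => by rw [hP, pm_val, if_neg hb.symm, mul_zero])
            (by simp),
          Finset.sum_eq_single ((e9.symm.trans e).symm r) (fun b _ hb => by
            rw [hP, pm_val, if_neg (fun h => hb (by rw [← h, Equiv.symm_apply_apply])), zero_mul]) (by simp),
          hP, pm_val, if_pos rfl, pm_val, if_pos (Equiv.apply_symm_apply _ _), mul_one, one_mul,
          C6Three.glReindex_val, C6Three.glReindex_val, Matrix.submatrix_apply, Matrix.submatrix_apply]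
        simp
      rw [show Cfsg.Geo.glReindex e g = P * Cfsg.Geo.glReindex e9 g * P⁻¹ by
        rw [← this, mul_inv_cancel_right]]
      group
    rw [hB, hmaps, ← Subgroup.map_map, R9w_map]
  obtain ⟨U, hU, rfl⟩ := exists_unitary_conj κ hRB (sim_le_GU κ hexp' hsim)
  have hmax := model_maximal κ
  set f := (MulAut.conj U).toMonoidHom
  have hf : Function.Injective f := (MulAut.conj U).injective
  have hs : Function.Surjective f := (MulAut.conj U).surjective
  have hstep : ∀ W ∈ Cfsg.GU 9 F q, ∀ x ∈ suGL 9 F q, W * x * W⁻¹ ∈ suGL 9 F q := fun W hW x hx =>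
    ⟨mul_mem (mul_mem hW hx.1) ((Cfsg.GU 9 F q).inv_mem hW), (MonoidHom.normal_ker _).conj_mem x hx.2 W⟩
  have hKf : (suGL 9 F q).map f = suGL 9 F q := by
    ext k
    constructor
    · rintro ⟨x, hx, rfl⟩; exact hstep U hU x hx
    · intro hk
      exact ⟨U⁻¹ * k * U, by have := hstep U⁻¹ ((Cfsg.GU 9 F q).inv_mem hU) k hk; rwa [inv_inv] at this, by
        show U * (U⁻¹ * k * U) * U⁻¹ = k; group⟩
  have hN : Cfsg.Geo.subgroupNormalizer ((R9 κ).map f) ⊓ suGL 9 F q =
      (Cfsg.Geo.subgroupNormalizer (R9 κ) ⊓ suGL 9 F q).map f := by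
    rw [Subgroup.map_inf _ _ f hf, hKf]
    congr 1
    exact (Subgroup.map_equiv_normalizer_eq (R9 κ) (MulAut.conj U)).symm
  rw [hN, ← hKf]
  refine ⟨?_, fun M h1 h2 => ?_⟩
  · conv_lhs => rw [hKf]
    exact (Subgroup.map_lt_map_iff_of_injective hf).2 hmax.1
  · obtain ⟨M0, rfl⟩ : ∃ M0, M0.map f = M := ⟨M.comap f, Subgroup.map_comap_eq_self_of_surjective hs M⟩
    rw [Subgroup.map_le_map_iff_of_injective hf] at h2
    rw [hKf, Subgroup.map_le_map_iff_of_injective hf] at h1
    rcases hmax.2 M0 h1 h2 with e | e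
    · exact Or.inl (by rw [e, hKf])
    · exact Or.inr (by rw [e])

end Cfsg.Agent.C6NineU
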